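import Mathlib

/-!
Norms in finite commutative rings with an involution: if some element differs from its conjugate
by a unit, every fixed unit is a norm, and every unit of norm one is a quotient (Hilbert 90).
-/

set_option autoImplicit false

namespace CfsgLib.IsometryConj

/-- In a finite field a binary quadratic form of non-zero discriminant represents everything. -/
theorem field_quadratic {K : Type*} [Field K] [Finite K] (s t u : K) (h : t * t - 4 * u ≠ 0) :
    ∃ a b : K, a * a + a * b * t + b * b * u = s := by
  by_cases h2 : (2 : K) = 0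
  · haveI : CharP K 2 := CharTwo.of_one_ne_zero_of_two_eq_zero one_ne_zero h2
    haveI : ExpChar K 2 := ExpChar.prime Nat.prime_two
    obtain ⟨a, ha⟩ := (frobeniusEquiv K 2).surjective s
    rw [frobeniusEquiv_apply, frobenius_def, pow_two] at ha
    exact ⟨a, 0, by rw [← ha]; ring⟩
  · haveI : Fintype K := Fintype.ofFinite K
    have hodd : Fintype.card K % 2 = 1 := by
      refine FiniteField.odd_card_of_char_ne_two fun hc => h2 ?_
      have := CharP.cast_eq_zero K (ringChar K)
      rw [hc] at this
      simpa using this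
    set c := u - t * t / 4 with hc
    have h4 : (4 : K) ≠ 0 := by
      intro h4
      exact h2 (mul_self_eq_zero.1 (by linear_combination h4))
    have hc0 : c ≠ 0 := by
      intro h0
      apply h
      rw [hc, sub_eq_zero] at h0
      rw [h0]
      field_simp
      ring
    obtain ⟨x, b, hxb⟩ := FiniteField.exists_root_sum_quadratic
      (f := Polynomial.X ^ 2 - Polynomial.C s) (g := Polynomial.C c * Polynomial.X ^ 2)
      (Polynomial.degree_X_pow_sub_C two_pos s) (Polynomial.degree_C_mul_X_pow 2 hc0) hodd
    simp only [Polynomial.eval_sub, Polynomial.eval_pow, Polynomial.eval_X, Polynomial.eval_C,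
      Polynomial.eval_mul] at hxb
    refine ⟨x - b * t / 2, b, ?_⟩
    have e : (x - b * t / 2) * (x - b * t / 2) + (x - b * t / 2) * b * t + b * b * u =
        x ^ 2 + c * b ^ 2 := by
      rw [hc]
      field_simp
      ring
    rw [e]
    linear_combination hxb

variable {R : Type*} [CommRing R]

/-- The same in a finite reduced ring. -/
theorem reduced_quadratic [Finite R] [IsReduced R] (s t u : R) (h : IsUnit (t * t - 4 * u)) :
    ∃ a b : R, a * a + a * b * t + b * b * u = s := by
  let e := IsArtinianRing.equivPi R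
  have hI : ∀ I : MaximalSpectrum R, ∃ a b : R ⧸ I.asIdeal,
      a * a + a * b * e t I + b * b * e u I = e s I := by
    intro I
    letI : Field (R ⧸ I.asIdeal) := Ideal.Quotient.field _
    haveI : Finite (R ⧸ I.asIdeal) := Finite.of_surjective _ Ideal.Quotient.mk_surjective
    refine field_quadratic _ _ _ ?_
    have h1 := (h.map e).map (Pi.evalRingHom (fun I : MaximalSpectrum R => R ⧸ I.asIdeal) I)
    simp only [Pi.evalRingHom_apply, map_sub, map_mul, map_ofNat, Pi.sub_apply, Pi.mul_apply] at h1
    exact h1.ne_zero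
  choose a b hab using hI
  refine ⟨e.symm a, e.symm b, e.injective ?_⟩
  simp only [map_add, map_mul, AlgEquiv.apply_symm_apply]
  exact funext hab

variable (f : R ≃+* R)

/-- Every fixed unit is a norm. -/
theorem exists_norm [Finite R] (hf : ∀ x, f (f x) = x) (θ : R) (hθ : IsUnit (θ - f θ)) {s : R}
    (hs : f s = s) (hu : IsUnit s) : ∃ y, IsUnit y ∧ y * f y = s := by
  let R₀ : Subring R :=
    { carrier := {x | f x = x}
      one_mem' := map_one f
      mul_mem' := fun {a b} ha hb => by simp_all
      zero_mem' := map_zero f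
      add_mem' := fun {a b} ha hb => by simp_all
      neg_mem' := fun {a} ha => by simp_all }
  let t : R₀ := ⟨θ + f θ, by show f _ = _; rw [map_add, hf, add_comm]⟩
  let u : R₀ := ⟨θ * f θ, by show f _ = _; rw [map_mul, hf, mul_comm]⟩
  have hfin : ∀ {x : R₀}, IsUnit (x : R) → IsUnit x := by
    intro x hx
    have hinj : Function.Injective fun z : R₀ => x * z := fun a b hab => Subtype.ext
      (hx.mul_left_cancel (congrArg Subtype.val hab :))
    obtain ⟨z, hz⟩ := Finite.surjective_of_injective hinj 1
    exact IsUnit.of_mul_eq_one z hz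
  have hdisc : IsUnit (t * t - 4 * u) := by
    refine hfin ?_
    have : ((t * t - 4 * u : R₀) : R) = (θ - f θ) * (θ - f θ) := by
      push_cast
      simp only [t, u]
      have h4 : ((4 : R₀) : R) = 4 := map_ofNat R₀.subtype 4
      rw [h4]
      ring
    rw [this]
    exact hθ.mul hθ
  let π := Ideal.Quotient.mk (nilradical R₀)
  haveI : Finite (R₀ ⧸ nilradical R₀) := Finite.of_surjective _ Ideal.Quotient.mk_surjective
  haveI : IsReduced (R₀ ⧸ nilradical R₀) :=
    (Ideal.isRadical_iff_quotient_reduced (nilradical R₀)).1 (Ideal.radical_isRadical _)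
  obtain ⟨a', b', hab⟩ := reduced_quadratic (π ⟨s, hs⟩) (π t) (π u)
    (by simpa [map_sub, map_mul, map_ofNat] using hdisc.map π)
  obtain ⟨a, rfl⟩ := Ideal.Quotient.mk_surjective a'
  obtain ⟨b, rfl⟩ := Ideal.Quotient.mk_surjective b'
  rw [← map_mul, ← map_mul, ← map_mul, ← map_mul, ← map_mul, ← map_add, ← map_add,
    Ideal.Quotient.eq, mem_nilradical] at hab
  let y₀ : R := (a : R) + (b : R) * θ
  have hy₀ : IsNilpotent (s - y₀ * f y₀) := by
    have h1 := (hab.map R₀.subtype).neg
    have e : -(R₀.subtype (a * a + a * b * t + b * b * u - ⟨s, hs⟩)) = s - y₀ * f y₀ := by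
      have ha : f (a : R) = a := a.2
      have hb : f (b : R) = b := b.2
      simp only [y₀, map_add, map_mul, map_sub, ha, hb, Subring.coe_subtype, t, u]
      ring
    rwa [e] at h1
  -- correct the approximation
  obtain ⟨δ, hδ⟩ := hθ.exists_right_inv
  let e : R := θ * δ
  have hfδ : f δ = -δ := by
    have h1 := congrArg f hδ
    rw [map_mul, map_sub, hf, map_one] at h1
    calc f δ = f δ * ((θ - f θ) * δ) := by rw [hδ, mul_one]
      _ = -(((f θ - θ) * f δ) * δ) := by ring
      _ = -δ := by rw [h1, one_mul]
  have he : e + f e = 1 := by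
    simp only [e, map_mul, hfδ]
    linear_combination hδ
  have hstep : ∀ j : ℕ, ∀ y : R, (s - y * f y) ^ (2 ^ j) = 0 → ∃ y, y * f y = s := by
    intro j
    induction j with
    | zero =>
      intro y hy
      rw [pow_zero, pow_one, sub_eq_zero] at hy
      exact ⟨y, hy.symm⟩
    | succ j ih =>
      intro y hy
      set r := s - y * f y with hr
      have hyu : IsUnit (y * f y) := by
        rw [show y * f y = s + -r by rw [hr]; ring]
        exact (IsNilpotent.neg (show IsNilpotent r from ⟨_, hy⟩)).isUnit_add_left_of_commute hu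
          (Commute.all _ _)
      obtain ⟨v, hv⟩ := (isUnit_of_mul_isUnit_right hyu).exists_right_inv
      have hfr : f r = r := by rw [hr, map_sub, hs, map_mul, hf, mul_comm (f y)]
      have hfv : y * f v = 1 := by
        have := congrArg f hv
        rwa [map_mul, hf, map_one] at this
      refine ih (y + e * r * v) ?_
      have : s - (y + e * r * v) * f (y + e * r * v) = r ^ 2 * (-(e * f e * v * f v)) := by
        simp only [map_add, map_mul, hfr]
        have h3 : f y * v = 1 := hv
        linear_combination hr.symm - r * he - (e * r) * h3 - (f e * r) * hfv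
      rw [this, mul_pow, ← pow_mul, ← pow_succ', hy, zero_mul]
  obtain ⟨k, hk⟩ := hy₀
  obtain ⟨y, hy⟩ := hstep k y₀ (pow_eq_zero_of_le (Nat.lt_two_pow_self).le hk)
  exact ⟨y, isUnit_of_mul_isUnit_left (hy.symm ▸ hu), hy⟩

/-- Hilbert 90: a unit of norm one is a quotient. -/
theorem exists_quotient [Finite R] (hf : ∀ x, f (f x) = x) (θ : R) (hθ : IsUnit (θ - f θ)) {T : R}
    (hT : T * f T = 1) : ∃ y, IsUnit y ∧ f y * T = y := by
  classical
  let φ : Rˣ →* Rˣ := Units.map (f : R →* R)
  have hφ : ∀ x, φ (φ x) = x := fun x => Units.ext (hf _)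
  let N : Rˣ →* Rˣ := MonoidHom.id Rˣ * φ
  let D : Rˣ →* Rˣ := MonoidHom.id Rˣ / φ
  have hN : ∀ x, N x = x * φ x := fun x => rfl
  have hD : ∀ x, D x = x / φ x := fun x => rfl
  have h1 : N.range = D.ker := by
    ext x
    rw [MonoidHom.mem_range, MonoidHom.mem_ker, hD, div_eq_one]
    constructor
    · rintro ⟨y, rfl⟩
      rw [hN, map_mul, hφ, mul_comm]
    · intro hx
      obtain ⟨y, hy, hys⟩ := exists_norm f hf θ hθ (s := (x : R)) (congrArg Units.val hx).symm x.isUnit
      exact ⟨hy.unit, Units.ext hys⟩
  have h2 : D.range = N.ker := by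
    have hle : D.range ≤ N.ker := by
      rintro _ ⟨y, rfl⟩
      rw [MonoidHom.mem_ker, hN, hD, map_div, hφ, div_mul_div_comm, mul_comm (φ y), div_self']
    refine Subgroup.eq_of_le_of_card_ge hle (le_of_eq ?_)
    have eN := Subgroup.card_mul_index N.ker
    have eD := Subgroup.card_mul_index D.ker
    rw [Subgroup.index_ker] at eN eD
    rw [← h1, ← eN, mul_comm (Nat.card N.ker)] at eD
    exact (Nat.eq_of_mul_eq_mul_left Nat.card_pos eD).symm
  let T' : Rˣ := Units.mkOfMulEqOne T (f T) hT
  have hmem : T' ∈ N.ker := Units.ext hT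
  rw [← h2] at hmem
  obtain ⟨y, hy⟩ := hmem
  refine ⟨y, y.isUnit, ?_⟩
  have h3 : φ y * T' = y := by rw [← hy, hD, mul_div_cancel]
  exact congrArg Units.val h3

end CfsgLib.IsometryConj
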