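import Mathlib
import Cfsg.Agent.Lib.IsometryConj.Norm

/-!
Isometries (elements `A` with `A* A = 1`) of a finite ring with an anti-involution: similar
isometries are conjugate by an isometry, and an element similar to its contragredient is similar to
an isometry, as soon as some element of the right kind differs from its adjoint by a unit.
-/

set_option autoImplicit false

namespace CfsgLib.IsometryConj

variable {M : Type*} [Ring M]

theorem commute_of_mem_closure {T : Set M} {x : M} (h : ∀ a ∈ T, Commute x a) {y : M}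
    (hy : y ∈ Subring.closure T) : Commute x y := by
  induction hy using Subring.closure_induction with
  | mem a ha => exact h a ha
  | zero => exact Commute.zero_right x
  | one => exact Commute.one_right x
  | add a b _ _ ha hb => exact ha.add_right hb
  | neg a _ ha => exact ha.neg_right
  | mul a b _ _ ha hb => exact ha.mul_right hb

theorem commute_closure {T : Set M} (hc : ∀ a ∈ T, ∀ b ∈ T, Commute a b) {x y : M}
    (hx : x ∈ Subring.closure T) (hy : y ∈ Subring.closure T) : Commute x y :=
  commute_of_mem_closure (fun a ha =>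
    (commute_of_mem_closure (fun b hb => hc a ha b hb) hx).symm) hy

theorem isUnit_in_subring [Finite M] (R : Subring M) {x : R} (hx : IsUnit (x : M)) : IsUnit x := by
  have hinj : Function.Injective fun z : R => x * z := fun a b hab => Subtype.ext
    (hx.mul_left_cancel (congrArg Subtype.val hab :))
  obtain ⟨z, hz⟩ := Finite.surjective_of_injective hinj 1
  have hinj' : Function.Injective fun z : R => z * x := fun a b hab => Subtype.ext
    (hx.mul_right_cancel (congrArg Subtype.val hab :))
  obtain ⟨w, hw⟩ := Finite.surjective_of_injective hinj' 1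
  exact ⟨⟨x, z, hz, by rw [← show w = z from left_inv_eq_right_inv hw hz]; exact hw⟩, rfl⟩

/-- A map that is an involutive automorphism on the closure of a commuting set. -/
structure ClosureInvol (T : Set M) (f : M → M) : Prop where
  comm : ∀ a ∈ T, ∀ b ∈ T, Commute a b
  map_add : ∀ x y, f (x + y) = f x + f y
  map_one : f 1 = 1
  map_mul : ∀ x ∈ Subring.closure T, ∀ y ∈ Subring.closure T, f (x * y) = f x * f y
  mem : ∀ a ∈ T, f a ∈ Subring.closure T
  invol : ∀ x ∈ Subring.closure T, f (f x) = x

variable {T : Set M} {f : M → M}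

theorem ClosureInvol.map_mem (h : ClosureInvol T f) {x : M} (hx : x ∈ Subring.closure T) :
    f x ∈ Subring.closure T := by
  have h0 : f 0 = 0 := by
    have := h.map_add 0 0
    rw [add_zero] at this
    exact add_eq_left.1 this.symm
  induction hx using Subring.closure_induction with
  | mem a ha => exact h.mem a ha
  | zero => rw [h0]; exact zero_mem _
  | one => rw [h.map_one]; exact one_mem _
  | add a b _ _ ha hb => rw [h.map_add]; exact add_mem ha hb
  | neg a _ ha =>
    have : f (-a) = -f a := eq_neg_of_add_eq_zero_left (by rw [← h.map_add, neg_add_cancel, h0])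
    rw [this]; exact neg_mem ha
  | mul a b ha' hb' ha hb => rw [h.map_mul a ha' b hb']; exact mul_mem ha hb

/-- the restriction to the closure -/
noncomputable def ClosureInvol.equiv (h : ClosureInvol T f) : Subring.closure T ≃+* Subring.closure T where
  toFun x := ⟨f x, h.map_mem x.2⟩
  invFun x := ⟨f x, h.map_mem x.2⟩
  left_inv x := Subtype.ext (h.invol x x.2)
  right_inv x := Subtype.ext (h.invol x x.2)
  map_add' x y := Subtype.ext (h.map_add x y)
  map_mul' x y := Subtype.ext (h.map_mul x x.2 y y.2)

theorem ClosureInvol.exists_norm [Finite M] (h : ClosureInvol T f) {θ : M}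
    (hθ : θ ∈ Subring.closure T) (hθu : IsUnit (θ - f θ)) {S : M} (hS : S ∈ Subring.closure T)
    (hfS : f S = S) (hu : IsUnit S) : ∃ y ∈ Subring.closure T, IsUnit y ∧ y * f y = S := by
  letI : CommRing (Subring.closure T) := Subring.closureCommRingOfComm h.comm
  obtain ⟨y, hy, hys⟩ := CfsgLib.IsometryConj.exists_norm h.equiv (fun x => Subtype.ext (h.invol x x.2))
    ⟨θ, hθ⟩ (isUnit_in_subring _ hθu) (s := ⟨S, hS⟩) (Subtype.ext hfS) (isUnit_in_subring _ hu)
  exact ⟨y, y.2, hy.map (Subring.closure T).subtype, congrArg Subtype.val hys⟩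

theorem ClosureInvol.exists_quotient [Finite M] (h : ClosureInvol T f) {θ : M}
    (hθ : θ ∈ Subring.closure T) (hθu : IsUnit (θ - f θ)) {S : M} (hS : S ∈ Subring.closure T)
    (hfS : S * f S = 1) : ∃ y ∈ Subring.closure T, IsUnit y ∧ f y * S = y := by
  letI : CommRing (Subring.closure T) := Subring.closureCommRingOfComm h.comm
  obtain ⟨y, hy, hys⟩ := CfsgLib.IsometryConj.exists_quotient h.equiv
    (fun x => Subtype.ext (h.invol x x.2))
    ⟨θ, hθ⟩ (isUnit_in_subring _ hθu) (T := ⟨S, hS⟩) (Subtype.ext hfS)
  exact ⟨y, y.2, hy.map (Subring.closure T).subtype, congrArg Subtype.val hys⟩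

/-- An anti-involution of a ring. -/
structure Adjoint (M : Type*) [Ring M] where
  /-- the adjoint -/
  st : M → M
  st_add : ∀ x y, st (x + y) = st x + st y
  st_mul : ∀ x y, st (x * y) = st y * st x
  st_st : ∀ x, st (st x) = x

variable (J : Adjoint M)

theorem Adjoint.st_one : J.st 1 = 1 := by
  have h := J.st_mul (J.st 1) 1
  rw [mul_one, J.st_st, mul_one] at h
  exact h.symm

theorem Adjoint.commute {x y : M} (h : Commute x y) : Commute (J.st x) (J.st y) := by
  unfold Commute SemiconjBy
  rw [← J.st_mul, ← J.st_mul, h.eq]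

theorem Adjoint.invol {T : Set M} (hc : ∀ a ∈ T, ∀ b ∈ T, Commute a b)
    (hmem : ∀ a ∈ T, J.st a ∈ Subring.closure T) : ClosureInvol T J.st where
  comm := hc
  map_add := J.st_add
  map_one := J.st_one
  map_mul x hx y hy := by rw [(commute_closure hc hx hy).eq, J.st_mul]
  mem := hmem
  invol x _ := J.st_st x

variable [Finite M]

/-- Similar isometries are conjugate by an isometry. -/
theorem exists_isometry_conj (A B P : Mˣ) (hA : J.st (A : M) * A = 1) (hB : J.st (B : M) * B = 1)
    (hP : (P : M) * A = B * P) (θ : M) (hθ : ∀ x : M, Commute x A → Commute x θ)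
    (hθu : IsUnit (θ - J.st θ)) :
    ∃ U : Mˣ, J.st (U : M) * U = 1 ∧ (U : M) * A = B * U := by
  have hA' : J.st (A : M) = ((A⁻¹ : Mˣ) : M) := Units.eq_inv_of_mul_eq_one_right hA
  have hB' : J.st (B : M) = ((B⁻¹ : Mˣ) : M) := Units.eq_inv_of_mul_eq_one_right hB
  have hAinv : J.st ((A⁻¹ : Mˣ) : M) = (A : M) := by rw [← hA', J.st_st]
  set S : M := J.st (P : M) * P with hSdef
  have hSA : Commute S (A : M) := by
    have h1 : ((A⁻¹ : Mˣ) : M) * J.st (P : M) = J.st (P : M) * ((B⁻¹ : Mˣ) : M) := by
      rw [← hA', ← hB', ← J.st_mul, ← J.st_mul, hP]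
    have h3 : (A : M) * J.st (P : M) = J.st (P : M) * B := by
      calc (A : M) * J.st (P : M) = (A : M) * (J.st (P : M) * ((B⁻¹ : Mˣ) : M)) * B := by
            simp [mul_assoc]
        _ = J.st (P : M) * B := by rw [← h1]; simp [← mul_assoc]
    show S * A = A * S
    rw [hSdef, mul_assoc, hP, ← mul_assoc, ← h3, mul_assoc]
  have hθA : Commute θ (A : M) := (hθ _ (Commute.refl _)).symm
  have hst : ∀ x : M, Commute x A → Commute x (J.st θ) := by
    intro x hx
    have h1 : Commute (J.st x) (A : M) := by
      have := J.commute hx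
      rw [hA'] at this
      simpa using this.units_inv_right
    have := J.commute (hθ _ h1)
    rwa [J.st_st] at this
  let T : Set M := {(A : M), ((A⁻¹ : Mˣ) : M), S, θ, J.st θ}
  have hcA : ∀ a ∈ T, Commute a (A : M) := by
    rintro a (rfl | rfl | rfl | rfl | rfl)
    · exact Commute.refl _
    · exact (Commute.refl (A : M)).units_inv_left
    · exact hSA
    · exact hθA
    · exact (hst _ (Commute.refl _)).symm
  have hc : ∀ a ∈ T, ∀ b ∈ T, Commute a b := by
    intro a ha b hb
    rcases hb with rfl | rfl | rfl | rfl | rfl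
    · exact hcA a ha
    · exact (hcA a ha).units_inv_right
    · rcases ha with rfl | rfl | rfl | rfl | rfl
      · exact hSA.symm
      · exact hSA.symm.units_inv_left
      · exact Commute.refl _
      · exact (hθ S hSA).symm
      · exact (hst S hSA).symm
    · exact hθ a (hcA a ha)
    · exact hst a (hcA a ha)
  have hmem : ∀ a ∈ T, J.st a ∈ Subring.closure T := by
    rintro a (rfl | rfl | rfl | rfl | rfl)
    · rw [hA']; exact Subring.subset_closure (by simp [T])
    · rw [hAinv]; exact Subring.subset_closure (by simp [T])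
    · rw [show J.st S = S by rw [hSdef, J.st_mul, J.st_st]]
      exact Subring.subset_closure (by simp [T])
    · exact Subring.subset_closure (by simp [T])
    · rw [J.st_st]; exact Subring.subset_closure (by simp [T])
  have hPu : IsUnit (J.st (P : M)) :=
    ⟨⟨J.st (P : M), J.st ((P⁻¹ : Mˣ) : M), by rw [← J.st_mul, Units.inv_mul, J.st_one],
      by rw [← J.st_mul, Units.mul_inv, J.st_one]⟩, rfl⟩
  obtain ⟨y, hyT, hy, hys⟩ := (J.invol hc hmem).exists_norm (θ := θ)
    (Subring.subset_closure (by simp [T])) hθu (S := S) (Subring.subset_closure (by simp [T]))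
    (by rw [hSdef, J.st_mul, J.st_st]) (hPu.mul P.isUnit)
  obtain ⟨u, rfl⟩ := hy
  have hyA : Commute (u : M) (A : M) :=
    commute_closure hc hyT (Subring.subset_closure (by simp [T]))
  have hcomm : (u : M) * J.st (u : M) = J.st (u : M) * u :=
    (commute_closure hc hyT ((J.invol hc hmem).map_mem hyT)).eq
  refine ⟨P * u⁻¹, ?_, ?_⟩
  · rw [Units.val_mul, J.st_mul, mul_assoc, ← mul_assoc (J.st (P : M)), ← hSdef, ← hys, hcomm,
      mul_assoc, Units.mul_inv, mul_one, ← J.st_mul, Units.mul_inv, J.st_one]
  · rw [Units.val_mul, mul_assoc, (hyA.units_inv_left).eq, ← mul_assoc, hP, mul_assoc]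

/-- the adjoint on units -/
def Adjoint.stUnit (u : Mˣ) : Mˣ :=
  ⟨J.st (u : M), J.st ((u⁻¹ : Mˣ) : M), by rw [← J.st_mul, Units.inv_mul, J.st_one],
    by rw [← J.st_mul, Units.mul_inv, J.st_one]⟩

omit [Finite M] in
theorem Adjoint.stUnit_mul (u v : Mˣ) : J.stUnit (u * v) = J.stUnit v * J.stUnit u :=
  Units.ext (J.st_mul _ _)

omit [Finite M] in
theorem Adjoint.stUnit_stUnit (u : Mˣ) : J.stUnit (J.stUnit u) = u :=
  Units.ext (J.st_st _)

omit [Finite M] in
theorem Adjoint.stUnit_inv (u : Mˣ) : J.stUnit u⁻¹ = (J.stUnit u)⁻¹ :=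
  Units.ext rfl

/-- An element similar to its contragredient is similar to an isometry. -/
theorem exists_similar_isometry (A P : Mˣ) (hP : J.st (A : M) * P * A = P) (θ : M)
    (hθ : ∀ x : M, Commute x θ) (hθu : IsUnit (θ - J.st θ)) :
    ∃ Y : Mˣ, J.st ((Y * A * Y⁻¹ : Mˣ) : M) * ((Y * A * Y⁻¹ : Mˣ) : M) = 1 := by
  have hst : ∀ x : M, Commute x (J.st θ) := fun x => by
    have := J.commute (hθ (J.st x))
    rwa [J.st_st] at this
  set A' := J.stUnit A with hA'
  set P' := J.stUnit P with hP'
  have e1 : A' * P * A = P := Units.ext hP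
  have e2 : A' * P' * A = P' := by
    have h := congrArg J.stUnit e1
    rw [J.stUnit_mul, J.stUnit_mul, J.stUnit_stUnit, ← mul_assoc] at h
    exact h
  set R : Mˣ := P⁻¹ * P' with hR
  have hRA : R * A = A * R := by
    have h1 : P' * A = A'⁻¹ * P' := by rw [eq_inv_mul_iff_mul_eq, ← mul_assoc, e2]
    have h2 : P * A = A'⁻¹ * P := by rw [eq_inv_mul_iff_mul_eq, ← mul_assoc, e1]
    have h3 : P⁻¹ * A'⁻¹ = A * P⁻¹ := by
      rw [eq_mul_inv_iff_mul_eq, mul_assoc, ← h2, inv_mul_cancel_left]
    rw [hR, mul_assoc, h1, ← mul_assoc, h3, mul_assoc]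
  let g : M → M := fun x => ((P⁻¹ : Mˣ) : M) * J.st x * P
  have hgu : ∀ u : Mˣ, g u = ((P⁻¹ * J.stUnit u * P : Mˣ) : M) := fun u => rfl
  have hgR : g R = ((R⁻¹ : Mˣ) : M) := by
    rw [hgu, hR, J.stUnit_mul, J.stUnit_inv, hP', J.stUnit_stUnit]
    congr 1
    group
  have hgRi : g ((R⁻¹ : Mˣ) : M) = (R : M) := by
    rw [hgu, hR, J.stUnit_inv, J.stUnit_mul, J.stUnit_inv, hP', J.stUnit_stUnit]
    congr 1
    group
  have hgc : ∀ x : M, Commute (P : M) (J.st x) → g x = J.st x := fun x hx => by
    simp only [g]
    rw [mul_assoc, ← hx.eq, Units.inv_mul_cancel_left]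
  let T : Set M := {(R : M), ((R⁻¹ : Mˣ) : M), θ, J.st θ}
  have hc : ∀ a ∈ T, ∀ b ∈ T, Commute a b := by
    intro a ha b hb
    rcases hb with rfl | rfl | rfl | rfl
    · rcases ha with rfl | rfl | rfl | rfl
      · exact Commute.refl _
      · exact (Commute.refl (R : M)).units_inv_left
      · exact (hθ _).symm
      · exact (hst _).symm
    · rcases ha with rfl | rfl | rfl | rfl
      · exact (Commute.refl (R : M)).units_inv_right
      · exact Commute.refl _
      · exact (hθ _).symm
      · exact (hst _).symm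
    · exact hθ a
    · exact hst a
  have hRmem : ∀ x ∈ Subring.closure T, Commute (R : M) x := fun x hx =>
    commute_closure hc (Subring.subset_closure (by simp [T])) hx
  have hinv : ClosureInvol T g :=
    { comm := hc
      map_add := fun x y => by simp [g, J.st_add, mul_add, add_mul]
      map_one := by simp [g, J.st_one]
      map_mul := fun x hx y hy => by
        rw [(commute_closure hc hx hy).eq]
        simp [g, J.st_mul, mul_assoc]
      mem := by
        rintro a (rfl | rfl | h | h)
        · rw [hgR]; exact Subring.subset_closure (by simp [T])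
        · rw [hgRi]; exact Subring.subset_closure (by simp [T])
        · rw [h, hgc θ (hst _)]; exact Subring.subset_closure (by simp [T])
        · rw [Set.mem_singleton_iff.1 h, hgc (J.st θ) (by rw [J.st_st]; exact hθ _), J.st_st]
          exact Subring.subset_closure (by simp [T])
      invol := fun x hx => by
        have e : g (g x) = ((P⁻¹ : Mˣ) : M) * ((P' : M) * x * ((P'⁻¹ : Mˣ) : M)) * P := by
          simp only [g, J.st_mul, J.st_st]
          simp only [mul_assoc]
          rfl
        rw [e]
        calc _ = (R : M) * x * ((R⁻¹ : Mˣ) : M) := by simp [hR, mul_assoc]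
          _ = x := by rw [(hRmem x hx).eq, mul_assoc, Units.mul_inv, mul_one] }
  obtain ⟨y, hyT, hy, hyR⟩ := hinv.exists_quotient (θ := θ)
    (Subring.subset_closure (by simp [T])) (by rw [hgc θ (hst _)]; exact hθu) (S := (R : M))
    (Subring.subset_closure (by simp [T])) (by rw [hgR, Units.mul_inv])
  obtain ⟨c, rfl⟩ := hy
  have hcA : Commute (c : M) (A : M) := by
    refine (commute_of_mem_closure ?_ hyT).symm
    rintro a (rfl | rfl | rfl | rfl)
    · exact congrArg Units.val hRA.symm
    · exact Commute.units_inv_right (congrArg Units.val hRA.symm)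
    · exact hθ _
    · exact hst _
  set H : Mˣ := P * c with hH
  have hHsymm : J.stUnit H = H := by
    have h1 : P⁻¹ * J.stUnit c * P * R = c := Units.ext hyR
    rw [hH, J.stUnit_mul]
    conv_rhs => rw [← h1, hR]
    rw [hP']
    group
  have hHA : A' * H * A = H := by
    have h1 : c * A = A * c := Units.ext hcA
    rw [hH, mul_assoc, mul_assoc P, h1, ← mul_assoc P, ← mul_assoc, ← mul_assoc, e1]
  let T' : Set M := {(H : M), θ, J.st θ}
  have hc' : ∀ a ∈ T', ∀ b ∈ T', Commute a b := by
    intro a ha b hb
    rcases hb with rfl | rfl | rfl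
    · rcases ha with rfl | rfl | rfl
      · exact Commute.refl _
      · exact (hθ _).symm
      · exact (hst _).symm
    · exact hθ a
    · exact hst a
  have hmem' : ∀ a ∈ T', J.st a ∈ Subring.closure T' := by
    rintro a (rfl | rfl | rfl)
    · rw [show J.st (H : M) = (H : M) from congrArg Units.val hHsymm]
      exact Subring.subset_closure (by simp [T'])
    · exact Subring.subset_closure (by simp [T'])
    · rw [J.st_st]; exact Subring.subset_closure (by simp [T'])
  obtain ⟨z, -, hz, hzH⟩ := (J.invol hc' hmem').exists_norm (θ := θ)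
    (Subring.subset_closure (by simp [T'])) hθu (S := (H : M)) (Subring.subset_closure (by simp [T']))
    (congrArg Units.val hHsymm) H.isUnit
  obtain ⟨w, rfl⟩ := hz
  refine ⟨J.stUnit w, ?_⟩
  have hw : w * J.stUnit w = H := Units.ext hzH
  show ((J.stUnit (J.stUnit w * A * (J.stUnit w)⁻¹) * (J.stUnit w * A * (J.stUnit w)⁻¹) : Mˣ) : M) = 1
  rw [J.stUnit_mul, J.stUnit_mul, J.stUnit_inv, J.stUnit_stUnit]
  have : w⁻¹ * (A' * w) * (J.stUnit w * A * (J.stUnit w)⁻¹) = 1 := by
    calc w⁻¹ * (A' * w) * (J.stUnit w * A * (J.stUnit w)⁻¹)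
        = w⁻¹ * (A' * (w * J.stUnit w) * A) * (J.stUnit w)⁻¹ := by group
      _ = 1 := by rw [hw, hHA, ← hw]; group
  rw [this, Units.val_one]

end CfsgLib.IsometryConj
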