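import Mathlib
import Cfsg.Agent.Lib.IsometryConj.Conj

/-!
Conjugating isometries by isometries when the element differing from its adjoint by a unit exists
only outside a corner `e M e`, in which the correction is given; averaging idempotents.
-/

set_option autoImplicit false

namespace CfsgLib.IsometryConj

/-- Norms modulo a fixed idempotent. -/
theorem exists_norm_mod {R : Type*} [CommRing R] [Finite R] (f : R ≃+* R) (hf : ∀ x, f (f x) = x)
    {e : R} (hfe : f e = e) (θ : R) (hθ : IsUnit (θ - f θ + e)) {s : R} (hs : f s = s)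
    (hu : IsUnit s) : ∃ y c, y * f y = s + c * e := by
  let I : Ideal R := Ideal.span {e}
  have hI : I = I.map (f : R →+* R) := by
    rw [Ideal.map_span, Set.image_singleton, RingHom.coe_coe, hfe]
  let g : R ⧸ I ≃+* R ⧸ I := Ideal.quotientEquiv I I f hI
  have hg : ∀ x, g (Ideal.Quotient.mk I x) = Ideal.Quotient.mk I (f x) := fun x => rfl
  have he : Ideal.Quotient.mk I e = 0 :=
    Ideal.Quotient.eq_zero_iff_mem.2 (Ideal.subset_span rfl)
  haveI : Finite (R ⧸ I) := Finite.of_surjective _ Ideal.Quotient.mk_surjective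
  obtain ⟨y', -, hy'⟩ := exists_norm g (fun x => by
      obtain ⟨x, rfl⟩ := Ideal.Quotient.mk_surjective x
      rw [hg, hg, hf]) (Ideal.Quotient.mk I θ)
    (by rw [hg, ← map_sub, ← add_zero (Ideal.Quotient.mk I (θ - f θ)), ← he, ← map_add]; exact hθ.map _)
    (s := Ideal.Quotient.mk I s) (by rw [hg, hs]) (hu.map _)
  obtain ⟨y, rfl⟩ := Ideal.Quotient.mk_surjective y'
  rw [hg, ← map_mul, Ideal.Quotient.eq] at hy'
  obtain ⟨c, hc⟩ := Ideal.mem_span_singleton'.1 hy'
  exact ⟨y, c, by rw [hc]; ring⟩

variable {M : Type*} [Ring M] [Finite M]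

theorem ClosureInvol.exists_norm_mod {T : Set M} {f : M → M} (h : ClosureInvol T f) {e θ : M}
    (he : e ∈ Subring.closure T) (hfe : f e = e)
    (hθ : θ ∈ Subring.closure T) (hθu : IsUnit (θ - f θ + e)) {S : M} (hS : S ∈ Subring.closure T)
    (hfS : f S = S) (hu : IsUnit S) :
    ∃ y ∈ Subring.closure T, ∃ c ∈ Subring.closure T, y * f y = S + c * e := by
  letI : CommRing (Subring.closure T) := Subring.closureCommRingOfComm h.comm
  obtain ⟨y, c, hy⟩ := CfsgLib.IsometryConj.exists_norm_mod h.equiv
    (fun x => Subtype.ext (h.invol x x.2)) (e := ⟨e, he⟩) (Subtype.ext hfe) ⟨θ, hθ⟩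
    (isUnit_in_subring _ hθu) (s := ⟨S, hS⟩) (Subtype.ext hfS) (isUnit_in_subring _ hu)
  exact ⟨y, y.2, c, c.2, congrArg Subtype.val hy⟩

omit [Finite M] in
theorem Adjoint.st_zero (J : Adjoint M) : J.st 0 = 0 := by
  have h := J.st_add 0 0
  rw [add_zero] at h
  exact add_eq_left.1 h.symm

omit [Finite M] in
theorem Adjoint.st_sub (J : Adjoint M) (x y : M) : J.st (x - y) = J.st x - J.st y := by
  rw [eq_sub_iff_add_eq, ← J.st_add, sub_add_cancel]

omit [Finite M] in
theorem Adjoint.st_neg (J : Adjoint M) (x : M) : J.st (-x) = -J.st x := by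
  rw [← zero_sub, J.st_sub, J.st_zero, zero_sub]

omit [Finite M] in
/-- The form pulled back by a conjugating element commutes with the first isometry. -/
theorem commute_st_mul (J : Adjoint M) (A B P : Mˣ) (hA : J.st (A : M) * A = 1)
    (hB : J.st (B : M) * B = 1) (hP : (P : M) * A = B * P) :
    Commute (J.st (P : M) * P) (A : M) := by
  have hA' : J.st (A : M) = ((A⁻¹ : Mˣ) : M) := Units.eq_inv_of_mul_eq_one_right hA
  have hB' : J.st (B : M) = ((B⁻¹ : Mˣ) : M) := Units.eq_inv_of_mul_eq_one_right hB
  have h1 : ((A⁻¹ : Mˣ) : M) * J.st (P : M) = J.st (P : M) * ((B⁻¹ : Mˣ) : M) := by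
    rw [← hA', ← hB', ← J.st_mul, ← J.st_mul, hP]
  have h3 : (A : M) * J.st (P : M) = J.st (P : M) * B := by
    calc (A : M) * J.st (P : M) = (A : M) * (J.st (P : M) * ((B⁻¹ : Mˣ) : M)) * B := by
          simp [mul_assoc]
      _ = J.st (P : M) * B := by rw [← h1]; simp [← mul_assoc]
  show J.st (P : M) * P * A = A * (J.st (P : M) * P)
  rw [mul_assoc, hP, ← mul_assoc, ← h3, mul_assoc]

/-- A square root of the pulled back form outside the corner. -/
theorem exists_outside_sqrt (J : Adjoint M) (A B P : Mˣ) (hA : J.st (A : M) * A = 1)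
    (hB : J.st (B : M) * B = 1) (hP : (P : M) * A = B * P)
    (e : M) (hee : e * e = e) (hste : J.st e = e) (he : ∀ x : M, Commute x A → Commute x e)
    (hθu : IsUnit ((A : M) - J.st A + e)) :
    ∃ y : M, Commute y A ∧ Commute y e ∧ Commute y (1 - e) ∧
      J.st (y * (1 - e)) * (y * (1 - e)) = J.st (P : M) * P * (1 - e) := by
  have hA' : J.st (A : M) = ((A⁻¹ : Mˣ) : M) := Units.eq_inv_of_mul_eq_one_right hA
  have hB' : J.st (B : M) = ((B⁻¹ : Mˣ) : M) := Units.eq_inv_of_mul_eq_one_right hB
  set S : M := J.st (P : M) * P with hSdef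
  have hSA : Commute S (A : M) := by
    have h1 : ((A⁻¹ : Mˣ) : M) * J.st (P : M) = J.st (P : M) * ((B⁻¹ : Mˣ) : M) := by
      rw [← hA', ← hB', ← J.st_mul, ← J.st_mul, hP]
    have h3 : (A : M) * J.st (P : M) = J.st (P : M) * B := by
      calc (A : M) * J.st (P : M) = (A : M) * (J.st (P : M) * ((B⁻¹ : Mˣ) : M)) * B := by
            simp [mul_assoc]
        _ = J.st (P : M) * B := by rw [← h1]; simp [← mul_assoc]
    show S * A = A * S
    rw [hSdef, mul_assoc, hP, ← mul_assoc, ← h3, mul_assoc]
  let T : Set M := {(A : M), ((A⁻¹ : Mˣ) : M), S, e}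
  have hcA : ∀ a ∈ T, Commute a (A : M) := by
    rintro a (rfl | rfl | rfl | h)
    · exact Commute.refl _
    · exact (Commute.refl (A : M)).units_inv_left
    · exact hSA
    · rw [Set.mem_singleton_iff.1 h]; exact (he _ (Commute.refl _)).symm
  have hc : ∀ a ∈ T, ∀ b ∈ T, Commute a b := by
    intro a ha b hb
    rcases hb with rfl | rfl | rfl | h
    · exact hcA a ha
    · exact (hcA a ha).units_inv_right
    · rcases ha with rfl | rfl | rfl | h
      · exact hSA.symm
      · exact hSA.symm.units_inv_left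
      · exact Commute.refl _
      · rw [Set.mem_singleton_iff.1 h]; exact (he S hSA).symm
    · rw [Set.mem_singleton_iff.1 h]; exact he a (hcA a ha)
  have hstS : J.st S = S := by rw [hSdef, J.st_mul, J.st_st]
  have hmem : ∀ a ∈ T, J.st a ∈ Subring.closure T := by
    rintro a (rfl | rfl | rfl | h)
    · rw [hA']; exact Subring.subset_closure (by simp [T])
    · rw [← hA', J.st_st]; exact Subring.subset_closure (by simp [T])
    · rw [hstS]; exact Subring.subset_closure (by simp [T])
    · rw [Set.mem_singleton_iff.1 h, hste]; exact Subring.subset_closure (by simp [T])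
  have hAT : (A : M) ∈ Subring.closure T := Subring.subset_closure (by simp [T])
  have heT : e ∈ Subring.closure T := Subring.subset_closure (by simp [T])
  have hST : S ∈ Subring.closure T := Subring.subset_closure (by simp [T])
  have hSu : IsUnit S := (J.stUnit P).isUnit.mul P.isUnit
  have hI := J.invol hc hmem
  obtain ⟨y, hyT, c, hcT, hys⟩ := hI.exists_norm_mod heT hste hAT hθu hST hstS hSu
  have hye : Commute y e := commute_closure hc hyT heT
  have hyd : Commute y (1 - e) := (Commute.one_right y).sub_right hye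
  refine ⟨y, commute_closure hc hyT hAT, hye, hyd, ?_⟩
  have hed : e * (1 - e) = 0 := by rw [mul_sub, mul_one, hee, sub_self]
  have hdd : (1 - e) * (1 - e) = 1 - e := by rw [sub_mul, one_mul, hed, sub_zero]
  rw [J.st_mul, J.st_sub, J.st_one, hste]
  have hd : (1 - e) ∈ Subring.closure T := sub_mem (one_mem _) heT
  calc (1 - e) * J.st y * (y * (1 - e)) = (1 - e) * (J.st y * y) * (1 - e) := by simp only [mul_assoc]
    _ = (S + c * e) * (1 - e) * (1 - e) := by
      rw [(commute_closure hc (hI.map_mem hyT) hyT).eq, hys,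
        (commute_closure hc hd (add_mem hST (mul_mem hcT heT))).eq]
    _ = S * (1 - e) := by rw [mul_assoc, hdd, add_mul, mul_assoc c, hed, mul_zero, add_zero]

/-- Similar isometries are conjugate by an isometry, with a given correction in a corner. -/
theorem exists_isometry_conj_corner (J : Adjoint M) (A B P : Mˣ) (hA : J.st (A : M) * A = 1)
    (hB : J.st (B : M) * B = 1) (hP : (P : M) * A = B * P)
    (e : M) (hee : e * e = e) (hste : J.st e = e) (he : ∀ x : M, Commute x A → Commute x e)
    (hθu : IsUnit ((A : M) - J.st A + e))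
    (h₀ : M) (h₀r : h₀ * e = h₀) (h₀A : Commute h₀ A) (h₀S : J.st h₀ * h₀ = J.st (P : M) * P * e) :
    ∃ U : Mˣ, J.st (U : M) * U = 1 ∧ (U : M) * A = B * U := by
  have hA' : J.st (A : M) = ((A⁻¹ : Mˣ) : M) := Units.eq_inv_of_mul_eq_one_right hA
  have hB' : J.st (B : M) = ((B⁻¹ : Mˣ) : M) := Units.eq_inv_of_mul_eq_one_right hB
  set S : M := J.st (P : M) * P with hSdef
  have hSA : Commute S (A : M) := by
    have h1 : ((A⁻¹ : Mˣ) : M) * J.st (P : M) = J.st (P : M) * ((B⁻¹ : Mˣ) : M) := by
      rw [← hA', ← hB', ← J.st_mul, ← J.st_mul, hP]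
    have h3 : (A : M) * J.st (P : M) = J.st (P : M) * B := by
      calc (A : M) * J.st (P : M) = (A : M) * (J.st (P : M) * ((B⁻¹ : Mˣ) : M)) * B := by
            simp [mul_assoc]
        _ = J.st (P : M) * B := by rw [← h1]; simp [← mul_assoc]
    show S * A = A * S
    rw [hSdef, mul_assoc, hP, ← mul_assoc, ← h3, mul_assoc]
  let T : Set M := {(A : M), ((A⁻¹ : Mˣ) : M), S, e}
  have hcA : ∀ a ∈ T, Commute a (A : M) := by
    rintro a (rfl | rfl | rfl | h)
    · exact Commute.refl _
    · exact (Commute.refl (A : M)).units_inv_left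
    · exact hSA
    · rw [Set.mem_singleton_iff.1 h]; exact (he _ (Commute.refl _)).symm
  have hc : ∀ a ∈ T, ∀ b ∈ T, Commute a b := by
    intro a ha b hb
    rcases hb with rfl | rfl | rfl | h
    · exact hcA a ha
    · exact (hcA a ha).units_inv_right
    · rcases ha with rfl | rfl | rfl | h
      · exact hSA.symm
      · exact hSA.symm.units_inv_left
      · exact Commute.refl _
      · rw [Set.mem_singleton_iff.1 h]; exact (he S hSA).symm
    · rw [Set.mem_singleton_iff.1 h]; exact he a (hcA a ha)
  have hstS : J.st S = S := by rw [hSdef, J.st_mul, J.st_st]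
  have hmem : ∀ a ∈ T, J.st a ∈ Subring.closure T := by
    rintro a (rfl | rfl | rfl | h)
    · rw [hA']; exact Subring.subset_closure (by simp [T])
    · rw [← hA', J.st_st]; exact Subring.subset_closure (by simp [T])
    · rw [hstS]; exact Subring.subset_closure (by simp [T])
    · rw [Set.mem_singleton_iff.1 h, hste]; exact Subring.subset_closure (by simp [T])
  have hAT : (A : M) ∈ Subring.closure T := Subring.subset_closure (by simp [T])
  have heT : e ∈ Subring.closure T := Subring.subset_closure (by simp [T])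
  have hST : S ∈ Subring.closure T := Subring.subset_closure (by simp [T])
  have hSu : IsUnit S := (J.stUnit P).isUnit.mul P.isUnit
  have hI := J.invol hc hmem
  obtain ⟨y, hyT, c, hcT, hys⟩ := hI.exists_norm_mod heT hste hAT hθu hST hstS hSu
  set d := 1 - e with hd
  have hde : d * e = 0 := by rw [hd, sub_mul, one_mul, hee, sub_self]
  have hed : e * d = 0 := by rw [hd, mul_sub, mul_one, hee, sub_self]
  have hstd : J.st d = d := by rw [hd, J.st_sub, J.st_one, hste]
  have hdd : d * d = d := by rw [hd, sub_mul, one_mul, mul_sub, mul_one, hee]; abel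
  have hcm : ∀ {x z : M}, x ∈ Subring.closure T → z ∈ Subring.closure T → x * z = z * x :=
    fun hx hz => (commute_closure hc hx hz).eq
  have hdT : d ∈ Subring.closure T := sub_mem (one_mem _) heT
  have h₀l : e * J.st h₀ = J.st h₀ := by
    have := congrArg J.st h₀r
    rwa [J.st_mul, hste] at this
  set h := y * d + h₀ with hh
  have hmain : J.st h * h = S := by
    have h1 : J.st (y * d) * (y * d) = S * d := by
      rw [J.st_mul, hstd]
      calc d * J.st y * (y * d) = d * (J.st y * y) * d := by simp only [mul_assoc]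
        _ = (S + c * e) * d * d := by
          rw [hcm (hI.map_mem hyT) hyT, hys, hcm hdT (add_mem hST (mul_mem hcT heT))]
        _ = S * d := by rw [mul_assoc, hdd, add_mul, mul_assoc c, hed, mul_zero, add_zero]
    have h2 : J.st (y * d) * h₀ = 0 := by
      rw [J.st_mul, hstd, ← h₀r]
      have hc2 : Commute e (J.st y) := commute_closure hc heT (hI.map_mem hyT)
      have hh0 : e * h₀ = h₀ * e := (he h₀ h₀A).eq.symm
      calc d * J.st y * (h₀ * e) = d * (J.st y * e) * h₀ := by rw [← hh0]; simp only [mul_assoc]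
        _ = d * (e * J.st y) * h₀ := by rw [hc2.eq]
        _ = 0 := by rw [← mul_assoc d, hde, zero_mul, zero_mul]
    have h3 : J.st h₀ * (y * d) = 0 := by
      have := congrArg J.st h2
      rwa [J.st_mul, J.st_st, J.st_zero] at this
    rw [hh, J.st_add, add_mul, mul_add, mul_add, h1, h2, h3, h₀S, add_zero, zero_add, hd,
      mul_sub, mul_one, sub_add_cancel]
  have hhu : IsUnit h := by
    have hinj : Function.Injective fun z => h * z := fun a b hab => by
      have := congrArg (fun w => J.st h * w) hab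
      simp only [← mul_assoc, hmain] at this
      exact hSu.mul_left_cancel this
    obtain ⟨w, hw⟩ := Finite.surjective_of_injective hinj 1
    have hinj' : Function.Injective fun z => w * z := fun a b hab => by
      have := congrArg (fun u => h * u) hab
      simpa only [← mul_assoc, show h * w = 1 from hw, one_mul] using this
    obtain ⟨v, hv⟩ := Finite.surjective_of_injective hinj' 1
    refine ⟨⟨h, w, hw, ?_⟩, rfl⟩
    rwa [left_inv_eq_right_inv (show h * w = 1 from hw) (show w * v = 1 from hv)]
  obtain ⟨u, hu⟩ := hhu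
  have huA : Commute (u : M) (A : M) := by
    rw [hu, hh]
    exact ((commute_closure hc hyT hAT).mul_left (commute_closure hc hdT hAT)).add_left h₀A
  refine ⟨P * u⁻¹, ?_, ?_⟩
  · have h5 : J.stUnit u * u = J.stUnit P * P := Units.ext (by
      show J.st (u : M) * u = J.st (P : M) * P
      rw [hu, hmain])
    have h6 : J.stUnit (P * u⁻¹) * (P * u⁻¹) = 1 := by
      rw [J.stUnit_mul, J.stUnit_inv]
      calc (J.stUnit u)⁻¹ * J.stUnit P * (P * u⁻¹) = (J.stUnit u)⁻¹ * (J.stUnit P * P) * u⁻¹ := by group
        _ = 1 := by rw [← h5]; group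
    exact congrArg Units.val h6
  · rw [Units.val_mul, mul_assoc, (huA.units_inv_left).eq, ← mul_assoc, hP, mul_assoc]

section Average

variable {F : Type*} [Field F] {R : Type*} [Ring R] [Algebra F R]

/-- the averaging idempotent -/
def avg (F : Type*) [Field F] {R : Type*} [Ring R] [Algebra F R] (A : R) (m : ℕ) : R :=
  (m : F)⁻¹ • ∑ i ∈ Finset.range m, A ^ i

theorem mul_avg {A : R} {m : ℕ} (hA : A ^ m = 1) : A * avg F A m = avg F A m := by
  unfold avg
  rw [mul_smul_comm]
  congr 1
  rw [Finset.mul_sum]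
  simp_rw [← pow_succ']
  have h := Finset.sum_range_succ' (fun i => A ^ i) m
  rw [Finset.sum_range_succ, hA, pow_zero] at h
  exact add_right_cancel h.symm

theorem avg_mul {A : R} {m : ℕ} (hA : A ^ m = 1) : avg F A m * A = avg F A m := by
  conv_rhs => rw [← mul_avg (F := F) hA]
  exact (Commute.smul_right (Commute.sum_right _ _ _ fun i _ => (Commute.refl A).pow_right i) _).eq.symm

theorem pow_mul_avg {A : R} {m : ℕ} (hA : A ^ m = 1) : ∀ i, A ^ i * avg F A m = avg F A m
  | 0 => by rw [pow_zero, one_mul]
  | i + 1 => by rw [pow_succ, mul_assoc, mul_avg hA, pow_mul_avg hA i]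

theorem avg_sq {A : R} {m : ℕ} (hA : A ^ m = 1) (hm : (m : F) ≠ 0) :
    avg F A m * avg F A m = avg F A m := by
  conv_lhs => arg 1; rw [avg]
  rw [smul_mul_assoc, Finset.sum_mul, Finset.sum_congr rfl fun i _ => pow_mul_avg hA i,
    Finset.sum_const, Finset.card_range, ← Nat.cast_smul_eq_nsmul F, smul_smul, inv_mul_cancel₀ hm,
    one_smul]

theorem exists_sub_one_mul {A : R} {m : ℕ} (hA : A ^ m = 1) (hm : (m : F) ≠ 0) :
    ∃ w : R, (A - 1) * w = 1 - avg F A m ∧ Commute A w := by
  refine ⟨(m : F)⁻¹ • ∑ i ∈ Finset.range m, (i : F) • A ^ i, ?_, ?_⟩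
  · have h : (A - 1) * ∑ i ∈ Finset.range m, (i : F) • A ^ i = (m : F) • (1 : R) - ∑ i ∈ Finset.range m, A ^ i := by
      have h1 : ∀ k, (A - 1) * ∑ i ∈ Finset.range k, (i : F) • A ^ i =
          (k : F) • A ^ k - A * ∑ i ∈ Finset.range k, A ^ i := by
        intro k
        induction k with
        | zero => simp
        | succ k ih =>
          rw [Finset.sum_range_succ, mul_add, ih, Finset.sum_range_succ, mul_add, mul_smul_comm,
            sub_mul, one_mul, Nat.cast_succ, add_smul, one_smul, smul_sub, ← pow_succ']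
          abel
      rw [h1, hA]
      congr 1
      rw [Finset.mul_sum]
      simp_rw [← pow_succ']
      have h := Finset.sum_range_succ' (fun i => A ^ i) m
      rw [Finset.sum_range_succ, hA, pow_zero] at h
      exact add_right_cancel h.symm
    rw [mul_smul_comm, h, smul_sub, smul_smul, inv_mul_cancel₀ hm, one_smul]
    rfl
  · exact Commute.smul_right (Commute.sum_right _ _ _ fun i _ =>
      Commute.smul_right (Commute.pow_right (Commute.refl A) i) _) _

theorem commute_avg {A x : R} (h : Commute x A) (m : ℕ) : Commute x (avg F A m) :=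
  Commute.smul_right (Commute.sum_right _ _ _ fun i _ => h.pow_right i) _

theorem st_avg (J : Adjoint R) {X : R} {n : ℕ} (hX : X ^ n = 1) (hst : J.st X * X = 1)
    (hn : (n : F) ≠ 0) : J.st (avg F X n) = avg F X n := by
  set a := avg F X n with ha
  have h1 : J.st a * X = J.st a := by
    have h0 : J.st a * J.st X = J.st a := by rw [← J.st_mul, ha, mul_avg hX]
    calc J.st a * X = J.st a * J.st X * X := by rw [h0]
      _ = J.st a := by rw [mul_assoc, hst, mul_one]
  have h2 : ∀ i : ℕ, J.st a * X ^ i = J.st a := by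
    intro i
    induction i with
    | zero => rw [pow_zero, mul_one]
    | succ i ih => rw [pow_succ, ← mul_assoc, ih, h1]
  have h3 : J.st a * a = J.st a := by
    conv_lhs => arg 2; rw [ha, avg]
    rw [mul_smul_comm, Finset.mul_sum, Finset.sum_congr rfl fun i _ => h2 i, Finset.sum_const,
      Finset.card_range, ← Nat.cast_smul_eq_nsmul F, smul_smul, inv_mul_cancel₀ hn, one_smul]
  have h4 := congrArg J.st h3
  rw [J.st_mul, J.st_st, h3] at h4
  exact h4

end Average

end CfsgLib.IsometryConj
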