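import Mathlib
import Cfsg.Agent.Lib.IsometryConj.Corner
import Cfsg.Agent.Lib.Sp.Basic
import Cfsg.Agent.Lib.Classical.AltForm
import Cfsg.Agent.Lib.Classical.SympCount

/-!
Semisimple symplectic transformations are conjugate when similar.
-/

set_option autoImplicit false

namespace CfsgLib.IsometryConj

open Matrix Module CfsgLib.Sp

variable {F : Type*} [Field F]

theorem exists_alt_iso {W : Type*} [AddCommGroup W] [Module F W] [FiniteDimensional F W]
    (B B' : LinearMap.BilinForm F W) (hB : B.IsAlt) (hB' : B'.IsAlt) (hn : B.Nondegenerate)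
    (hn' : B'.Nondegenerate) : ∃ φ : W ≃ₗ[F] W, ∀ x y, B (φ x) (φ y) = B' x y := by
  obtain ⟨m, k, b, hb1, hb2, hb3, hb4⟩ := CfsgLib.Classical.Alt.exists_sympBasis _ rfl B hB
  obtain ⟨m', k', b', hb1', hb2', hb3', hb4'⟩ := CfsgLib.Classical.Alt.exists_sympBasis _ rfl B' hB'
  have hk : k = 0 := by
    by_contra h
    exact b.ne_zero _ (hn.1 _ (hb4 ⟨0, Nat.pos_of_ne_zero h⟩))
  have hk' : k' = 0 := by
    by_contra h
    exact b'.ne_zero _ (hn'.1 _ (hb4' ⟨0, Nat.pos_of_ne_zero h⟩))
  subst hk hk'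
  have h1 := Module.finrank_eq_card_basis b
  have h2 := Module.finrank_eq_card_basis b'
  simp only [Fintype.card_sum, Fintype.card_fin] at h1 h2
  obtain rfl : m = m' := by omega
  refine ⟨b'.equiv b (Equiv.refl _), fun x y => ?_⟩
  have key : B.comp (b'.equiv b (Equiv.refl _)).toLinearMap (b'.equiv b (Equiv.refl _)).toLinearMap = B' := by
    refine LinearMap.BilinForm.ext_basis b' fun i j => ?_
    rw [LinearMap.BilinForm.comp_apply, LinearEquiv.coe_toLinearMap, Basis.equiv_apply, Basis.equiv_apply,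
      Equiv.refl_apply, Equiv.refl_apply]
    rcases i with (i | i) | i
    · rcases j with (j | j) | j
      · rw [hb2, hb2']
      · rw [hb1, hb1']
      · exact j.elim0
    · rcases j with (j | j) | j
      · rw [CfsgLib.Classical.Alt.swap hB (b (Sum.inl (Sum.inl j))),
          CfsgLib.Classical.Alt.swap hB' (b' (Sum.inl (Sum.inl j))), hb1, hb1']
      · rw [hb3, hb3']
      · exact j.elim0
    · exact i.elim0
  have := LinearMap.congr_fun (LinearMap.congr_fun key x) y
  exact this

variable {m : ℕ}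

local notation "Mat" => Matrix (Fin m ⊕ Fin m) (Fin m ⊕ Fin m) F
local notation "J₀" => Matrix.J (Fin m) F

/-- the symplectic adjoint -/
noncomputable def sympAdjoint (m : ℕ) (F : Type*) [Field F] :
    Adjoint (Matrix (Fin m ⊕ Fin m) (Fin m ⊕ Fin m) F) where
  st M := -(Matrix.J (Fin m) F * Mᵀ * Matrix.J (Fin m) F)
  st_add x y := by rw [Matrix.transpose_add, mul_add, add_mul, neg_add]
  st_mul x y := by
    have h : ∀ z : Matrix (Fin m ⊕ Fin m) (Fin m ⊕ Fin m) F,
        Matrix.J (Fin m) F * (Matrix.J (Fin m) F * z) = -z := fun z => by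
      rw [← mul_assoc, Matrix.J_squared, neg_mul, one_mul]
    rw [Matrix.transpose_mul]
    simp only [neg_mul, mul_neg, neg_neg, mul_assoc, h]
  st_st x := by
    have h : ∀ z : Matrix (Fin m ⊕ Fin m) (Fin m ⊕ Fin m) F,
        Matrix.J (Fin m) F * (Matrix.J (Fin m) F * z) = -z := fun z => by
      rw [← mul_assoc, Matrix.J_squared, neg_mul, one_mul]
    simp only [Matrix.transpose_neg, Matrix.transpose_mul, Matrix.transpose_transpose, Matrix.J_transpose,
      neg_mul, mul_neg, neg_neg, mul_assoc, h, Matrix.J_squared, mul_one]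

theorem sympAdjoint_mul_eq_iff (h : Mat) (X : Mat) :
    (sympAdjoint m F).st h * h = X ↔ hᵀ * J₀ * h = J₀ * X := by
  show -(J₀ * hᵀ * J₀) * h = X ↔ _
  constructor
  · rintro rfl
    simp only [neg_mul, mul_neg, ← mul_assoc, Matrix.J_squared, one_mul, neg_neg]
  · intro e
    rw [neg_mul, mul_assoc J₀, mul_assoc, e, ← mul_assoc, Matrix.J_squared, neg_mul, one_mul, neg_neg]

theorem sympAdjoint_mem_iff (A : Mat) :
    A ∈ Matrix.symplecticGroup (Fin m) F ↔ (sympAdjoint m F).st A * A = 1 := by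
  rw [sympAdjoint_mul_eq_iff, mul_one, SymplecticGroup.mem_iff']

/-- The correction in the corner of a self-adjoint idempotent. -/
theorem exists_corner_symp (e P : Mat) (hee : e * e = e) (hste : (sympAdjoint m F).st e = e)
    (hPu : IsUnit P) (hSe : Commute ((sympAdjoint m F).st P * P) e) :
    ∃ h : Mat, h * e = h ∧ e * h = h ∧
      (sympAdjoint m F).st h * h = (sympAdjoint m F).st P * P * e := by
  classical
  set S := (sympAdjoint m F).st P * P with hSdef
  have hS : Pᵀ * J₀ * P = J₀ * S := (sympAdjoint_mul_eq_iff P S).1 rfl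
  have hSu : IsUnit S := by
    refine IsUnit.mul ?_ hPu
    obtain ⟨u, rfl⟩ := hPu
    exact ((sympAdjoint m F).stUnit u).isUnit
  have heJ : eᵀ * J₀ = J₀ * e := by
    have h1 := congrArg (fun z => J₀ * z) hste
    simp only [sympAdjoint, mul_neg, ← mul_assoc, Matrix.J_squared, neg_mul, one_mul, neg_neg] at h1
    exact h1
  let W := LinearMap.range (Matrix.mulVecLin e)
  have hW : ∀ x : W, e *ᵥ (x : Fin m ⊕ Fin m → F) = x := by
    rintro ⟨_, v, rfl⟩
    show e *ᵥ (e *ᵥ v) = e *ᵥ v
    rw [Matrix.mulVec_mulVec, hee]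
  let B₀ := CfsgLib.Classical.SympCount.sB m F
  let B : LinearMap.BilinForm F W := B₀.comp W.subtype W.subtype
  let B' : LinearMap.BilinForm F W :=
    B₀.comp ((Matrix.mulVecLin P).comp W.subtype) ((Matrix.mulVecLin P).comp W.subtype)
  have hB : B.IsAlt := fun x => sf_self _
  have hB' : B'.IsAlt := fun x => sf_self _
  have hflip : ∀ u v, sf (m := m) (F := F) (e *ᵥ u) v = sf u (e *ᵥ v) := by
    intro u v
    show (e *ᵥ u) ⬝ᵥ (J₀ *ᵥ v) = u ⬝ᵥ (J₀ *ᵥ (e *ᵥ v))
    rw [Matrix.mulVec_mulVec, ← heJ, ← Matrix.mulVec_mulVec, Matrix.dotProduct_mulVec u eᵀ,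
      Matrix.vecMul_transpose]
  have hn : B.Nondegenerate := by
    refine (LinearMap.IsRefl.nondegenerate_iff_separatingLeft hB.isRefl).2 fun x hx => ?_
    refine Subtype.ext (eq_zero_of_sf fun v => ?_)
    rw [← hW x, hflip]
    exact hx ⟨e *ᵥ v, v, rfl⟩
  have hn' : B'.Nondegenerate := by
    refine (LinearMap.IsRefl.nondegenerate_iff_separatingLeft hB'.isRefl).2 fun x hx => ?_
    have h0 : S *ᵥ (x : Fin m ⊕ Fin m → F) = 0 := by
      refine eq_zero_of_sf' fun v => ?_
      have h1 : sf (P *ᵥ (e *ᵥ v)) (P *ᵥ (x : Fin m ⊕ Fin m → F)) = 0 := by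
        rw [sf_swap, show sf (P *ᵥ (x : Fin m ⊕ Fin m → F)) (P *ᵥ (e *ᵥ v)) = 0 from hx ⟨e *ᵥ v, v, rfl⟩,
          neg_zero]
      rw [sf_mulVec, hS] at h1
      rw [← h1]
      conv_lhs => rw [show S *ᵥ (x : Fin m ⊕ Fin m → F) = e *ᵥ (S *ᵥ (x : Fin m ⊕ Fin m → F)) by
        rw [Matrix.mulVec_mulVec, ← hSe.eq, ← Matrix.mulVec_mulVec (x : Fin m ⊕ Fin m → F) S e, hW x], ← hflip]
      show (e *ᵥ v) ⬝ᵥ (J₀ *ᵥ (S *ᵥ _)) = _
      rw [Matrix.mulVec_mulVec]
    obtain ⟨u, hu⟩ := hSu
    refine Subtype.ext ?_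
    have := congrArg (fun w => ((u⁻¹ : Matrix.GeneralLinearGroup (Fin m ⊕ Fin m) F) : Mat) *ᵥ w) h0
    simpa [← hu, Matrix.mulVec_mulVec] using this
  obtain ⟨φ, hφ⟩ := exists_alt_iso B B' hB hB' hn hn'
  let f : (Fin m ⊕ Fin m → F) →ₗ[F] (Fin m ⊕ Fin m → F) :=
    W.subtype.comp (φ.toLinearMap.comp ((Matrix.mulVecLin e).rangeRestrict))
  have hf : ∀ v, LinearMap.toMatrix' f *ᵥ v = ((φ ⟨e *ᵥ v, v, rfl⟩ : W) : Fin m ⊕ Fin m → F) := fun v => by
    rw [LinearMap.toMatrix'_mulVec]
    rfl
  refine ⟨LinearMap.toMatrix' f, ?_, ?_, ?_⟩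
  · refine Matrix.ext_iff_mulVec.2 fun v => ?_
    rw [← Matrix.mulVec_mulVec, hf, hf]
    congr 2
    exact Subtype.ext ((Matrix.mulVec_mulVec _ _ _).trans (by rw [hee]))
  · refine Matrix.ext_iff_mulVec.2 fun v => ?_
    rw [← Matrix.mulVec_mulVec, hf, hW]
  · rw [sympAdjoint_mul_eq_iff]
    have key : J₀ * (S * e) = (P * e)ᵀ * J₀ * (P * e) := by
      rw [Matrix.transpose_mul]
      calc J₀ * (S * e) = J₀ * (e * (S * e)) := by rw [← mul_assoc e S e, ← hSe.eq, mul_assoc S e e, hee]
        _ = eᵀ * (J₀ * S) * e := by rw [← mul_assoc J₀, ← heJ]; simp only [mul_assoc]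
        _ = _ := by rw [← hS]; simp only [mul_assoc]
    rw [key]
    refine Matrix.ext_iff_mulVec.2 fun v => dotProduct_eq _ _ fun u => ?_
    rw [dotProduct_comm, ← sf_mulVec, hf, hf, dotProduct_comm, ← sf_mulVec, ← Matrix.mulVec_mulVec,
      ← Matrix.mulVec_mulVec]
    exact hφ _ _

/-- Semisimple symplectic elements are conjugate when similar. -/
theorem sp_isConj_iff [Finite F] {p : ℕ} [Fact p.Prime] [CharP F p]
    (A B : Matrix.symplecticGroup (Fin m) F) (hA : (orderOf A).Coprime p) :
    IsConj A B ↔ IsConj (A : Mat) (B : Mat) := by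
  refine ⟨fun h => MonoidHom.map_isConj (Matrix.symplecticGroup (Fin m) F).subtype h, fun h => ?_⟩
  obtain ⟨P, hP⟩ := h
  set J := sympAdjoint m F
  have hpr := (Fact.out : p.Prime)
  haveI := Fintype.ofFinite F
  set k := orderOf A with hk
  have hk0 : (k : F) ≠ 0 := by
    rw [Ne, CharP.cast_eq_zero_iff F p]
    exact fun hd => hpr.not_dvd_one ((Nat.Coprime.gcd_eq_one hA) ▸ Nat.dvd_gcd hd dvd_rfl)
  let a : Mat := (A : Mat)
  have hAk : a ^ k = 1 := by
    show (A : Mat) ^ k = 1
    rw [← SubmonoidClass.coe_pow, hk, pow_orderOf_eq_one]; rfl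
  let uA : (Mat)ˣ := Units.map (Matrix.symplecticGroup (Fin m) F).subtype (toUnits A)
  let uB : (Mat)ˣ := Units.map (Matrix.symplecticGroup (Fin m) F).subtype (toUnits B)
  have hstA : J.st a * a = 1 := (sympAdjoint_mem_iff _).1 A.2
  have hstB : J.st (B : Mat) * (B : Mat) = 1 := (sympAdjoint_mem_iff _).1 B.2
  have hAst : a * J.st a = 1 := mul_eq_one_comm.1 hstA
  have hS : Commute (J.st (P : Mat) * P) a := commute_st_mul J uA uB P hstA hstB hP
  set ep : Mat := avg F a k with hep
  obtain ⟨wp, hwp, hwpA⟩ := exists_sub_one_mul (F := F) hAk hk0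
  have hepep : ep * ep = ep := avg_sq hAk hk0
  have hAep : a * ep = ep := mul_avg hAk
  have hepA : ep * a = ep := avg_mul hAk
  have hstep : J.st ep = ep := st_avg J hAk hstA hk0
  obtain ⟨em, wm, hemem, hstem, hemc, hAem, hpm, hmp, hprod, hwmA⟩ :
      ∃ em wm : Mat, em * em = em ∧ J.st em = em ∧ (∀ x : Mat, Commute x a → Commute x em) ∧
        a * em = -em ∧ ep * em = 0 ∧ em * ep = 0 ∧
        ((a - 1) * wp) * ((a + 1) * wm) = 1 - (ep + em) ∧ Commute a wm := by
    by_cases h2 : p = 2
    · subst h2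
      have hneg : (-1 : Mat) = 1 := by
        rw [← neg_one_smul F (1 : Mat), CharTwo.neg_eq, one_smul]
      refine ⟨0, wp, mul_zero _, J.st_zero, fun x _ => Commute.zero_right x, by rw [mul_zero, neg_zero],
        mul_zero _, zero_mul _, ?_, hwpA⟩
      have : a + 1 = a - 1 := by rw [sub_eq_add_neg, hneg]
      rw [this, hwp, add_zero, ← hep, sub_mul, one_mul, mul_sub, mul_one, hepep]
      abel
    · have h2F : (2 : F) ≠ 0 := Ring.two_ne_zero (by rwa [ringChar.eq F p])
      have h2k : ((2 * k : ℕ) : F) ≠ 0 := by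
        rw [Nat.cast_mul]; exact mul_ne_zero h2F hk0
      have hnA : (-a) ^ (2 * k) = 1 := by
        rw [pow_mul, neg_sq, ← pow_mul, mul_comm, pow_mul, hAk, one_pow]
      have hstn : J.st (-a) * (-a) = 1 := by rw [J.st_neg, neg_mul_neg, hstA]
      set em : Mat := avg F (-a) (2 * k) with hem
      obtain ⟨w, hw, hwA⟩ := exists_sub_one_mul (F := F) hnA h2k
      have hAem : a * em = -em := by
        have := mul_avg (F := F) hnA
        rwa [neg_mul, neg_eq_iff_eq_neg, ← hem] at this
      have hc : ∀ x : Mat, Commute x a → Commute x em := fun x hx =>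
        commute_avg hx.neg_right _
      have hpm : ep * em = 0 := by
        have h1 : ep * em = -(ep * em) := by
          calc ep * em = ep * a * em := by rw [hepA]
            _ = -(ep * em) := by rw [mul_assoc, hAem, mul_neg]
        have h3 : (2 : F) • (ep * em) = 0 := by
          rw [two_smul]
          nth_rw 2 [h1]
          exact add_neg_cancel _
        exact (smul_eq_zero.1 h3).resolve_left h2F
      have hmp : em * ep = 0 := by
        rw [← hpm]; exact ((hc ep (commute_avg (Commute.refl a) k).symm).eq).symm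
      refine ⟨em, -w, avg_sq hnA h2k, st_avg J hnA hstn h2k, hc, hAem, hpm, hmp, ?_, ?_⟩
      · have : (a + 1) * -w = (-a - 1) * w := by
          rw [mul_neg, ← neg_mul]; congr 1; abel
        rw [this, hwp, hw, ← hep, ← hem, sub_mul, one_mul, mul_sub, mul_one, hpm]
        abel
      · exact (Commute.neg_right (by simpa using hwA.neg_left))
  have hemA : em * a = -em := by rw [← (hemc a (Commute.refl a)).eq, hAem]
  set e := ep + em with he
  have hec : ∀ x : Mat, Commute x a → Commute x e := fun x hx =>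
    (commute_avg hx k).add_right (hemc x hx)
  have hee : e * e = e := by
    rw [he, add_mul, mul_add, mul_add, hepep, hemem, hpm, hmp, add_zero, zero_add]
  have hste : J.st e = e := by rw [he, J.st_add, hstep, hstem]
  -- the element differing from its adjoint by a unit
  have hθu : IsUnit (a - J.st a + e) := by
    set z := a * wp * wm with hz
    have hzA : Commute z a := ((Commute.refl a).mul_left hwpA.symm).mul_left hwmA.symm
    have h1 : (a - J.st a) * z = 1 - e := by
      rw [hz, ← hprod]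
      have h2 : (a + 1) * wp = wp * (a + 1) := (hwpA.add_left (Commute.one_left wp)).eq
      calc (a - J.st a) * (a * wp * wm) = (a * a - J.st a * a) * wp * wm := by
            rw [sub_mul]; simp only [mul_assoc, sub_mul, mul_sub]
        _ = (a - 1) * ((a + 1) * wp) * wm := by
            rw [hstA, ← mul_assoc]; congr 2; noncomm_ring
        _ = _ := by rw [h2]; simp only [mul_assoc]
    have h3 : (a - J.st a) * e = 0 := by
      have h4 : J.st a * e = ep - em := by
        have : J.st a * (a * (ep - em)) = J.st a * e := by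
          rw [mul_sub, hAep, hAem, sub_neg_eq_add, he]
        rw [← this, ← mul_assoc, hstA, one_mul]
      rw [sub_mul, h4, he, mul_add, hAep, hAem]
      abel
    refine isUnit_iff_exists.2 ⟨z * (1 - e) + e, ?_, ?_⟩ <;>
    · have hze : Commute z e := hec z hzA
      have hr : (a - J.st a + e) * (z * (1 - e) + e) = 1 := by
        have h5 : (1 - e) * (1 - e) = 1 - e := by
          rw [sub_mul, one_mul, mul_sub, mul_one, hee, sub_self, sub_zero]
        have h6 : e * (1 - e) = 0 := by rw [mul_sub, mul_one, hee, sub_self]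
        calc (a - J.st a + e) * (z * (1 - e) + e)
            = (a - J.st a) * z * (1 - e) + (a - J.st a) * e + (e * z) * (1 - e) + e * e := by
              simp only [mul_add, add_mul, mul_assoc]; abel
          _ = (1 - e) + 0 + z * (e * (1 - e)) + e := by rw [h1, h5, h3, ← hze.eq, mul_assoc z, hee]
          _ = 1 := by rw [h6, mul_zero]; abel
      first
        | exact hr
        | exact mul_eq_one_comm.1 hr
  -- the corrections
  obtain ⟨hp', hp1, hp2, hp3⟩ := exists_corner_symp ep (P : Mat) hepep hstep P.isUnit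
    (commute_avg hS k)
  obtain ⟨hm', hm1, hm2, hm3⟩ := exists_corner_symp em (P : Mat) hemem hstem P.isUnit (hemc _ hS)
  have h₀r : (hp' + hm') * e = hp' + hm' := by
    have x1 : hp' * em = 0 := by rw [← hp1, mul_assoc, hpm, mul_zero]
    have x2 : hm' * ep = 0 := by rw [← hm1, mul_assoc, hmp, mul_zero]
    rw [he, add_mul, mul_add, mul_add, hp1, hm1, x1, x2, add_zero, zero_add]
  have h₀A : Commute (hp' + hm') a := by
    refine Commute.add_left ?_ ?_
    · show hp' * a = a * hp'
      calc hp' * a = hp' * (ep * a) := by rw [← mul_assoc, hp1]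
        _ = a * ep * hp' := by rw [hepA, hp1, hAep, hp2]
        _ = a * hp' := by rw [mul_assoc, hp2]
    · show hm' * a = a * hm'
      calc hm' * a = hm' * (em * a) := by rw [← mul_assoc, hm1]
        _ = a * em * hm' := by rw [hemA, mul_neg, hm1, hAem, neg_mul, hm2]
        _ = a * hm' := by rw [mul_assoc, hm2]
  have h₀S : J.st (hp' + hm') * (hp' + hm') = J.st (P : Mat) * P * e := by
    have x1 : J.st hp' * hm' = 0 := by
      calc J.st hp' * hm' = J.st (ep * hp') * (em * hm') := by rw [hp2, hm2]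
        _ = J.st hp' * (ep * em) * hm' := by rw [J.st_mul, hstep]; simp only [mul_assoc]
        _ = 0 := by rw [hpm, mul_zero, zero_mul]
    have x2 : J.st hm' * hp' = 0 := by
      calc J.st hm' * hp' = J.st (em * hm') * (ep * hp') := by rw [hp2, hm2]
        _ = J.st hm' * (em * ep) * hp' := by rw [J.st_mul, hstem]; simp only [mul_assoc]
        _ = 0 := by rw [hmp, mul_zero, zero_mul]
    rw [J.st_add, add_mul, mul_add, mul_add, x1, x2, hp3, hm3, add_zero, zero_add, he, mul_add]
  obtain ⟨U, hU, hUA⟩ := exists_isometry_conj_corner J uA uB P hstA hstB hP e hee hste hec hθu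
    (hp' + hm') h₀r h₀A h₀S
  exact ⟨toUnits (⟨(U : Mat), (sympAdjoint_mem_iff _).2 hU⟩ : Matrix.symplecticGroup (Fin m) F),
    Subtype.ext hUA⟩

end CfsgLib.IsometryConj
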