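import Mathlib
import Cfsg.Agent.Lib.IsometryConj.Symplectic
import Cfsg.Agent.Lib.GLClass.Semisimple

/-!
Characteristic polynomials of symplectic matrices and the number of semisimple classes.
-/

set_option autoImplicit false

namespace CfsgLib.IsometryConj

open Matrix Polynomial

variable {F : Type*} [Field F] {n : ℕ}

local notation "Sp" => Matrix.symplecticGroup (Fin n) F

theorem sp_charpoly_coeff (g : Sp) {j : ℕ} (hj : j ≤ 2 * n) :
    (g : Matrix (Fin n ⊕ Fin n) (Fin n ⊕ Fin n) F).charpoly.coeff (2 * n - j) =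
      (g : Matrix (Fin n ⊕ Fin n) (Fin n ⊕ Fin n) F).charpoly.coeff j := by
  set M := (g : Matrix (Fin n ⊕ Fin n) (Fin n ⊕ Fin n) F) with hM
  have hst := (sympAdjoint_mem_iff M).1 g.2
  have hinv : M⁻¹ = (sympAdjoint n F).st M := Matrix.inv_eq_left_inv hst
  have hJ : IsUnit (Matrix.J (Fin n) F) := (Matrix.isUnit_iff_isUnit_det _).2 (Matrix.isUnit_det_J _ _)
  obtain ⟨u, hu⟩ := hJ
  have hu' : ((u⁻¹ : (Matrix (Fin n ⊕ Fin n) (Fin n ⊕ Fin n) F)ˣ) :
      Matrix (Fin n ⊕ Fin n) (Fin n ⊕ Fin n) F) = -Matrix.J (Fin n) F := by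
    refine Units.inv_eq_of_mul_eq_one_right ?_
    rw [hu, mul_neg, Matrix.J_squared, neg_neg]
  have h1 : M⁻¹.charpoly = M.charpoly := by
    have hst' : (sympAdjoint n F).st M = -(Matrix.J (Fin n) F * Mᵀ * Matrix.J (Fin n) F) := rfl
    rw [hinv, hst', ← mul_neg, ← hu', ← hu, Matrix.coe_units_inv, Matrix.charpoly_units_conj, Matrix.charpoly_transpose]
  have h2 : M⁻¹.charpoly = M.charpoly.reverse := by
    rw [Matrix.charpoly_inv _ ((Matrix.isUnit_iff_isUnit_det M).2 (SymplecticGroup.symplectic_det g.2)),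
      Matrix.reverse_charpoly, SymplecticGroup.det_eq_one g.2, Ring.inverse_one, map_one, mul_one,
      Fintype.card_sum, Fintype.card_fin, ← two_mul, pow_mul, neg_one_sq, one_pow, one_mul]
  have h3 : M.charpoly.natDegree = 2 * n := by
    rw [Matrix.charpoly_natDegree_eq_dim, Fintype.card_sum, Fintype.card_fin, two_mul]
  conv_rhs => rw [← h1, h2, Polynomial.coeff_reverse, h3, Polynomial.revAt_le hj]

theorem sp_charpoly_ext (g h : Sp)
    (he : ∀ j, 1 ≤ j → j ≤ n → (g : Matrix (Fin n ⊕ Fin n) (Fin n ⊕ Fin n) F).charpoly.coeff j =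
      (h : Matrix (Fin n ⊕ Fin n) (Fin n ⊕ Fin n) F).charpoly.coeff j) :
    (g : Matrix (Fin n ⊕ Fin n) (Fin n ⊕ Fin n) F).charpoly =
      (h : Matrix (Fin n ⊕ Fin n) (Fin n ⊕ Fin n) F).charpoly := by
  have htop : ∀ x : Sp, (x : Matrix (Fin n ⊕ Fin n) (Fin n ⊕ Fin n) F).charpoly.coeff (2 * n) = 1 := by
    intro x
    have h3 : (x : Matrix (Fin n ⊕ Fin n) (Fin n ⊕ Fin n) F).charpoly.natDegree = 2 * n := by
      rw [Matrix.charpoly_natDegree_eq_dim, Fintype.card_sum, Fintype.card_fin, two_mul]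
    rw [← h3]
    exact (Matrix.charpoly_monic _).coeff_natDegree
  ext j
  rcases Nat.eq_zero_or_pos j with rfl | hj0
  · rw [← sp_charpoly_coeff g (Nat.zero_le _), ← sp_charpoly_coeff h (Nat.zero_le _), Nat.sub_zero,
      htop, htop]
  rcases le_or_gt j n with hj | hj
  · exact he j hj0 hj
  rcases le_or_gt j (2 * n) with hj2 | hj2
  · rcases lt_or_eq_of_le hj2 with hj3 | hj3
    · have hk : 2 * n - (2 * n - j) = j := by omega
      rw [← hk, sp_charpoly_coeff g (by omega), sp_charpoly_coeff h (by omega)]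
      exact he _ (by omega) (by omega)
    · rw [hj3, htop, htop]
  · rw [Polynomial.coeff_eq_zero_of_natDegree_lt, Polynomial.coeff_eq_zero_of_natDegree_lt] <;>
    · rw [Matrix.charpoly_natDegree_eq_dim, Fintype.card_sum, Fintype.card_fin]; omega

/-- the symmetrisation `X ^ n * h (X + 1 / X)` -/
noncomputable def symmetrize (n : ℕ) (h : F[X]) : F[X] :=
  ∑ j ∈ Finset.range (n + 1), Polynomial.C (h.coeff j) * ((X ^ 2 + 1) ^ j * X ^ (n - j))

theorem symmetrize_injective {h h' : F[X]} (hd : h.natDegree ≤ n) (hd' : h'.natDegree ≤ n)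
    (he : symmetrize n h = symmetrize n h') : h = h' := by
  by_contra hne
  set d := h - h' with hdef
  have hd0 : d ≠ 0 := sub_ne_zero.2 hne
  have hdn : d.natDegree ≤ n := (Polynomial.natDegree_sub_le _ _).trans (max_le hd hd')
  have h0 : symmetrize n d = 0 := by
    simp only [symmetrize, hdef, Polynomial.coeff_sub, map_sub, sub_mul, Finset.sum_sub_distrib]
    exact sub_eq_zero.2 he
  set k := d.natDegree with hk
  have hmon : ∀ _ : ℕ, ((X : F[X]) ^ 2 + 1).Monic := fun _ => by
    simpa using (Polynomial.monic_X_pow_add_C (1 : F) (two_ne_zero : (2 : ℕ) ≠ 0))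
  have hdeg : ∀ j ≤ n, (((X : F[X]) ^ 2 + 1) ^ j * X ^ (n - j)).natDegree = n + j := fun j hj => by
    rw [((hmon j).pow j).natDegree_mul (monic_X_pow _), (hmon j).natDegree_pow, natDegree_X_pow]
    have : ((X : F[X]) ^ 2 + 1).natDegree = 2 := by
      simpa using Polynomial.natDegree_X_pow_add_C (n := 2) (r := (1 : F))
    rw [this]; omega
  have := congrArg (fun P => Polynomial.coeff P (n + k)) h0
  simp only [symmetrize, Polynomial.finset_sum_coeff, Polynomial.coeff_C_mul, Polynomial.coeff_zero] at this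
  rw [Finset.sum_eq_single k] at this
  · rw [← hdeg k hdn, (((hmon k).pow k).mul (monic_X_pow _)).coeff_natDegree, mul_one] at this
    exact hd0 (Polynomial.leadingCoeff_eq_zero.1 this)
  · intro j hj hjk
    rcases lt_or_gt_of_ne hjk with hlt | hgt
    · rw [Polynomial.coeff_eq_zero_of_natDegree_lt (p := (X ^ 2 + 1) ^ j * X ^ (n - j)) (by
        rw [hdeg j (by simpa [Nat.lt_succ_iff] using hj)]; omega), mul_zero]
    · rw [Polynomial.coeff_eq_zero_of_natDegree_lt (p := d) hgt, zero_mul]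
  · intro hkn
    exact absurd (Finset.mem_range.2 (by omega)) hkn

theorem det_homog (h : F[X]) (hd : h.natDegree = n) (C₀ : Matrix (Fin n) (Fin n) F)
    (hC : C₀.charpoly = h) :
    Matrix.det (((X : F[X]) ^ 2 + 1) • (1 : Matrix (Fin n) (Fin n) F[X]) - (X : F[X]) • C₀.map Polynomial.C) =
      symmetrize n h := by
  set φ := algebraMap F[X] (RatFunc F) with hφ
  refine IsFractionRing.injective F[X] (RatFunc F) ?_
  set a := φ (X ^ 2 + 1)
  set b := φ X with hb
  have hb0 : b ≠ 0 := by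
    rw [hb, map_ne_zero_iff _ (IsFractionRing.injective F[X] (RatFunc F))]
    exact Polynomial.X_ne_zero
  let ψ : F →+* RatFunc F := φ.comp Polynomial.C
  have key : (C₀.map ψ).charpoly.eval (a / b) =
      Matrix.det (Matrix.scalar (Fin n) (a / b) - C₀.map ψ) := Matrix.eval_charpoly _ _
  rw [Matrix.charpoly_map, hC, Polynomial.eval_map, Polynomial.eval₂_eq_sum_range' ψ
    (show h.natDegree < n + 1 by omega)] at key
  rw [RingHom.map_det]
  have hmat : φ.mapMatrix (((X : F[X]) ^ 2 + 1) • (1 : Matrix (Fin n) (Fin n) F[X]) -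
      (X : F[X]) • C₀.map Polynomial.C) = b • (Matrix.scalar (Fin n) (a / b) - C₀.map ψ) := by
    ext i j
    simp only [RingHom.mapMatrix_apply, Matrix.map_apply, Matrix.sub_apply, Matrix.smul_apply,
      smul_eq_mul, Matrix.one_apply, Matrix.scalar_apply, Matrix.diagonal_apply, map_sub, map_mul, ψ,
      RingHom.comp_apply, mul_sub]
    by_cases hij : i = j
    · simp only [hij, if_true, map_one, mul_one]
      rw [mul_div_cancel₀ _ hb0]
    · simp only [hij, if_false, map_zero, mul_zero]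
      rfl
  rw [hmat, Matrix.det_smul, Fintype.card_fin, ← key, symmetrize, map_sum, Finset.mul_sum]
  refine Finset.sum_congr rfl fun j hj => ?_
  have hj' : j ≤ n := Nat.lt_succ_iff.1 (Finset.mem_range.1 hj)
  rw [map_mul, map_mul, map_pow φ _ j, map_pow φ _ (n - j)]
  show b ^ n * (ψ (h.coeff j) * (a / b) ^ j) = ψ (h.coeff j) * (a ^ j * b ^ (n - j))
  conv_lhs => rw [div_pow, ← Nat.sub_add_cancel hj', pow_add]
  field_simp

/-- a matrix with given characteristic polynomial, self-adjoint for some symmetric matrix -/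
theorem exists_symm_companion (h : F[X]) (hm : h.Monic) (hd : h.natDegree = n) (hn : 0 < n) :
    ∃ C₀ G : Matrix (Fin n) (Fin n) F, C₀.charpoly = h ∧ Gᵀ = G ∧ IsUnit G.det ∧ C₀ᵀ * G = G * C₀ := by
  classical
  let pb := AdjoinRoot.powerBasis hm.ne_zero
  have hdim : pb.dim = n := hd
  let b := pb.basis.reindex (finCongr hdim)
  let y := pb.gen
  have hb : ∀ i, b i = y ^ (i : ℕ) := fun i => by
    simp [b, y, PowerBasis.basis_eq_pow]
  let τ : AdjoinRoot h → F := fun z => b.repr z ⟨n - 1, by omega⟩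
  have hτ : ∀ m, m < n → τ (y ^ m) = if m = n - 1 then 1 else 0 := fun m hm' => by
    simp only [τ]
    rw [show y ^ m = b ⟨m, hm'⟩ from (hb ⟨m, hm'⟩).symm, b.repr_self, Finsupp.single_apply]
    exact if_congr Fin.ext_iff rfl rfl
  let G : Matrix (Fin n) (Fin n) F := Matrix.of fun i j => τ (b i * b j)
  refine ⟨Algebra.leftMulMatrix b y, G, ?_, ?_, ?_, ?_⟩
  · have : Algebra.leftMulMatrix b y = Matrix.reindex (finCongr hdim) (finCongr hdim)
        (Algebra.leftMulMatrix pb.basis y) := by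
      ext i j
      simp [b, Algebra.leftMulMatrix_eq_repr_mul]
    rw [this, Matrix.charpoly_reindex, charpoly_leftMulMatrix]
    exact AdjoinRoot.minpoly_powerBasis_gen_of_monic hm
  · ext i j
    simp [G, mul_comm]
  · rw [isUnit_iff_ne_zero]
    intro h0
    obtain ⟨v, hv, hv0⟩ := Matrix.exists_mulVec_eq_zero_iff.2 h0
    obtain ⟨d, hd0, hdmax⟩ : ∃ d : Fin n, v d ≠ 0 ∧ ∀ k, d < k → v k = 0 := by
      obtain ⟨i, hi⟩ : ∃ i, v i ≠ 0 := by
        by_contra hall
        exact hv (funext fun i => by_contra fun hne => hall ⟨i, hne⟩)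
      obtain ⟨d, hd, hmax⟩ := Finset.exists_max_image (Finset.univ.filter fun i => v i ≠ 0) id ⟨i, by simp [hi]⟩
      exact ⟨d, (Finset.mem_filter.1 hd).2, fun k hk => by_contra fun hne =>
        absurd (hmax k (Finset.mem_filter.2 ⟨Finset.mem_univ _, hne⟩)) (not_le.2 hk)⟩
    have := congrFun hv0 ⟨n - 1 - d, by omega⟩
    simp only [Matrix.mulVec, dotProduct, G, Matrix.of_apply, Pi.zero_apply] at this
    rw [Finset.sum_eq_single d] at this
    · rw [hb, hb, ← pow_add, hτ _ (by simp; omega), if_pos (by simp; omega), one_mul] at this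
      exact hd0 this
    · intro k _ hkd
      rcases lt_or_gt_of_ne hkd with hlt | hgt
      · have hlt' : (k : ℕ) < d := hlt
        rw [hb, hb, ← pow_add, hτ _ (by simp; omega), if_neg (by simp; omega), zero_mul]
      · rw [hdmax k hgt, mul_zero]
    · exact fun h => absurd (Finset.mem_univ _) h
  · have key : ∀ i j, (G * Algebra.leftMulMatrix b y) i j = τ (b i * (y * b j)) := fun i j => by
      rw [Matrix.mul_apply]
      conv_rhs => rw [← b.sum_repr (y * b j), Finset.mul_sum]
      simp only [τ, map_sum, Finsupp.coe_finset_sum, Finset.sum_apply, G, Matrix.of_apply,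
        Algebra.leftMulMatrix_eq_repr_mul, mul_smul_comm, map_smul, Finsupp.coe_smul, Pi.smul_apply,
        smul_eq_mul]
      exact Finset.sum_congr rfl fun k _ => mul_comm _ _
    have hG : Gᵀ = G := by ext i j; simp [G, mul_comm]
    ext i j
    conv_lhs => rw [← hG, ← Matrix.transpose_mul, Matrix.transpose_apply, key]
    rw [key]
    congr 1
    ring

theorem charpoly_companion_block (h : F[X]) (hd : h.natDegree = n) (C₀ : Matrix (Fin n) (Fin n) F)
    (hC : C₀.charpoly = h) :
    (Matrix.fromBlocks (0 : Matrix (Fin n) (Fin n) F) (-1 : Matrix (Fin n) (Fin n) F)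
      (1 : Matrix (Fin n) (Fin n) F) C₀).charpoly = symmetrize n h := by
  rw [← det_homog h hd C₀ hC]
  unfold Matrix.charpoly
  rw [Matrix.charmatrix_fromBlocks]
  set D' := C₀.charmatrix
  have hz : (0 : Matrix (Fin n) (Fin n) F).charmatrix = (X : F[X]) • 1 := by
    simp [Matrix.charmatrix, Matrix.smul_one_eq_diagonal]
  have hneg : -((-1 : Matrix (Fin n) (Fin n) F).map Polynomial.C) = 1 := by
    ext i j; simp [Matrix.one_apply, apply_ite Polynomial.C]
  have hone : -((1 : Matrix (Fin n) (Fin n) F).map Polynomial.C) = -1 := by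
    ext i j; simp [Matrix.one_apply, apply_ite Polynomial.C]
  rw [hz, hneg, hone]
  set E := Matrix.fromBlocks (1 : Matrix (Fin n) (Fin n) F[X]) 0 (-((X : F[X]) • (1 : Matrix (Fin n) (Fin n) F[X]))) (1 : Matrix (Fin n) (Fin n) F[X])
  have hE : E.det = 1 := by
    simp [E, Matrix.det_fromBlocks_zero₁₂]
  have hJ : (Matrix.J (Fin n) F[X]).det = 1 := SymplecticGroup.det_eq_one (SymplecticGroup.J_mem _ _)
  calc Matrix.det (Matrix.fromBlocks ((X : F[X]) • (1 : Matrix (Fin n) (Fin n) F[X])) (1 : Matrix (Fin n) (Fin n) F[X]) (-1 : Matrix (Fin n) (Fin n) F[X]) D')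
      = Matrix.det (Matrix.fromBlocks ((X : F[X]) • (1 : Matrix (Fin n) (Fin n) F[X])) (1 : Matrix (Fin n) (Fin n) F[X]) (-1 : Matrix (Fin n) (Fin n) F[X]) D' * E * Matrix.J (Fin n) F[X]) := by
        rw [Matrix.det_mul, Matrix.det_mul, hE, hJ, mul_one, mul_one]
    _ = Matrix.det (Matrix.fromBlocks (1 : Matrix (Fin n) (Fin n) F[X]) 0 D' (1 + (X : F[X]) • D')) := by
        congr 1
        simp [E, Matrix.J, Matrix.fromBlocks_multiply, add_comm]
    _ = Matrix.det (1 + (X : F[X]) • D') := by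
        rw [Matrix.det_fromBlocks_zero₁₂, Matrix.det_one, one_mul]
    _ = _ := by
        congr 1
        simp [D', Matrix.charmatrix, smul_sub, smul_smul, Matrix.smul_one_eq_diagonal, pow_two,
          ← Matrix.diagonal_smul, add_smul]
        rw [← Matrix.diagonal_one]
        ext i j
        simp [Matrix.diagonal_apply]
        split_ifs <;> ring

/-- Every symmetrised polynomial is the characteristic polynomial of a symplectic matrix. -/
theorem exists_sp_charpoly (h : F[X]) (hm : h.Monic) (hd : h.natDegree = n) :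
    ∃ g : Sp, (g : Matrix (Fin n ⊕ Fin n) (Fin n ⊕ Fin n) F).charpoly = symmetrize n h := by
  rcases Nat.eq_zero_or_pos n with hn | hn
  · subst hn
    refine ⟨1, ?_⟩
    rw [Polynomial.eq_one_of_monic_natDegree_zero hm hd]
    simp [symmetrize, Matrix.charpoly, Matrix.det_isEmpty]
  obtain ⟨C₀, G, hC, hGs, hGu, hGC⟩ := exists_symm_companion h hm hd hn
  set D := G * C₀ * G⁻¹
  set M : Matrix (Fin n ⊕ Fin n) (Fin n ⊕ Fin n) F := Matrix.fromBlocks 0 (-G⁻¹) G D with hM
  have hGi : G⁻¹ᵀ = G⁻¹ := by rw [Matrix.transpose_nonsing_inv, hGs]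
  have hmem : M ∈ Sp := by
    refine SymplecticGroup.mem_iff'.2 ?_
    simp only [hM, Matrix.J, Matrix.fromBlocks_transpose, Matrix.fromBlocks_multiply,
      Matrix.transpose_zero, Matrix.transpose_neg, hGs, hGi, mul_zero, zero_mul, add_zero, zero_add,
      mul_neg, neg_mul, mul_one, neg_neg, Matrix.mul_nonsing_inv _ hGu, Matrix.nonsing_inv_mul _ hGu]
    have e1 : G⁻¹ * D = C₀ * G⁻¹ := by
      simp only [D, Matrix.mul_assoc, Matrix.nonsing_inv_mul_cancel_left _ _ hGu]
    have e2 : Dᵀ * G⁻¹ = C₀ * G⁻¹ := by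
      simp only [D, Matrix.transpose_mul, hGs, hGi]
      rw [hGC, ← Matrix.mul_assoc, Matrix.nonsing_inv_mul _ hGu, Matrix.one_mul]
    rw [e1, e2]
    simp
  refine ⟨⟨M, hmem⟩, ?_⟩
  show M.charpoly = _
  set U : Matrix (Fin n ⊕ Fin n) (Fin n ⊕ Fin n) F := Matrix.fromBlocks 1 0 0 G
  set U' : Matrix (Fin n ⊕ Fin n) (Fin n ⊕ Fin n) F := Matrix.fromBlocks 1 0 0 G⁻¹
  set M₀ : Matrix (Fin n ⊕ Fin n) (Fin n ⊕ Fin n) F := Matrix.fromBlocks 0 (-1) 1 C₀
  have hconj : M = U * M₀ * U' := by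
    simp [M, U, U', M₀, D, Matrix.fromBlocks_multiply]
  have hU : U' * U = 1 := by
    simp [U, U', Matrix.fromBlocks_multiply, Matrix.nonsing_inv_mul _ hGu]
  rw [hconj, Matrix.charpoly_mul_comm, ← Matrix.mul_assoc, hU, Matrix.one_mul]
  exact charpoly_companion_block h hd C₀ hC

theorem coprime_pow_card [Fintype F] (p : ℕ) [Fact p.Prime] [CharP F p] (g : Sp) :
    ∃ N, (orderOf (g ^ (Fintype.card F) ^ N)).Coprime p ∧
      ((g ^ (Fintype.card F) ^ N : Sp) : Matrix (Fin n ⊕ Fin n) (Fin n ⊕ Fin n) F).charpoly =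
        (g : Matrix (Fin n ⊕ Fin n) (Fin n ⊕ Fin n) F).charpoly := by
  have hp := (Fact.out : p.Prime)
  obtain ⟨f, -, hcard⟩ := FiniteField.card F p
  refine ⟨orderOf g, ?_, ?_⟩
  · obtain ⟨e, m, hm, hord⟩ := Nat.exists_eq_pow_mul_and_not_dvd (orderOf_pos g).ne' p hp.ne_one
    have h1 : (g ^ (Fintype.card F) ^ orderOf g) ^ m = 1 := by
      rw [← pow_mul]
      refine orderOf_dvd_iff_pow_eq_one.1 ?_
      rw [hord]
      refine Nat.mul_dvd_mul_right ?_ m
      rw [hcard, ← pow_mul]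
      refine Nat.pow_dvd_pow p ?_
      calc e ≤ p ^ e := (Nat.lt_pow_self hp.one_lt).le
        _ ≤ p ^ e * m := Nat.le_mul_of_pos_right _ (Nat.pos_of_ne_zero fun h => hm (h ▸ dvd_zero p))
        _ ≤ (f : ℕ) * (p ^ e * m) := Nat.le_mul_of_pos_left _ f.pos
    exact Nat.Coprime.coprime_dvd_left (orderOf_dvd_of_pow_eq_one h1)
      (Nat.Coprime.symm (hp.coprime_iff_not_dvd.2 hm))
  · rw [SubmonoidClass.coe_pow]
    generalize orderOf g = N
    induction N with
    | zero => rw [pow_zero, pow_one]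
    | succ N ih => rw [pow_succ, pow_mul, FiniteField.Matrix.charpoly_pow_card, ih]

theorem sp_isConj_of_charpoly [Fintype F] (p : ℕ) [Fact p.Prime] [CharP F p] (g h : Sp)
    (hg : (orderOf g).Coprime p) (hh : (orderOf h).Coprime p)
    (he : (g : Matrix (Fin n ⊕ Fin n) (Fin n ⊕ Fin n) F).charpoly =
      (h : Matrix (Fin n ⊕ Fin n) (Fin n ⊕ Fin n) F).charpoly) : IsConj g h := by
  classical
  let φ := (Units.map (Matrix.symplecticGroup (Fin n) F).subtype).comp
    (toUnits.toMonoidHom : ↥(Matrix.symplecticGroup (Fin n) F) →* _)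
  have hφ : Function.Injective φ := fun x y hxy => Subtype.ext (congrArg Units.val hxy)
  exact (sp_isConj_iff g h hg).2 (CfsgLib.GLClass.isConj_of_charpoly_eq
    (CfsgLib.GLClass.isSS_of_coprime p (φ g) (by rwa [orderOf_injective φ hφ]))
    (CfsgLib.GLClass.isSS_of_coprime p (φ h) (by rwa [orderOf_injective φ hφ])) he)

theorem card_sp_semisimple_classes [Fintype F] (p : ℕ) [Fact p.Prime] [CharP F p] :
    Nat.card {c : ConjClasses ↥Sp // ∃ g : ↥Sp, ConjClasses.mk g = c ∧ (orderOf g).Coprime p} =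
      Fintype.card F ^ n := by
  classical
  let Mat' := Matrix (Fin n ⊕ Fin n) (Fin n ⊕ Fin n) F
  let rep := fun c : {c : ConjClasses ↥Sp // ∃ g : ↥Sp, ConjClasses.mk g = c ∧ (orderOf g).Coprime p} =>
    c.2.choose
  have hrep : ∀ c, ConjClasses.mk (rep c) = c.1 ∧ (orderOf (rep c)).Coprime p := fun c => c.2.choose_spec
  let e : {h : F[X] // h.Monic ∧ h.natDegree = n} ≃ (Fin n → F) :=
    (monicEquivDegreeLT (R := F) n).trans (degreeLTEquiv F n).toEquiv
  have hcard : Nat.card {h : F[X] // h.Monic ∧ h.natDegree = n} = Fintype.card F ^ n := by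
    rw [Nat.card_congr e]; simp [Nat.card_eq_fintype_card]
  refine le_antisymm ?_ ?_
  · have := Nat.card_le_card_of_injective
      (fun c (i : Fin n) => ((rep c : ↥Sp) : Mat').charpoly.coeff (i + 1))
      (fun c c' hcc => by
        have he := sp_charpoly_ext (rep c) (rep c') fun j h1 h2 => by
          have := congrFun hcc ⟨j - 1, by omega⟩
          simpa [Nat.sub_add_cancel h1] using this
        have := sp_isConj_of_charpoly p _ _ (hrep c).2 (hrep c').2 he
        refine Subtype.ext ?_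
        rw [← (hrep c).1, ← (hrep c').1]
        exact ConjClasses.mk_eq_mk_iff_isConj.2 this)
    simpa [Nat.card_eq_fintype_card] using this
  · rw [← hcard]
    have hex : ∀ h : {h : F[X] // h.Monic ∧ h.natDegree = n}, ∃ g : ↥Sp, (orderOf g).Coprime p ∧
        (g : Mat').charpoly = symmetrize n h.1 := fun h => by
      obtain ⟨g, hg⟩ := exists_sp_charpoly h.1 h.2.1 h.2.2
      obtain ⟨N, hN, hN'⟩ := coprime_pow_card p g
      exact ⟨_, hN, hN'.trans hg⟩
    choose σ hσ hσc using hex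
    refine Nat.card_le_card_of_injective (fun h => ⟨ConjClasses.mk (σ h), σ h, rfl, hσ h⟩) fun h h' hh => ?_
    have hconj : IsConj (σ h) (σ h') := ConjClasses.mk_eq_mk_iff_isConj.1 (congrArg Subtype.val hh)
    obtain ⟨u, hu⟩ := MonoidHom.map_isConj (Matrix.symplecticGroup (Fin n) F).subtype hconj
    refine Subtype.ext (symmetrize_injective h.2.2.le h'.2.2.le ?_)
    rw [← hσc h, ← hσc h']
    have hh' : (σ h' : Mat') = (u : Mat') * (σ h : Mat') * ((u⁻¹ : Mat'ˣ) : Mat') :=
      (Units.eq_mul_inv_iff_mul_eq u).2 hu.eq.symm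
    rw [hh', Matrix.coe_units_inv, Matrix.charpoly_units_conj]

/-- Every palindromic monic polynomial of degree `2 n` belongs to a semisimple symplectic element. -/
theorem exists_ss_sp_of_coeff [Fintype F] (p : ℕ) [Fact p.Prime] [CharP F p] (w : Fin n → F) :
    ∃ g : Sp, (orderOf g).Coprime p ∧ ∀ i : Fin n,
      (g : Matrix (Fin n ⊕ Fin n) (Fin n ⊕ Fin n) F).charpoly.coeff (i + 1) = w i := by
  classical
  let α := {c : ConjClasses ↥Sp // ∃ g : ↥Sp, ConjClasses.mk g = c ∧ (orderOf g).Coprime p}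
  let Φ : α → (Fin n → F) := fun c i =>
    ((c.2.choose : ↥Sp) : Matrix (Fin n ⊕ Fin n) (Fin n ⊕ Fin n) F).charpoly.coeff (i + 1)
  have hinj : Function.Injective Φ := fun c c' hcc => by
    refine Subtype.ext ?_
    rw [← c.2.choose_spec.1, ← c'.2.choose_spec.1]
    refine ConjClasses.mk_eq_mk_iff_isConj.2 (sp_isConj_of_charpoly p _ _ c.2.choose_spec.2
      c'.2.choose_spec.2 (sp_charpoly_ext _ _ fun j h1 h2 => ?_))
    have := congrFun hcc ⟨j - 1, by omega⟩
    simpa [Φ, Nat.sub_add_cancel h1] using this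
  haveI : Finite α := Finite.of_injective Φ hinj
  have hbij : Function.Bijective Φ := by
    haveI := Fintype.ofFinite α
    refine (Fintype.bijective_iff_injective_and_card Φ).2 ⟨hinj, ?_⟩
    rw [← Nat.card_eq_fintype_card, card_sp_semisimple_classes p]
    simp
  obtain ⟨c, hc⟩ := hbij.2 w
  exact ⟨c.2.choose, c.2.choose_spec.2, fun i => congrFun hc i⟩

end CfsgLib.IsometryConj
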