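import Mathlib
import Cfsg.Agent.Lib.IsometryConj.Conj
import Cfsg.Agent.Lib.SU.Field
import Cfsg.Agent.Lib.Classical.HermOrder

/-!
Conjugacy in the general unitary group over a finite field is similarity, and a matrix is similar
to a unitary one exactly when it is similar to its contragredient.
-/

set_option autoImplicit false

namespace CfsgLib.IsometryConj

open Matrix CfsgLib.SU

variable {F : Type*} [Field F] [Fintype F] {q n : ℕ}

/-- the Hermitian adjoint of matrices -/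
noncomputable def hermAdjoint (C : UCtx F q) (n : ℕ) : Adjoint (Matrix (Fin n) (Fin n) F) where
  st M := (M.map C.bar)ᵀ
  st_add x y := by
    rw [Matrix.map_add _ (map_add C.bar), Matrix.transpose_add]
  st_mul x y := by
    rw [Matrix.map_mul, Matrix.transpose_mul]
  st_st x := by
    ext i j
    simp [C.bar_bar]

theorem hermAdjoint_iff (C : UCtx F q) (g : GL (Fin n) F) :
    g ∈ Cfsg.GU n F q ↔ (hermAdjoint C n).st (g : Matrix (Fin n) (Fin n) F) * g = 1 := by
  rw [C.mem_gu_iff_mat]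
  constructor
  · intro h
    have h1 := congrArg Matrix.transpose h
    rwa [Matrix.transpose_mul, Matrix.transpose_transpose, Matrix.transpose_one] at h1
  · intro h
    have h1 := congrArg Matrix.transpose h
    rwa [hermAdjoint, Matrix.transpose_mul, Matrix.transpose_transpose, Matrix.transpose_one] at h1

theorem exists_theta (C : UCtx F q) : ∃ c : F, IsUnit
    ((c • 1 : Matrix (Fin n) (Fin n) F) - (hermAdjoint C n).st (c • 1)) := by
  obtain ⟨c, hc⟩ := C.exists_not_fixed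
  refine ⟨c, ?_⟩
  have h : (hermAdjoint C n).st (c • 1 : Matrix (Fin n) (Fin n) F) = C.bar c • 1 := by
    ext i j
    simp [hermAdjoint, Matrix.one_apply, eq_comm, apply_ite C.bar]
  rw [h, ← sub_smul, ← Algebra.algebraMap_eq_smul_one]
  exact (IsUnit.mk0 _ (sub_ne_zero.2 (Ne.symm hc))).map _

theorem gu_isConj_iff (hF : Fintype.card F = q ^ 2) (A B : ↥(Cfsg.GU n F q)) :
    IsConj A B ↔ IsConj (A : GL (Fin n) F) (B : GL (Fin n) F) := by
  refine ⟨fun h => MonoidHom.map_isConj (Cfsg.GU n F q).subtype h, fun h => ?_⟩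
  obtain ⟨C⟩ := CfsgLib.Classical.uctx_exists hF
  obtain ⟨P, hP⟩ := isConj_iff.1 h
  obtain ⟨c, hc⟩ := exists_theta (n := n) C
  have hP' : (P : Matrix (Fin n) (Fin n) F) * (A : GL (Fin n) F) = (B : GL (Fin n) F) * P :=
    congrArg Units.val (mul_inv_eq_iff_eq_mul.1 hP)
  obtain ⟨U, hU, hUA⟩ := exists_isometry_conj (hermAdjoint C n) _ _ P ((hermAdjoint_iff C _).1 A.2)
    ((hermAdjoint_iff C _).1 B.2) hP' _ (fun x _ => (Commute.one_right x).smul_right c) hc
  exact isConj_iff.2 ⟨⟨U, (hermAdjoint_iff C U).2 hU⟩,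
    mul_inv_eq_iff_eq_mul.2 (Subtype.ext (Units.ext hUA))⟩

theorem gu_similar_iff (hF : Fintype.card F = q ^ 2) (A : GL (Fin n) F) :
    (∃ B : ↥(Cfsg.GU n F q), IsConj A (B : GL (Fin n) F)) ↔
      IsConj (A : Matrix (Fin n) (Fin n) F)
        ((((A : Matrix (Fin n) (Fin n) F).map (fun x : F => x ^ q)).transpose)⁻¹) := by
  obtain ⟨C⟩ := CfsgLib.Classical.uctx_exists hF
  set J := hermAdjoint C n
  have hpow : ((A : Matrix (Fin n) (Fin n) F).map (fun x : F => x ^ q))ᵀ = J.st (A : Matrix _ _ F) := by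
    ext i j
    simp [J, hermAdjoint, C.bar_eq]
  have hinv : (J.st (A : Matrix (Fin n) (Fin n) F))⁻¹ = ((J.stUnit A)⁻¹ : GL (Fin n) F).1 :=
    (Matrix.coe_units_inv (J.stUnit A)).symm
  rw [hpow, hinv]
  constructor
  · rintro ⟨B, hB⟩
    obtain ⟨Y, hY⟩ := isConj_iff.1 hB
    have hBB : J.stUnit (B : GL (Fin n) F) * B = 1 := Units.ext ((hermAdjoint_iff C _).1 B.2)
    rw [← hY, J.stUnit_mul, J.stUnit_mul, J.stUnit_inv] at hBB
    have hW : J.stUnit A * (J.stUnit Y * Y) * A = J.stUnit Y * Y := by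
      calc J.stUnit A * (J.stUnit Y * Y) * A
          = J.stUnit Y * ((J.stUnit Y)⁻¹ * (J.stUnit A * J.stUnit Y) * (Y * A * Y⁻¹)) * Y := by group
        _ = _ := by rw [hBB, mul_one]
    have h2 : IsConj A (J.stUnit A)⁻¹ := isConj_iff.2 ⟨J.stUnit Y * Y, by
      calc J.stUnit Y * Y * A * (J.stUnit Y * Y)⁻¹
          = (J.stUnit A)⁻¹ * (J.stUnit A * (J.stUnit Y * Y) * A) * (J.stUnit Y * Y)⁻¹ := by group
        _ = _ := by rw [hW]; group⟩
    exact MonoidHom.map_isConj (Units.coeHom (Matrix (Fin n) (Fin n) F)) h2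
  · intro h
    obtain ⟨P, hP⟩ := h
    obtain ⟨c, hc⟩ := exists_theta (n := n) C
    have hP' : J.stUnit A * P * A = P := by
      rw [mul_assoc, ← eq_inv_mul_iff_mul_eq]
      exact Units.ext hP.eq
    obtain ⟨Y, hY⟩ := exists_similar_isometry J A P (congrArg Units.val hP') (c • 1)
      (fun x => (Commute.one_right x).smul_right c) hc
    exact ⟨⟨_, (hermAdjoint_iff C _).2 hY⟩, isConj_iff.2 ⟨Y, rfl⟩⟩

end CfsgLib.IsometryConj
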