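import Mathlib
import Cfsg.Agent.Lib.IsometryConj.Corner
import Cfsg.Agent.Lib.Classical.QuadBasic
import Cfsg.Agent.Lib.Perm.Trans.QuadWitt

/-!
Orthogonal transformations of odd order prime to the characteristic are conjugate when similar.
-/

set_option autoImplicit false

namespace CfsgLib.IsometryConj

open Matrix CfsgLib.Classical

variable {F : Type*} [Field F] {ι : Type} [Fintype ι] [DecidableEq ι]

/-- the adjoint for the polar form of a quadratic form -/
noncomputable def polAdjoint (Q : QuadraticForm F (ι → F))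
    (hQ : (QuadraticMap.polarBilin Q).Nondegenerate) : Adjoint (Matrix ι ι F) where
  st M := (polarGram Q)⁻¹ * Mᵀ * polarGram Q
  st_add x y := by rw [Matrix.transpose_add, mul_add, add_mul]
  st_mul x y := by
    have hu : IsUnit (polarGram Q).det := (det_polarGram_ne_zero Q hQ).isUnit
    rw [Matrix.transpose_mul]
    simp only [Matrix.mul_assoc, Matrix.mul_nonsing_inv_cancel_left _ _ hu]
  st_st x := by
    have hu : IsUnit (polarGram Q).det := (det_polarGram_ne_zero Q hQ).isUnit
    have hs : (polarGram Q)ᵀ = polarGram Q := by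
      ext i j
      simp [polarGram, QuadraticMap.polar_comm]
    rw [Matrix.transpose_mul, Matrix.transpose_mul, Matrix.transpose_nonsing_inv,
      Matrix.transpose_transpose, hs]
    simp only [Matrix.mul_assoc, Matrix.nonsing_inv_mul _ hu, Matrix.mul_one,
      Matrix.nonsing_inv_mul_cancel_left _ _ hu]

variable (Q : QuadraticForm F (ι → F)) (hQ : (QuadraticMap.polarBilin Q).Nondegenerate)

local notation "Mat" => Matrix ι ι F

theorem polar_st (M : Mat) (x y : ι → F) :
    QuadraticMap.polar Q (M *ᵥ x) y = QuadraticMap.polar Q x ((polAdjoint Q hQ).st M *ᵥ y) := by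
  rw [← dotProduct_polarGram_mulVec, ← dotProduct_polarGram_mulVec]
  show _ = x ⬝ᵥ polarGram Q *ᵥ (((polarGram Q)⁻¹ * Mᵀ * polarGram Q) *ᵥ y)
  rw [Matrix.mulVec_mulVec, Matrix.mul_assoc,
    Matrix.mul_nonsing_inv_cancel_left _ _ (det_polarGram_ne_zero Q hQ).isUnit,
    ← Matrix.mulVec_mulVec, Matrix.dotProduct_mulVec x Mᵀ, Matrix.vecMul_transpose]

include hQ in
theorem polar_eq_zero {x : ι → F} (h : ∀ v, QuadraticMap.polar Q x v = 0) : x = 0 := by
  by_contra hne
  exact hne (hQ.1 x h)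

theorem st_mul_self {g : GL ι F} (hg : g ∈ Cfsg.isometryGroup F ⇑Q) :
    (polAdjoint Q hQ).st (g : Mat) * (g : Mat) = 1 := by
  refine Matrix.ext_iff_mulVec.2 fun v => sub_eq_zero.1 (polar_eq_zero Q hQ fun u => ?_)
  rw [QuadraticMap.polar_comm, QuadraticMap.polar_sub_right, ← Matrix.mulVec_mulVec, ← polar_st,
    polar_isometry hg, Matrix.one_mulVec, sub_self]

include hQ in
/-- Orthogonal elements of odd order prime to the characteristic are conjugate when similar. -/
theorem orth_isConj_iff [Finite F] {p : ℕ} [Fact p.Prime] [CharP F p]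
    (A B : ↥(Cfsg.isometryGroup F ⇑Q)) (hodd : Odd (orderOf A)) (hA : (orderOf A).Coprime p) :
    IsConj A B ↔ IsConj ((A : GL ι F) : Mat) ((B : GL ι F) : Mat) := by
  refine ⟨fun h => MonoidHom.map_isConj
    ((Units.coeHom Mat).comp (Cfsg.isometryGroup F ⇑Q).subtype) h, fun h => ?_⟩
  obtain ⟨P, hP⟩ := h
  haveI := Fintype.ofFinite F
  set J := polAdjoint Q hQ
  set k := orderOf A with hk
  have hk0 : (k : F) ≠ 0 := by
    rw [Ne, CharP.cast_eq_zero_iff F p]
    exact fun hd => (Fact.out : p.Prime).not_dvd_one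
      ((Nat.Coprime.gcd_eq_one hA) ▸ Nat.dvd_gcd hd dvd_rfl)
  let uA : GL ι F := A
  let uB : GL ι F := B
  set a : Mat := (uA : Mat) with ha
  set b : Mat := (uB : Mat) with hb
  have hAk : a ^ k = 1 := by
    rw [ha, ← Units.val_pow_eq_pow_val, show uA ^ k = ((A ^ k : ↥(Cfsg.isometryGroup F ⇑Q)) : GL ι F)
      from rfl, hk, pow_orderOf_eq_one]
    rfl
  have hstA : J.st a * a = 1 := st_mul_self Q hQ A.2
  have hstB : J.st b * b = 1 := st_mul_self Q hQ B.2
  set e : Mat := avg F a k with he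
  have hee : e * e = e := avg_sq hAk hk0
  have hae : a * e = e := mul_avg hAk
  have hea : e * a = e := avg_mul hAk
  have hste : J.st e = e := st_avg J hAk hstA hk0
  have hec : ∀ x : Mat, Commute x a → Commute x e := fun x hx => commute_avg hx k
  -- the square of an element of odd order has the same fixed space
  have hθu : IsUnit (a - J.st a + e) := by
    have hAk2 : (a * a) ^ k = 1 := by
      rw [(Commute.refl a).mul_pow, hAk, one_mul]
    obtain ⟨w, hw, hwA⟩ := exists_sub_one_mul (F := F) hAk2 hk0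
    obtain ⟨j, hj⟩ := hodd
    have h2e : (a * a) * avg F (a * a) k = avg F (a * a) k := mul_avg hAk2
    have hapow : a = (a * a) ^ (j + 1) := by
      rw [← pow_two, ← pow_mul, show 2 * (j + 1) = k + 1 by omega, pow_succ, hAk, one_mul]
    have hfix : a * avg F (a * a) k = avg F (a * a) k := by
      conv_lhs => arg 1; rw [hapow]
      exact pow_mul_avg hAk2 _
    have heq : avg F (a * a) k = e := by
      have h1 : e * avg F (a * a) k = avg F (a * a) k := by
        rw [he]
        conv_lhs => arg 1; rw [avg]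
        have : ∀ i : ℕ, a ^ i * avg F (a * a) k = avg F (a * a) k := by
          intro i
          induction i with
          | zero => rw [pow_zero, one_mul]
          | succ i ih => rw [pow_succ, mul_assoc, hfix, ih]
        rw [smul_mul_assoc, Finset.sum_mul, Finset.sum_congr rfl fun i _ => this i, Finset.sum_const,
          Finset.card_range, ← Nat.cast_smul_eq_nsmul F, smul_smul, inv_mul_cancel₀ hk0, one_smul]
      have h2 : avg F (a * a) k * e = e := by
        conv_lhs => arg 1; rw [avg]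
        have : ∀ i : ℕ, (a * a) ^ i * e = e := by
          intro i
          induction i with
          | zero => rw [pow_zero, one_mul]
          | succ i ih => rw [pow_succ, mul_assoc, mul_assoc, hae, hae, ih]
        rw [smul_mul_assoc, Finset.sum_mul, Finset.sum_congr rfl fun i _ => this i, Finset.sum_const,
          Finset.card_range, ← Nat.cast_smul_eq_nsmul F, smul_smul, inv_mul_cancel₀ hk0, one_smul]
      have hc : Commute e (avg F (a * a) k) :=
        commute_avg ((hec a (Commute.refl a)).symm.mul_right (hec a (Commute.refl a)).symm) k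
      rw [← h1, hc.eq, h2]
    rw [heq] at hw
    have hwa : Commute w a := by
      conv => arg 2; rw [hapow]
      exact (hwA.symm).pow_right _
    have hwe : Commute (a * w) e := hec _ ((Commute.refl a).mul_left hwa)
    have h1 : (a - J.st a) * (a * w) = 1 - e := by
      rw [← hw, ← mul_assoc, sub_mul, hstA]
    have h3 : (a - J.st a) * e = 0 := by
      have h4 : J.st a * e = e := by
        conv_lhs => rw [← hae, ← mul_assoc, hstA, one_mul]
      rw [sub_mul, h4, hae, sub_self]
    have h5 : (1 - e) * (1 - e) = 1 - e := by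
      rw [sub_mul, one_mul, mul_sub, mul_one, hee, sub_self, sub_zero]
    have h6 : e * (1 - e) = 0 := by rw [mul_sub, mul_one, hee, sub_self]
    have hr : (a - J.st a + e) * (a * w * (1 - e) + e) = 1 := by
      calc (a - J.st a + e) * (a * w * (1 - e) + e)
          = (a - J.st a) * (a * w) * (1 - e) + (a - J.st a) * e + (e * (a * w)) * (1 - e) + e * e := by
            simp only [mul_add, add_mul, mul_assoc]; abel
        _ = (1 - e) + 0 + (a * w) * (e * (1 - e)) + e := by
            rw [h1, h5, h3, ← hwe.eq, mul_assoc (a * w), hee]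
        _ = 1 := by rw [h6, mul_zero]; abel
    exact isUnit_iff_exists.2 ⟨_, hr, mul_eq_one_comm.1 hr⟩
  obtain ⟨y, hya, hye, hyd, hy⟩ := exists_outside_sqrt J uA uB P hstA hstB hP e hee hste hec hθu
  have hS : Commute (J.st (P : Mat) * P) a := commute_st_mul J uA uB P hstA hstB hP
  set d : Mat := 1 - e with hd
  have hed : e * d = 0 := by rw [hd, mul_sub, mul_one, hee, sub_self]
  have hde : d * e = 0 := by rw [hd, sub_mul, one_mul, hee, sub_self]
  have hdd : d * d = d := by rw [hd] at hed ⊢; rw [sub_mul, one_mul, hed, sub_zero]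
  have hdA : Commute d a := (Commute.one_left a).sub_left (hec a (Commute.refl a)).symm
  have hstd : J.st d = d := by rw [hd, J.st_sub, J.st_one, hste]
  -- a unit agreeing with `y` outside the fixed space
  set h : Mat := y * d + e with hh
  have hhA : Commute h a := (hya.mul_left hdA).add_left (hec a (Commute.refl a)).symm
  have hhe : h * e = e := by rw [hh, add_mul, mul_assoc, hde, mul_zero, hee, zero_add]
  have hhd : h * d = y * d := by rw [hh, add_mul, mul_assoc, hdd, hed, add_zero]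
  have hmain : J.st h * h = J.st (P : Mat) * P * d + e := by
    have x1 : J.st (y * d) * e = 0 := by
      rw [J.st_mul, hstd]
      have := J.commute hye
      rw [hste] at this
      rw [mul_assoc, this.eq, ← mul_assoc, hde, zero_mul]
    have x2 : e * (y * d) = 0 := by rw [← mul_assoc, ← hye.eq, mul_assoc, hed, mul_zero]
    rw [hh, J.st_add, hste, add_mul, mul_add, mul_add, x1, x2, hy, hee, add_zero, zero_add]
  have hSd : Commute (J.st (P : Mat) * P) e := hec _ hS
  have hhu : IsUnit h := by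
    obtain ⟨v, hv⟩ : IsUnit (J.st (P : Mat) * P) := (J.stUnit P).isUnit.mul P.isUnit
    have hve : Commute ((v⁻¹ : Matˣ) : Mat) e := by
      rw [← hv] at hSd; exact hSd.units_inv_left
    have h1 : (J.st (P : Mat) * P * d + e) * (((v⁻¹ : Matˣ) : Mat) * d + e) = 1 := by
      have y1 : e * ((v⁻¹ : Matˣ) : Mat) * d = 0 := by rw [← hve.eq, mul_assoc, hed, mul_zero]
      have y2 : Commute d ((v⁻¹ : Matˣ) : Mat) := (Commute.one_left _).sub_left hve.symm
      rw [add_mul, mul_add, mul_add, ← hv, ← mul_assoc e, y1, mul_assoc (v : Mat) d e, hde, mul_zero,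
        mul_assoc (v : Mat), ← mul_assoc d, y2.eq, mul_assoc ((v⁻¹ : Matˣ) : Mat), hdd, ← mul_assoc,
        v.mul_inv, one_mul, hee, add_zero, zero_add, hd, sub_add_cancel]
    have h2 := congrArg Matrix.det h1
    rw [← hmain, Matrix.det_mul, Matrix.det_mul, Matrix.det_one] at h2
    exact (Matrix.isUnit_iff_isUnit_det h).2
      (isUnit_of_mul_isUnit_right (IsUnit.of_mul_eq_one _ h2))
  obtain ⟨u, hu⟩ := hhu
  set V : Mat := (P : Mat) * ((u⁻¹ : Matˣ) : Mat) with hV
  have hVA : V * a = b * V := by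
    have : Commute ((u⁻¹ : Matˣ) : Mat) a := by rw [← hu] at hhA; exact hhA.units_inv_left
    rw [hV, mul_assoc, this.eq, ← mul_assoc, hP.eq, mul_assoc]
  -- `V` preserves the form outside the fixed space
  let X := LinearMap.range (Matrix.mulVecLin d)
  have hX : ∀ x ∈ X, d *ᵥ x = x := by
    rintro _ ⟨v, rfl⟩
    show d *ᵥ (d *ᵥ v) = d *ᵥ v
    rw [Matrix.mulVec_mulVec, hdd]
  have haX : ∀ x ∈ X, a *ᵥ x ∈ X := fun x hx => ⟨a *ᵥ x, by
    show d *ᵥ (a *ᵥ x) = a *ᵥ x
    rw [Matrix.mulVec_mulVec, hdA.eq, ← Matrix.mulVec_mulVec, hX x hx]⟩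
  have hpol : ∀ x ∈ X, ∀ x' ∈ X,
      QuadraticMap.polar Q (V *ᵥ x) (V *ᵥ x') = QuadraticMap.polar Q x x' := by
    intro x hx x' hx'
    have hud : Commute ((u⁻¹ : Matˣ) : Mat) d := by
      have : Commute h d :=
        (hyd.mul_left (Commute.refl d)).add_left ((Commute.one_right e).sub_right (Commute.refl e))
      rw [← hu] at this; exact this.units_inv_left
    have e1 : ∀ z ∈ X, d *ᵥ (((u⁻¹ : Matˣ) : Mat) *ᵥ z) = ((u⁻¹ : Matˣ) : Mat) *ᵥ z := fun z hz => by
      rw [Matrix.mulVec_mulVec, ← hud.eq, ← Matrix.mulVec_mulVec, hX z hz]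
    have e2 : ∀ z : ι → F, h *ᵥ (((u⁻¹ : Matˣ) : Mat) *ᵥ z) = z := fun z => by
      rw [Matrix.mulVec_mulVec, ← hu, Units.mul_inv, Matrix.one_mulVec]
    have e3 : ∀ w w' : ι → F, d *ᵥ w' = w' →
        QuadraticMap.polar Q ((P : Mat) *ᵥ w) ((P : Mat) *ᵥ w') =
          QuadraticMap.polar Q (h *ᵥ w) (h *ᵥ w') := fun w w' hw' => by
      rw [polar_st Q hQ, polar_st Q hQ, Matrix.mulVec_mulVec, Matrix.mulVec_mulVec, hmain,
        Matrix.add_mulVec, ← Matrix.mulVec_mulVec w' _ d, hw']
      rw [show e *ᵥ w' = 0 by rw [← hw', Matrix.mulVec_mulVec, hed, Matrix.zero_mulVec], add_zero]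
    rw [hV, ← Matrix.mulVec_mulVec, ← Matrix.mulVec_mulVec, e3 _ _ (e1 x' hx'), e2, e2]
  have hQA : ∀ x, Q (a *ᵥ x) = Q x := mem_isometryGroup_iff.1 A.2
  have hQB : ∀ x, Q (b *ᵥ x) = Q x := mem_isometryGroup_iff.1 B.2
  obtain ⟨w, hw, hwA⟩ := exists_sub_one_mul (F := F) hAk hk0
  have hQX : ∀ x ∈ X, Q (V *ᵥ x) = Q x := by
    intro x hx
    set z := w *ᵥ x with hz
    have hwd : Commute w d := (Commute.one_right w).sub_right (hec w hwA.symm)
    have hzX : z ∈ X := ⟨z, by
      show d *ᵥ z = z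
      rw [hz, Matrix.mulVec_mulVec, ← hwd.eq, ← Matrix.mulVec_mulVec, hX x hx]⟩
    have hxz : x + z = a *ᵥ z := by
      have := congrArg (fun M => M *ᵥ x) hw
      simp only [← Matrix.mulVec_mulVec, Matrix.sub_mulVec, Matrix.one_mulVec] at this
      have hex : e *ᵥ x = 0 := by rw [← hX x hx, Matrix.mulVec_mulVec, hed, Matrix.zero_mulVec]
      rw [← hz, ← he, hex, sub_zero] at this
      rw [← this, sub_add_cancel]
    have h1 : Q (V *ᵥ (a *ᵥ z)) = Q (V *ᵥ z) := by
      rw [Matrix.mulVec_mulVec, hVA, ← Matrix.mulVec_mulVec, hQB]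
    rw [← hxz, Matrix.mulVec_add, map_add_polar, hpol x hx z hzX] at h1
    have h2 : Q (x + z) = Q z := by rw [hxz, hQA]
    rw [map_add_polar] at h2
    linear_combination h1 - h2
  have hVinj : Function.Injective fun x => V *ᵥ x := by
    intro x x' hxx
    have := congrArg (fun v => (((P * u⁻¹)⁻¹ : Matˣ) : Mat) *ᵥ v) hxx
    simpa only [Matrix.mulVec_mulVec, hV, ← Units.val_mul, inv_mul_cancel, Units.val_one,
      Matrix.one_mulVec] using this
  obtain ⟨g, hgQ, hgX⟩ := CfsgLib.Perm.Trans.Witt.witt_extension (Q := Q) hQ X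
    ((Matrix.mulVecLin V).comp X.subtype) (fun x x' hxx => Subtype.ext (hVinj hxx))
    (fun x => hQX x x.2)
  have hgX' : ∀ x ∈ X, g x = V *ᵥ x := fun x hx => hgX ⟨x, hx⟩
  have hgpol : ∀ x x', QuadraticMap.polar Q (g x) (g x') = QuadraticMap.polar Q x x' := fun x x' => by
    simp only [QuadraticMap.polar, ← map_add, hgQ]
  -- it intertwines on the fixed space
  have hfix : ∀ v, a *ᵥ v = v → b *ᵥ g v = g v := by
    intro v hv
    set s := b *ᵥ g v - g v with hs
    obtain ⟨u', hu'⟩ : ∃ u', g v = V *ᵥ u' := ⟨(((P * u⁻¹)⁻¹ : Matˣ) : Mat) *ᵥ g v, by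
      rw [Matrix.mulVec_mulVec, hV, ← Units.val_mul, ← Units.val_mul, mul_inv_cancel,
        Units.val_one, Matrix.one_mulVec]⟩
    have hr : (a - 1) *ᵥ u' ∈ X := ⟨(a - 1) *ᵥ u', by
      show d *ᵥ ((a - 1) *ᵥ u') = (a - 1) *ᵥ u'
      rw [Matrix.mulVec_mulVec, hd, sub_mul, one_mul, mul_sub, hea, mul_one, sub_self, sub_zero]⟩
    have hsV : s = g ((a - 1) *ᵥ u') := by
      rw [hgX' _ hr, hs, hu', Matrix.sub_mulVec, Matrix.one_mulVec, Matrix.mulVec_sub,
        Matrix.mulVec_mulVec, Matrix.mulVec_mulVec, ← hVA, ← Matrix.mulVec_mulVec]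
    have hzero : ∀ x ∈ X, QuadraticMap.polar Q s (g x) = 0 := by
      intro x hx
      have hx1 : J.st a *ᵥ x ∈ X := ⟨J.st a *ᵥ x, by
        show d *ᵥ (J.st a *ᵥ x) = J.st a *ᵥ x
        have := J.commute hdA
        rw [hstd] at this
        rw [Matrix.mulVec_mulVec, this.eq, ← Matrix.mulVec_mulVec, hX x hx]⟩
      have e4 : b *ᵥ g (J.st a *ᵥ x) = g x := by
        rw [hgX' _ hx1, hgX' _ hx, Matrix.mulVec_mulVec, ← hVA, ← Matrix.mulVec_mulVec,
          Matrix.mulVec_mulVec _ a, mul_eq_one_comm.1 hstA, Matrix.one_mulVec]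
      rw [hs, QuadraticMap.polar_sub_left]
      conv_lhs => arg 1; rw [← e4, polar_isometry B.2, hgpol]
      rw [hgpol, ← polar_st Q hQ, hv, sub_self]
    have h0 : (a - 1) *ᵥ u' = 0 := polar_eq_zero Q hQ fun x => by
      rw [← hX _ hr, polar_st Q hQ, hstd, ← hgpol, ← hsV]
      exact hzero _ ⟨x, rfl⟩
    exact sub_eq_zero.1 (by rw [← hs, hsV, h0, map_zero])
  have hgA : ∀ v, g (a *ᵥ v) = b *ᵥ g v := by
    intro v
    have hdv : d *ᵥ v ∈ X := ⟨v, rfl⟩
    have hv : v = d *ᵥ v + e *ᵥ v := by rw [← Matrix.add_mulVec, hd, sub_add_cancel, Matrix.one_mulVec]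
    conv_rhs => rw [hv, map_add, Matrix.mulVec_add, hfix (e *ᵥ v) (by rw [Matrix.mulVec_mulVec, hae]),
      hgX' _ hdv, Matrix.mulVec_mulVec, ← hVA, ← Matrix.mulVec_mulVec, ← hgX' _ (haX _ hdv), ← map_add]
    conv_lhs => rw [hv, Matrix.mulVec_add, Matrix.mulVec_mulVec _ a e, hae]
  let G : Mat := LinearMap.toMatrix' g.toLinearMap
  have hG : ∀ v, G *ᵥ v = g v := fun v => LinearMap.toMatrix'_mulVec _ _
  have hGu : IsUnit G := Matrix.mulVec_injective_iff_isUnit.1 fun x x' hxx => g.injective (by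
    simpa only [hG] using hxx)
  obtain ⟨U, hU⟩ := hGu
  have hUm : U ∈ Cfsg.isometryGroup F ⇑Q := mem_isometryGroup_iff.2 fun x => by rw [hU, hG, hgQ]
  refine isConj_iff.2 ⟨⟨U, hUm⟩, mul_inv_eq_iff_eq_mul.2 (Subtype.ext (Units.ext ?_))⟩
  refine Matrix.ext_iff_mulVec.2 fun v => ?_
  show ((U : Mat) * a) *ᵥ v = (b * (U : Mat)) *ᵥ v
  rw [hU, ← Matrix.mulVec_mulVec, ← Matrix.mulVec_mulVec, hG, hG, hgA]

end CfsgLib.IsometryConj
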