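import Mathlib

/-!
Monic polynomials with roots of prime order `r` and with a twisted reciprocity: a count through the
orbits of a group of multiplications on `(ZMod r)ˣ`.
-/

set_option autoImplicit false

namespace CfsgLib.IsometryConj

open Polynomial

section Pattern

variable {r : ℕ} [Fact r.Prime]

open Classical in
/-- the multiplicity pattern with given values on the orbits -/
noncomputable def patt (H : Subgroup (ZMod r)ˣ) (N : ℕ) (μ : (ZMod r)ˣ ⧸ H → ℕ) (j : ZMod r) : ℕ :=
  if h : IsUnit j then μ h.unit else N - Nat.card H * ∑ ω, μ ω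

theorem sum_split [Fintype (ZMod r)] (f : ZMod r → ℕ) :
    ∑ j, f j = f 0 + ∑ u : (ZMod r)ˣ, f u := by
  classical
  rw [← Finset.add_sum_erase _ _ (Finset.mem_univ (0 : ZMod r))]
  congr 1
  refine (Finset.sum_bij' (fun (u : (ZMod r)ˣ) _ => (u : ZMod r))
    (fun j hj => Units.mk0 j (Finset.mem_erase.1 hj).1) (fun u _ => Finset.mem_erase.2 ⟨u.ne_zero, Finset.mem_univ _⟩)
    (fun j _ => Finset.mem_univ _) (fun u _ => Units.ext rfl) (fun j _ => rfl) (fun u _ => rfl)).symm

theorem sum_units_const (H : Subgroup (ZMod r)ˣ) (μ : (ZMod r)ˣ ⧸ H → ℕ) [Fintype ((ZMod r)ˣ ⧸ H)] :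
    ∑ u : (ZMod r)ˣ, μ u = Nat.card H * ∑ ω, μ ω := by
  classical
  rw [← Finset.sum_fiberwise Finset.univ (fun u : (ZMod r)ˣ => (u : (ZMod r)ˣ ⧸ H)), Finset.mul_sum]
  refine Finset.sum_congr rfl fun ω _ => ?_
  rw [Finset.sum_congr rfl fun u hu => by rw [(Finset.mem_filter.1 hu).2]]
  obtain ⟨u₀, rfl⟩ := QuotientGroup.mk_surjective ω
  rw [Finset.sum_const, smul_eq_mul]
  congr 1
  rw [← Fintype.card_subtype, ← Nat.card_eq_fintype_card]
  refine Nat.card_congr
    { toFun := fun u => ⟨u₀⁻¹ * u.1, QuotientGroup.eq.1 u.2.symm⟩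
      invFun := fun h => ⟨u₀ * h.1, QuotientGroup.eq.2 (by simp)⟩
      left_inv := fun u => Subtype.ext (mul_inv_cancel_left _ _)
      right_inv := fun h => Subtype.ext (inv_mul_cancel_left _ _) }

/-- invariant multiplicity patterns of total `N` -/
theorem card_patterns (H : Subgroup (ZMod r)ˣ) (N : ℕ) :
    Nat.card {ν : ZMod r → ℕ // (∑ j, ν j = N) ∧ ∀ u ∈ H, ∀ j, ν ((u : ZMod r) * j) = ν j} =
      Nat.choose (N / Nat.card H + H.index) H.index := by
  classical
  set h := Nat.card H with hh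
  have hpos : 0 < h := Nat.card_pos
  set Ω := (ZMod r)ˣ ⧸ H
  let K := N / h
  let e1 : {ν : ZMod r → ℕ // (∑ j, ν j = N) ∧ ∀ u ∈ H, ∀ j, ν ((u : ZMod r) * j) = ν j} ≃
      {P : Option Ω → ℕ // ∑ o, P o = K} :=
    { toFun := fun ν => ⟨fun o => Option.elim o
        (K - ∑ ω : Ω, ν.1 ((Quotient.out ω : (ZMod r)ˣ) : ZMod r))
        (fun ω => ν.1 ((Quotient.out ω : (ZMod r)ˣ) : ZMod r)), by
          have hconst : ∀ u : (ZMod r)ˣ, ν.1 u = ν.1 ((Quotient.out (u : Ω) : (ZMod r)ˣ) : ZMod r) := fun u => by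
            obtain ⟨k, hk⟩ := QuotientGroup.mk_out_eq_mul H u
            rw [hk, Units.val_mul, mul_comm, ν.2.2 _ k.2]
          have hle : h * ∑ ω : Ω, ν.1 ((Quotient.out ω : (ZMod r)ˣ) : ZMod r) ≤ N := by
            rw [← sum_units_const H fun ω => ν.1 ((Quotient.out ω : (ZMod r)ˣ) : ZMod r),
              ← Finset.sum_congr rfl fun u _ => hconst u]
            calc ∑ u : (ZMod r)ˣ, ν.1 u ≤ ν.1 0 + ∑ u : (ZMod r)ˣ, ν.1 u := Nat.le_add_left _ _
              _ = N := by rw [← sum_split, ν.2.1]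
          rw [Fintype.sum_option]
          exact Nat.sub_add_cancel ((Nat.le_div_iff_mul_le hpos).2 (by rw [mul_comm]; exact hle))⟩
      invFun := fun P => ⟨patt H N fun ω => P.1 (some ω), by
        constructor
        · rw [sum_split]
          have hu : ∀ u : (ZMod r)ˣ, patt H N (fun ω => P.1 (some ω)) u = P.1 (some (u : Ω)) := fun u => by
            rw [patt, dif_pos u.isUnit, IsUnit.unit_of_val_units]
          rw [Finset.sum_congr rfl fun u _ => hu u, sum_units_const H fun ω => P.1 (some ω), patt,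
            dif_neg (by simp)]
          refine Nat.sub_add_cancel ?_
          calc Nat.card H * ∑ ω, P.1 (some ω) ≤ h * K :=
                Nat.mul_le_mul_left _ ((Nat.le_add_left _ _).trans (le_of_eq ((Fintype.sum_option _).symm.trans P.2)))
            _ ≤ N := by rw [mul_comm]; exact Nat.div_mul_le_self N h
        · intro u hu j
          rcases eq_or_ne j 0 with rfl | hj
          · rw [mul_zero]
          · have hju : IsUnit j := isUnit_iff_ne_zero.2 hj
            rw [patt, patt, dif_pos (u.isUnit.mul hju), dif_pos hju]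
            refine congrArg (fun ω => P.1 (some ω)) (QuotientGroup.eq.2 ?_)
            have : (u.isUnit.mul hju).unit = u * hju.unit := Units.ext rfl
            rw [this, mul_inv_rev, mul_assoc, mul_comm, mul_assoc, mul_inv_cancel, mul_one]
            exact H.inv_mem hu⟩
      left_inv := fun ν => by
        refine Subtype.ext (funext fun j => ?_)
        have hconst : ∀ u : (ZMod r)ˣ, ν.1 ((Quotient.out (u : Ω) : (ZMod r)ˣ) : ZMod r) = ν.1 u := fun u => by
          obtain ⟨k, hk⟩ := QuotientGroup.mk_out_eq_mul H u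
          rw [hk, Units.val_mul, mul_comm, ν.2.2 _ k.2]
        by_cases hj : IsUnit j
        · show patt H N _ j = _
          rw [patt, dif_pos hj]
          exact (hconst _).trans (by rw [hj.unit_spec])
        · show patt H N _ j = _
          rw [patt, dif_neg hj]
          have hj0 : j = 0 := by_contra fun h0 => hj (isUnit_iff_ne_zero.2 h0)
          subst hj0
          have h1 := sum_split ν.1
          rw [ν.2.1, ← Finset.sum_congr rfl fun u _ => hconst u,
            sum_units_const H fun ω => ν.1 ((Quotient.out ω : (ZMod r)ˣ) : ZMod r)] at h1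
          simp only [Option.elim]
          exact Nat.sub_eq_of_eq_add h1
      right_inv := fun P => by
        have hsome : ∀ ω : Ω, patt H N (fun ω => P.1 (some ω)) ((Quotient.out ω : (ZMod r)ˣ) : ZMod r) =
            P.1 (some ω) := fun ω => by
          rw [patt, dif_pos (Units.isUnit _), IsUnit.unit_of_val_units, QuotientGroup.out_eq']
        refine Subtype.ext (funext fun o => ?_)
        rcases o with _ | ω
        · simp only [Option.elim, hsome]
          have := P.2
          rw [Fintype.sum_option] at this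
          omega
        · exact hsome ω }
  rw [Nat.card_congr (e1.trans (Sym.equivNatSumOfFintype (Option Ω) K).symm), Nat.card_eq_fintype_card,
    Sym.card_sym_eq_choose, Fintype.card_option]
  have hΩ : Fintype.card Ω = H.index := by rw [Subgroup.index, Nat.card_eq_fintype_card]
  rw [hΩ, show H.index + 1 + K - 1 = K + H.index by generalize K = k; omega]
  exact Nat.choose_symm_add

end Pattern

theorem closure_pair_invariant {r : ℕ} (uQ ua : (ZMod r)ˣ) (ν : ZMod r → ℕ)
    (h1 : ∀ j, ν ((uQ : ZMod r) * j) = ν j) (h2 : ∀ j, ν ((ua : ZMod r) * j) = ν j) :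
    ∀ u ∈ Subgroup.closure ({uQ, ua} : Set (ZMod r)ˣ), ∀ j, ν ((u : ZMod r) * j) = ν j := by
  intro u hu
  induction hu using Subgroup.closure_induction with
  | mem x hx =>
    rcases hx with rfl | rfl
    · exact h1
    · exact h2
  | one => intro j; rw [Units.val_one, one_mul]
  | mul x y _ _ hx hy => intro j; rw [Units.val_mul, mul_assoc, hx, hy]
  | inv x _ hx => intro j; conv_rhs => rw [← Units.mul_inv_cancel_left x j, hx]

theorem reverse_X_sub_C {E : Type*} [Field E] (c : E) (hc : c ≠ 0) :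
    (X - C c).reverse = C (-c) * (X - C c⁻¹) := by
  have h : C (-c) * (X - C c⁻¹) = C (-c) * X + C (1 : E) := by
    rw [mul_sub, ← map_mul, neg_mul, mul_inv_cancel₀ hc, map_neg, map_neg, sub_neg_eq_add]
  rw [h]
  ext n
  rw [coeff_reverse, natDegree_X_sub_C]
  rcases n with _ | _ | n
  · simp [Polynomial.revAt_le]
  · simp [Polynomial.revAt_le, coeff_X, coeff_one]
  · rw [Polynomial.revAt_eq_self_of_lt (by omega)]
    simp [coeff_X, coeff_one]

/-- monic polynomials with roots of order dividing `r` and twisted reciprocity -/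
def IsRootPattern {F : Type*} [Field F] (r a N : ℕ) (P : F[X]) : Prop :=
  P.Monic ∧ P.natDegree = N ∧ P ∣ (X ^ r - 1) ^ N ∧ ∀ j ≤ N, P.coeff (N - j) = (-1) ^ N * P.coeff j ^ a

section

variable {F : Type*} [Field F] [Fintype F] {r : ℕ} [Fact r.Prime]

theorem card_rootPattern {p e : ℕ} [Fact p.Prime] [CharP F p] (hr0 : (r : F) ≠ 0) (a N : ℕ) (hae : a = p ^ e)
    (uQ ua : (ZMod r)ˣ) (hQ : (uQ : ZMod r) = Fintype.card F) (ha : (ua : ZMod r) = -(a : ZMod r))
    (hne : ua ≠ 1) :
    Nat.card {P : F[X] // IsRootPattern r a N P} =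
      Nat.choose (N / Nat.card (Subgroup.closure ({uQ, ua} : Set (ZMod r)ˣ)) +
        (Subgroup.closure ({uQ, ua} : Set (ZMod r)ˣ)).index)
        (Subgroup.closure ({uQ, ua} : Set (ZMod r)ˣ)).index := by
  classical
  rw [← card_patterns]
  set H := Subgroup.closure ({uQ, ua} : Set (ZMod r)ˣ) with hH
  set E := AlgebraicClosure F
  set ι := algebraMap F E with hι
  have hιi : Function.Injective ι := ι.injective
  haveI : CharP E p := charP_of_injective_algebraMap hιi p
  have hr := (Fact.out : r.Prime)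
  haveI : NeZero (r : E) := ⟨by
    rw [← map_natCast ι]; exact (map_ne_zero_iff ι hιi).2 hr0⟩
  obtain ⟨ζ, hζ⟩ : ∃ ζ : E, IsPrimitiveRoot ζ r := by
    obtain ⟨ζ, hζ⟩ := IsAlgClosed.exists_root (cyclotomic r E)
      (by rw [degree_cyclotomic]; exact_mod_cast (Nat.totient_pos.2 hr.pos).ne')
    exact ⟨ζ, isRoot_cyclotomic_iff.1 hζ⟩
  let z : ZMod r → E := fun j => ζ ^ j.val
  have hzr : ∀ j, z j ^ r = 1 := fun j => by
    simp only [z]; rw [← pow_mul, mul_comm, pow_mul, hζ.pow_eq_one, one_pow]
  have hz0 : ∀ j, z j ≠ 0 := fun j => pow_ne_zero _ (hζ.ne_zero hr.ne_zero)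
  have hzinj : Function.Injective z := fun j k h =>
    ZMod.val_injective r (hζ.pow_inj (ZMod.val_lt j) (ZMod.val_lt k) h)
  have hzc : ∀ m : ℕ, z (m : ZMod r) = ζ ^ m := fun m => by
    simp only [z, ZMod.val_natCast]; exact (pow_eq_pow_mod m hζ.pow_eq_one).symm
  have hzadd : ∀ j k, z (j + k) = z j * z k := fun j k => by
    rw [← ZMod.natCast_zmod_val j, ← ZMod.natCast_zmod_val k, ← Nat.cast_add, hzc, hzc, hzc, pow_add]
  have hzpow : ∀ j (c : ℕ), z j ^ c = z ((c : ZMod r) * j) := fun j c => by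
    rw [← ZMod.natCast_zmod_val j, ← Nat.cast_mul, hzc, hzc, ← pow_mul, mul_comm]
  have hz0' : z 0 = 1 := by simp [z]
  have hzinv : ∀ j, (z j)⁻¹ = z (-j) := fun j => inv_eq_of_mul_eq_one_right (by
    rw [← hzadd, add_neg_cancel, hz0'])
  have hrange : ∀ x : E, x ^ r = 1 → ∃ j, z j = x := fun x hx => by
    obtain ⟨i, hi, rfl⟩ := hζ.eq_pow_of_pow_eq_one hx
    exact ⟨i, hzc i⟩
  let Qf : (ZMod r → ℕ) → E[X] := fun ν => ∏ j, (X - C (z j)) ^ ν j
  have hQm : ∀ ν, (Qf ν).Monic := fun ν => monic_prod_of_monic _ _ fun j _ => (monic_X_sub_C _).pow _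
  have hQd : ∀ ν, (Qf ν).natDegree = ∑ j, ν j := fun ν => by
    rw [natDegree_prod_of_monic _ _ fun j _ => (monic_X_sub_C _).pow _]
    exact Finset.sum_congr rfl fun j _ => by rw [natDegree_pow, natDegree_X_sub_C, mul_one]
  have hQr : ∀ ν, (Qf ν).roots = ∑ j, ν j • ({z j} : Multiset E) := fun ν => by
    rw [roots_prod _ _ (Finset.prod_ne_zero_iff.2 fun j _ => pow_ne_zero _ (X_sub_C_ne_zero _))]
    simp only [roots_pow, roots_X_sub_C]
    rfl
  have hQc : ∀ ν k, (Qf ν).roots.count (z k) = ν k := fun ν k => by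
    rw [hQr, Multiset.count_sum', Finset.sum_eq_single k]
    · simp
    · intro j _ hj
      rw [Multiset.count_nsmul, Multiset.count_singleton, if_neg fun h => hj (hzinj h).symm, mul_zero]
    · exact fun h => absurd (Finset.mem_univ k) h
  have hQinj : ∀ ν ν', Qf ν = Qf ν' → ν = ν' := fun ν ν' h => funext fun k => by rw [← hQc ν, h, hQc]
  have hQmul : ∀ (u : (ZMod r)ˣ) (ν : ZMod r → ℕ),
      (∏ j, (X - C (z ((u : ZMod r) * j))) ^ ν j) = Qf fun j => ν (((u⁻¹ : (ZMod r)ˣ) : ZMod r) * j) := by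
    intro u ν
    refine Fintype.prod_equiv (Units.mulLeft u) _ _ fun j => ?_
    show _ = (X - C (z ((u : ZMod r) * j))) ^ ν (((u⁻¹ : (ZMod r)ˣ) : ZMod r) * ((u : ZMod r) * j))
    rw [Units.inv_mul_cancel_left]
  have hfrob : ∀ (k : ℕ) (u : (ZMod r)ˣ), (u : ZMod r) = ((p ^ k : ℕ) : ZMod r) → ∀ ν,
      (Qf ν).map (iterateFrobenius E p k) = Qf fun j => ν (((u⁻¹ : (ZMod r)ˣ) : ZMod r) * j) := by
    intro k u hu ν
    rw [← hQmul, Polynomial.map_prod]
    refine Finset.prod_congr rfl fun j _ => ?_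
    rw [Polynomial.map_pow, Polynomial.map_sub, map_X, map_C, iterateFrobenius_def, hzpow, hu]
  obtain ⟨f, -, hcard⟩ := FiniteField.card F p
  set ua' : (ZMod r)ˣ := -ua
  have ha' : (ua' : ZMod r) = ((p ^ e : ℕ) : ZMod r) := by rw [← hae]; simp [ua', ha]
  have hQ' : (uQ : ZMod r) = ((p ^ (f : ℕ) : ℕ) : ZMod r) := by rw [hQ, hcard]
  have hfix : ∀ x : E, (iterateFrobenius E p (f : ℕ)) x = x ↔ x ∈ Set.range ι := by
    intro x
    rw [iterateFrobenius_def, ← hcard]
    refine ⟨fun hx => ?_, fun ⟨y, hy⟩ => by rw [← hy, ← map_pow, FiniteField.pow_card]⟩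
    by_contra hcon
    have hsub : insert x (Finset.univ.image ι) ⊆ (X ^ Fintype.card F - X : E[X]).roots.toFinset := by
      intro w hw
      rw [Multiset.mem_toFinset, mem_roots (FiniteField.X_pow_card_sub_X_ne_zero E Fintype.one_lt_card),
        IsRoot, eval_sub, eval_pow, eval_X, sub_eq_zero]
      rcases Finset.mem_insert.1 hw with rfl | hw
      · exact hx
      · obtain ⟨y, -, rfl⟩ := Finset.mem_image.1 hw
        rw [← map_pow, FiniteField.pow_card]
    have h1 := (Finset.card_le_card hsub).trans ((Multiset.toFinset_card_le _).trans (card_roots' _))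
    rw [Finset.card_insert_of_notMem (by simpa using hcon), Finset.card_image_of_injective _ hιi,
      Finset.card_univ, FiniteField.X_pow_card_sub_X_natDegree_eq E Fintype.one_lt_card] at h1
    omega
  have hmapfix : ∀ P : F[X], (P.map ι).map (iterateFrobenius E p (f : ℕ)) = P.map ι := fun P => by
    ext n
    rw [coeff_map, coeff_map]
    exact (hfix _).2 ⟨_, rfl⟩
  have hτ : ∀ P : F[X], (∀ j ≤ N, P.coeff (N - j) = (-1) ^ N * P.coeff j ^ a) → P.natDegree = N →
      (P.map ι).reverse = C ((-1) ^ N) * (P.map ι).map (iterateFrobenius E p e) := by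
    intro P hP hd
    ext n
    rw [coeff_reverse, natDegree_map_eq_of_injective hιi, hd, coeff_map, coeff_C_mul, coeff_map, coeff_map,
      iterateFrobenius_def, ← hae]
    rcases le_or_gt n N with hn | hn
    · rw [revAt_le hn, hP n hn]
      simp
    · rw [revAt_eq_self_of_lt hn, coeff_eq_zero_of_natDegree_lt (hd ▸ hn), map_zero,
        zero_pow (by rw [hae]; exact pow_ne_zero _ (Fact.out : p.Prime).ne_zero), mul_zero]
  have hrev : ∀ ν : ZMod r → ℕ, (Qf ν).reverse =
      C (∏ j, (-z j) ^ ν j) * Qf fun j => ν (-j) := by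
    intro ν
    have h1 : ∀ s : Finset (ZMod r), (∏ j ∈ s, (X - C (z j)) ^ ν j).reverse =
        ∏ j ∈ s, (C (-z j) * (X - C (z (-j)))) ^ ν j := by
      intro s
      have hpow : ∀ (g : E[X]) (k : ℕ), (g ^ k).reverse = g.reverse ^ k := by
        intro g k
        induction k with
        | zero => simp [Polynomial.reverse, Polynomial.reflect_one]
        | succ k ih => rw [pow_succ, reverse_mul_of_domain, ih, pow_succ]
      induction s using Finset.induction with
      | empty => simp [Polynomial.reverse, Polynomial.reflect_one]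
      | insert j s hjs ih =>
        rw [Finset.prod_insert hjs, Finset.prod_insert hjs, reverse_mul_of_domain, ih, hpow,
          reverse_X_sub_C _ (hz0 j), hzinv]
    rw [h1]
    simp only [mul_pow, Finset.prod_mul_distrib, ← C_pow, ← map_prod]
    refine congrArg (C (∏ j, (-z j) ^ ν j) * ·) ?_
    exact Fintype.prod_equiv (Equiv.neg _) _ _ fun j => by simp
  have hmapQ : ∀ P : F[X], IsRootPattern r a N P →
      ∃ ν : ZMod r → ℕ, P.map ι = Qf ν := by
    rintro P ⟨hm, hd, hdvd, -⟩
    refine ⟨fun j => (P.map ι).roots.count (z j), ?_⟩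
    have hspl : (P.map ι).Splits := IsAlgClosed.splits _
    have hroots : ∀ x ∈ (P.map ι).roots, ∃ j, z j = x := by
      intro x hx
      refine hrange x ?_
      have h1 := (mem_roots (hm.map ι).ne_zero).1 hx
      have h2 : ((X ^ r - 1) ^ N : F[X]).map ι = (X ^ r - 1) ^ N := by simp
      have h3 := IsRoot.dvd h1 (h2 ▸ Polynomial.map_dvd ι hdvd)
      rw [IsRoot, eval_pow, eval_sub, eval_pow, eval_X, eval_one] at h3
      exact sub_eq_zero.1 (eq_zero_of_pow_eq_zero h3)
    have hQspl : (Qf fun j => (P.map ι).roots.count (z j)).Splits := IsAlgClosed.splits _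
    conv_lhs => rw [hspl.eq_prod_roots_of_monic (hm.map ι)]
    conv_rhs => rw [hQspl.eq_prod_roots_of_monic (hQm _)]
    refine congrArg (fun s => (Multiset.map (fun x => X - C x) s).prod) (Multiset.ext.2 fun x => ?_)
    by_cases hx : ∃ j, z j = x
    · obtain ⟨j, rfl⟩ := hx
      rw [hQc]
    · rw [Multiset.count_eq_zero.2 fun h => hx (hroots x h), Multiset.count_eq_zero.2 fun h => hx ?_]
      rw [hQr, Multiset.mem_sum] at h
      obtain ⟨j, -, hj⟩ := h
      exact ⟨j, (Multiset.mem_singleton.1 (Multiset.mem_of_mem_nsmul hj)).symm⟩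
  let Φ : {P : F[X] // IsRootPattern r a N P} →
      {ν : ZMod r → ℕ // (∑ j, ν j = N) ∧ ∀ u ∈ H, ∀ j, ν ((u : ZMod r) * j) = ν j} := fun P =>
    ⟨(hmapQ P.1 P.2).choose, by
      have hν := (hmapQ P.1 P.2).choose_spec
      set ν := (hmapQ P.1 P.2).choose
      obtain ⟨hm, hd, -, hsym⟩ := P.2
      refine ⟨by rw [← hQd, ← hν, natDegree_map_eq_of_injective hιi, hd], ?_⟩
      refine closure_pair_invariant uQ ua ν (fun j => ?_) (fun j => ?_)
      · have h1 := hmapfix P.1
        rw [hν, hfrob _ uQ hQ'] at h1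
        have := congrFun (hQinj _ _ h1) ((uQ : ZMod r) * j)
        rw [Units.inv_mul_cancel_left] at this
        exact this.symm
      · have h1 := hτ P.1 hsym hd
        rw [hν, hrev, hfrob _ ua' ha'] at h1
        have h2 := congrArg roots h1
        rw [roots_C_mul _ (Finset.prod_ne_zero_iff.2 fun j _ => pow_ne_zero _ (neg_ne_zero.2 (hz0 j))),
          roots_C_mul _ (pow_ne_zero _ (neg_ne_zero.2 one_ne_zero))] at h2
        have h3 := congrArg (Multiset.count (z ((ua' : ZMod r) * j))) h2
        rw [hQc, hQc, Units.inv_mul_cancel_left] at h3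
        simpa only [ua', Units.val_neg, neg_mul, neg_neg] using h3⟩
  refine Nat.card_congr (Equiv.ofBijective Φ ⟨fun P P' h => ?_, fun ν => ?_⟩)
  · refine Subtype.ext (Polynomial.map_injective ι hιi ?_)
    rw [(hmapQ P.1 P.2).choose_spec, (hmapQ P'.1 P'.2).choose_spec]
    exact congrArg Qf (congrArg Subtype.val h)
  · obtain ⟨ν, hνN, hνH⟩ := ν
    have huQ : uQ ∈ H := Subgroup.subset_closure (by simp)
    have hua : ua ∈ H := Subgroup.subset_closure (by simp)
    have hfx : (Qf ν).map (iterateFrobenius E p (f : ℕ)) = Qf ν := by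
      rw [hfrob _ uQ hQ']
      exact congrArg Qf (funext fun j => hνH _ (H.inv_mem huQ) j)
    have hl : Qf ν ∈ lifts ι := (lifts_iff_coeff_lifts _).2 fun n => (hfix _).1 (by
      conv_rhs => rw [← hfx]
      rw [coeff_map])
    obtain ⟨P, hP, hPd, hPm⟩ := lifts_and_natDegree_eq_and_monic hl (hQm ν)
    have hS : (∑ j : ZMod r, (ν j : ZMod r) * j) = 0 := by
      set S := ∑ j : ZMod r, (ν j : ZMod r) * j with hS
      have h1 : (ua : ZMod r) * S = S := by
        rw [hS, Finset.mul_sum]
        refine Fintype.sum_equiv (Units.mulLeft ua) _ _ fun j => ?_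
        show _ = (ν ((ua : ZMod r) * j) : ZMod r) * ((ua : ZMod r) * j)
        rw [hνH _ hua]; ring
      have h2 : ((ua : ZMod r) - 1) * S = 0 := by rw [sub_mul, h1, one_mul, sub_self]
      exact (mul_eq_zero.1 h2).resolve_left (sub_ne_zero.2 fun h => hne (Units.ext h))
    have hconst : ∏ j, (-z j) ^ ν j = (-1 : E) ^ N := by
      have h1 : ∀ s : Finset (ZMod r), ∏ j ∈ s, z j ^ ν j = z (∑ j ∈ s, (ν j : ZMod r) * j) := by
        intro s
        induction s using Finset.induction with
        | empty => simp [hz0']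
        | insert j s hjs ih => rw [Finset.prod_insert hjs, Finset.sum_insert hjs, hzadd, ih, hzpow]
      rw [Finset.prod_congr rfl fun j _ => neg_pow (z j) (ν j), Finset.prod_mul_distrib,
        Finset.prod_pow_eq_pow_sum, hνN, h1, hS, hz0', mul_one]
    have hpat : IsRootPattern r a N P := by
      refine ⟨hPm, by rw [hPd, hQd, hνN], ?_, fun j hj => hιi ?_⟩
      · rw [← Polynomial.map_dvd_map ι hιi hPm, hP]
        simp only [Polynomial.map_pow, Polynomial.map_sub, map_X, Polynomial.map_one]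
        refine Finset.prod_dvd_of_coprime (fun j _ k _ hjk => ?_) fun j _ => ?_
        · exact (pairwise_coprime_X_sub_C hzinj hjk).pow
        · refine (pow_dvd_pow _ ?_).trans (pow_dvd_pow_of_dvd ?_ N)
          · rw [← hνN]; exact Finset.single_le_sum (fun i _ => Nat.zero_le _) (Finset.mem_univ j)
          · rw [dvd_iff_isRoot, IsRoot, eval_sub, eval_pow, eval_X, eval_one, hzr, sub_self]
      · have h1 : (Qf ν).reverse = C ((-1) ^ N) * (Qf ν).map (iterateFrobenius E p e) := by
          rw [hrev, hconst, hfrob _ ua' ha']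
          refine congrArg (fun ν => C ((-1 : E) ^ N) * Qf ν) (funext fun i => ?_)
          have := hνH _ (H.inv_mem hua) (-i)
          rw [← this, show ua'⁻¹ = -ua⁻¹ from inv_eq_of_mul_eq_one_right (by simp only [ua', neg_mul_neg, mul_inv_cancel]), Units.val_neg, neg_mul, mul_neg]
        rw [← hP] at h1
        have h2 := congrArg (fun T => coeff T j) h1
        rw [coeff_reverse, natDegree_map_eq_of_injective hιi, hPd, hQd, hνN, revAt_le hj, coeff_map,
          coeff_C_mul, coeff_map, coeff_map, iterateFrobenius_def, ← hae] at h2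
        rw [h2]
        simp
    refine ⟨⟨P, hpat⟩, Subtype.ext (hQinj _ _ ?_)⟩
    show Qf (hmapQ P hpat).choose = Qf ν
    rw [← (hmapQ P hpat).choose_spec, hP]

end

end CfsgLib.IsometryConj
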