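import Mathlib
import Cfsg.Agent.Lib.IsometryConj.SympCharpoly
import Cfsg.Agent.Lib.IsometryConj.Orthogonal
import Cfsg.Agent.Lib.IsometryConj.RootPattern

/-!
Isometries of quadratic forms with prescribed characteristic polynomial: a block without fixed
vectors, and its extension by the identity on the orthogonal complement.
-/

set_option autoImplicit false

namespace CfsgLib.IsometryConj

open Matrix Polynomial CfsgLib.Classical

variable {F : Type*} [Field F]

theorem exists_nd_functional (h : F[X]) (hm : h.Monic) (hn : 0 < h.natDegree) :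
    ∃ τ : AdjoinRoot h →ₗ[F] F, ∀ z, (∀ w, τ (z * w) = 0) → z = 0 := by
  classical
  let pb := AdjoinRoot.powerBasis hm.ne_zero
  have hdim : pb.dim = h.natDegree := rfl
  let τ : AdjoinRoot h →ₗ[F] F := pb.basis.coord ⟨pb.dim - 1, by omega⟩
  refine ⟨τ, fun z hz => ?_⟩
  by_contra hne
  have hv : pb.basis.repr z ≠ 0 := fun h0 => hne (by
    have := congrArg pb.basis.repr.symm h0
    simpa using this)
  obtain ⟨d, hd, hmax⟩ := Finset.exists_max_image (pb.basis.repr z).support id
    (Finsupp.support_nonempty_iff.2 hv)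
  have h1 := hz (pb.gen ^ (pb.dim - 1 - d))
  conv_lhs at h1 => rw [← pb.basis.sum_repr z]
  rw [Finset.sum_mul, map_sum, Finset.sum_eq_single d] at h1
  · rw [smul_mul_assoc, map_smul, pb.coe_basis, ← pow_add,
      show (d : ℕ) + (pb.dim - 1 - d) = pb.dim - 1 by omega] at h1
    have : τ (pb.gen ^ (pb.dim - 1)) = 1 := by
      show pb.basis.repr _ _ = 1
      rw [show pb.gen ^ (pb.dim - 1) = pb.basis ⟨pb.dim - 1, by omega⟩ by rw [pb.coe_basis],
        pb.basis.repr_self, Finsupp.single_eq_same]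
    rw [this, smul_eq_mul, mul_one] at h1
    exact (Finsupp.mem_support_iff.1 hd) h1
  · intro k _ hkd
    rcases lt_or_gt_of_ne hkd with hlt | hgt
    · have hlt' : (k : ℕ) < d := hlt
      rw [smul_mul_assoc, map_smul, pb.coe_basis, ← pow_add]
      have hb : (k : ℕ) + (pb.dim - 1 - d) < pb.dim := by omega
      show _ • pb.basis.repr _ _ = (0 : F)
      rw [show pb.gen ^ ((k : ℕ) + (pb.dim - 1 - d)) = pb.basis ⟨_, hb⟩ by rw [pb.coe_basis],
        pb.basis.repr_self, Finsupp.single_eq_of_ne (by intro e; have := congrArg Fin.val e; simp at this; omega),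
        smul_zero]
    · have : pb.basis.repr z k = 0 := Finsupp.notMem_support_iff.1 fun hk => not_le.2 hgt (hmax k hk)
      rw [this, zero_smul, zero_mul, map_zero]
  · exact fun h => absurd (Finset.mem_univ _) h

theorem symmetrize_eval_one (n : ℕ) (h : F[X]) (hd : h.natDegree ≤ n) :
    (symmetrize n h).eval 1 = h.eval 2 := by
  rw [Polynomial.eval_eq_sum_range' (show h.natDegree < n + 1 by omega), symmetrize, eval_finset_sum]
  refine Finset.sum_congr rfl fun j _ => ?_
  simp only [eval_mul, eval_C, eval_pow, eval_add, eval_X, eval_one, one_pow, mul_one]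
  norm_num

theorem symmetrize_eval_neg_one (n : ℕ) (h : F[X]) (hd : h.natDegree ≤ n) :
    (symmetrize n h).eval (-1) = (-1) ^ n * h.eval (-2) := by
  rw [Polynomial.eval_eq_sum_range' (show h.natDegree < n + 1 by omega), symmetrize, eval_finset_sum,
    Finset.mul_sum]
  refine Finset.sum_congr rfl fun j hj => ?_
  have hj' : j ≤ n := Nat.lt_succ_iff.1 (Finset.mem_range.1 hj)
  simp only [eval_mul, eval_C, eval_pow, eval_add, eval_X, eval_one]
  have h2 : (-1 : F) ^ n = (-1) ^ (n - j) * (-1) ^ j := by rw [← pow_add, Nat.sub_add_cancel hj']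
  have h3 : (-1 : F) ^ j * (-2) ^ j = ((-1 : F) ^ 2 + 1) ^ j := by rw [← mul_pow]; norm_num
  linear_combination (-(h.coeff j) * (-2 : F) ^ j) * h2 - (h.coeff j * (-1 : F) ^ (n - j)) * h3

/-- A block: a quadratic space and an isometry with the given characteristic polynomial. -/
theorem exists_orth_block (d : ℕ) (h : F[X]) (hm : h.Monic) (hd : h.natDegree = d) (h2 : h.eval 2 ≠ 0)
    (h2' : h.eval (-2) ≠ 0) :
    ∃ (Q : QuadraticForm F (Fin d ⊕ Fin d → F)) (g : GL (Fin d ⊕ Fin d) F),
      (QuadraticMap.polarBilin Q).Nondegenerate ∧ g ∈ Cfsg.isometryGroup F ⇑Q ∧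
        (g : Matrix (Fin d ⊕ Fin d) (Fin d ⊕ Fin d) F).charpoly = symmetrize d h := by
  classical
  rcases Nat.eq_zero_or_pos d with hd0 | hd0
  · subst hd0
    refine ⟨0, 1, ?_, one_mem _, ?_⟩
    · refine ⟨fun x _ => ?_, fun x _ => ?_⟩ <;>
        exact funext fun i => by rcases i with i | i <;> exact i.elim0
    · rw [Polynomial.eq_one_of_monic_natDegree_zero hm hd]
      simp [symmetrize, Matrix.charpoly, Matrix.det_isEmpty]
  let pb := AdjoinRoot.powerBasis hm.ne_zero
  have hdim : pb.dim = d := hd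
  let b := pb.basis.reindex (finCongr hdim)
  let y := pb.gen
  set C₀ := Algebra.leftMulMatrix b y with hC₀
  have hC : C₀.charpoly = h := by
    have : C₀ = Matrix.reindex (finCongr hdim) (finCongr hdim) (Algebra.leftMulMatrix pb.basis y) := by
      ext i j
      simp [C₀, b, Algebra.leftMulMatrix_eq_repr_mul]
    rw [this, Matrix.charpoly_reindex, charpoly_leftMulMatrix]
    exact AdjoinRoot.minpoly_powerBasis_gen_of_monic hm
  obtain ⟨τ, hτ⟩ := exists_nd_functional h hm (hd ▸ hd0)
  let E := b.equivFun.symm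
  let pA : (Fin d ⊕ Fin d → F) →ₗ[F] AdjoinRoot h := E.toLinearMap.comp (LinearMap.funLeft F F Sum.inl)
  let pB : (Fin d ⊕ Fin d → F) →ₗ[F] AdjoinRoot h := E.toLinearMap.comp (LinearMap.funLeft F F Sum.inr)
  let Bf : LinearMap.BilinMap F (Fin d ⊕ Fin d → F) F :=
    LinearMap.mk₂ F (fun v w => τ (pA v * pA w + y * (pA v * pB w) + pB v * pB w))
      (fun a b c => by simp [map_add, add_mul, mul_add]; ring)
      (fun c a b => by simp [map_smul, ← smul_add])
      (fun a b c => by simp [map_add, mul_add]; ring)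
      (fun c a b => by simp [map_smul, ← smul_add])
  let Q : QuadraticForm F (Fin d ⊕ Fin d → F) := Bf.toQuadraticMap
  have hQv : ∀ v, Q v = τ (pA v * pA v + y * (pA v * pB v) + pB v * pB v) := fun v => rfl
  let M : Matrix (Fin d ⊕ Fin d) (Fin d ⊕ Fin d) F :=
    Matrix.fromBlocks (0 : Matrix (Fin d) (Fin d) F) (-1 : Matrix (Fin d) (Fin d) F)
      (1 : Matrix (Fin d) (Fin d) F) C₀
  have hMA : ∀ v, pA (M *ᵥ v) = -pB v := fun v => by
    show E ((M *ᵥ v) ∘ Sum.inl) = -E (v ∘ Sum.inr)
    rw [Matrix.fromBlocks_mulVec, Sum.elim_comp_inl, Matrix.zero_mulVec, zero_add, Matrix.neg_mulVec,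
      Matrix.one_mulVec, map_neg]
  have hMB : ∀ v, pB (M *ᵥ v) = pA v + y * pB v := fun v => by
    show E ((M *ᵥ v) ∘ Sum.inr) = E (v ∘ Sum.inl) + y * E (v ∘ Sum.inr)
    rw [Matrix.fromBlocks_mulVec, Sum.elim_comp_inr, Matrix.one_mulVec, map_add]
    refine congrArg (_ + ·) (b.equivFun.injective ?_)
    rw [show b.equivFun (E (C₀ *ᵥ (v ∘ Sum.inr))) = C₀ *ᵥ (v ∘ Sum.inr) from b.equivFun.apply_symm_apply _]
    rw [hC₀]
    conv_lhs => rw [show v ∘ Sum.inr = ⇑(b.repr (E (v ∘ Sum.inr))) from
      (b.equivFun.apply_symm_apply _).symm]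
    rw [Algebra.leftMulMatrix_mulVec_repr]
    rfl
  have hMQ : ∀ v, Q (M *ᵥ v) = Q v := fun v => by
    rw [hQv, hQv, hMA, hMB]
    congr 1
    ring
  have hMu : IsUnit M := by
    refine Matrix.mulVec_injective_iff_isUnit.1 fun v w hvw => ?_
    have ha := congrArg pA (show M *ᵥ v = M *ᵥ w from hvw)
    have hb := congrArg pB (show M *ᵥ v = M *ᵥ w from hvw)
    rw [hMA, hMA, neg_inj] at ha
    rw [hMB, hMB, ha, add_left_inj] at hb
    funext i
    rcases i with i | i
    · exact congrFun (E.injective hb) i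
    · exact congrFun (E.injective ha) i
  obtain ⟨g, hg⟩ := hMu
  refine ⟨Q, g, ?_, mem_isometryGroup_iff.2 fun v => by rw [hg]; exact hMQ v, ?_⟩
  · have key : ∀ x, (∀ w, QuadraticMap.polar Q x w = 0) → x = 0 := by
      intro x hx
      have hpol : ∀ w, τ ((2 * pA x + y * pB x) * pA w + (y * pA x + 2 * pB x) * pB w) = 0 := fun w => by
        have h1 := hx w
        rw [QuadraticMap.polar, hQv, hQv, hQv, ← map_sub, ← map_sub] at h1
        rw [← h1]
        congr 1
        simp only [map_add]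
        ring
      have e1 : 2 * pA x + y * pB x = 0 := hτ _ fun w => by
        have := hpol (Sum.elim (b.equivFun w) 0)
        have wa : pA (Sum.elim (b.equivFun w) 0) = w := b.equivFun.symm_apply_apply w
        have wb : pB (Sum.elim (b.equivFun w) 0) = 0 := map_zero E
        rwa [wa, wb, mul_zero, add_zero] at this
      have e2 : y * pA x + 2 * pB x = 0 := hτ _ fun w => by
        have := hpol (Sum.elim 0 (b.equivFun w))
        have wa : pA (Sum.elim 0 (b.equivFun w)) = 0 := map_zero E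
        have wb : pB (Sum.elim 0 (b.equivFun w)) = w := b.equivFun.symm_apply_apply w
        rwa [wa, wb, mul_zero, zero_add] at this
      have hu : ∀ c : F, h.eval c ≠ 0 → IsUnit (y - AdjoinRoot.of h c) := by
        intro c hc
        obtain ⟨u, v, huv⟩ := (((irreducible_X_sub_C c).coprime_iff_not_dvd).2 fun hdvd => hc
          (dvd_iff_isRoot.1 hdvd)).symm
        refine IsUnit.of_mul_eq_one (AdjoinRoot.mk h v) ?_
        have h3 := congrArg (AdjoinRoot.mk h) huv
        rw [map_add, map_mul, map_mul, map_sub, AdjoinRoot.mk_self, mul_zero, zero_add, AdjoinRoot.mk_X,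
          AdjoinRoot.mk_C, map_one] at h3
        rw [mul_comm]; exact h3
      have huu : IsUnit ((y - 2) * (y + 2)) := by
        refine IsUnit.mul ?_ ?_
        · have := hu 2 h2; rwa [map_ofNat] at this
        · have := hu (-2) h2'; rwa [map_neg, map_ofNat, sub_neg_eq_add] at this
      have ea : (y - 2) * (y + 2) * pA x = 0 := by linear_combination y * e2 - 2 * e1
      have eb : (y - 2) * (y + 2) * pB x = 0 := by linear_combination y * e1 - 2 * e2
      rw [huu.mul_right_eq_zero] at ea eb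
      funext i
      rcases i with i | i
      · exact congrFun (E.injective (ea.trans (map_zero E).symm)) i
      · exact congrFun (E.injective (eb.trans (map_zero E).symm)) i
    exact ⟨fun x hx => key x hx, fun x hx => key x fun w => by rw [QuadraticMap.polar_comm]; exact hx w⟩
  · rw [hg]
    exact charpoly_companion_block h hd C₀ hC

/-- Extension of an isometry of an embedded block by the identity on its orthogonal. -/
theorem exists_extend_isometry {α ι : Type} [Fintype α] [DecidableEq α] [Fintype ι] [DecidableEq ι]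
    (QW : QuadraticForm F (α → F)) (hW : (QuadraticMap.polarBilin QW).Nondegenerate)
    (Q : QuadraticForm F (ι → F)) (L : (α → F) →ₗ[F] (ι → F)) (hL : ∀ v, Q (L v) = QW v)
    (g : GL α F) (hg : g ∈ Cfsg.isometryGroup F ⇑QW) :
    ∃ T : GL ι F, T ∈ Cfsg.isometryGroup F ⇑Q ∧
      (X - 1) ^ Fintype.card α * (T : Matrix ι ι F).charpoly =
        (X - 1) ^ Fintype.card ι * (g : Matrix α α F).charpoly := by
  set Lm := LinearMap.toMatrix' L with hLm
  have hLv : ∀ v, Lm *ᵥ v = L v := fun v => LinearMap.toMatrix'_mulVec _ _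
  set GW := polarGram QW with hGW
  set GV := polarGram Q with hGV
  have hGu : IsUnit GW.det := (det_polarGram_ne_zero QW hW).isUnit
  have hpol : ∀ v w, QuadraticMap.polar Q (L v) (L w) = QuadraticMap.polar QW v w := fun v w => by
    simp only [QuadraticMap.polar, ← map_add, hL]
  set Pi' : Matrix α ι F := GW⁻¹ * Lmᵀ * GV with hPi
  have hGram : Lmᵀ * GV * Lm = GW := by
    refine Matrix.ext_iff_mulVec.2 fun w => dotProduct_eq _ _ fun v => ?_
    rw [dotProduct_comm, dotProduct_comm (GW *ᵥ w), hGW, dotProduct_polarGram_mulVec, ← Matrix.mulVec_mulVec,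
      ← Matrix.mulVec_mulVec, Matrix.dotProduct_mulVec v Lmᵀ, Matrix.vecMul_transpose, hLv, hLv, hGV,
      dotProduct_polarGram_mulVec, hpol]
  have hPL : Pi' * Lm = 1 := by
    rw [hPi, Matrix.mul_assoc GW⁻¹, Matrix.mul_assoc GW⁻¹, hGram, Matrix.nonsing_inv_mul _ hGu]
  have horth : ∀ v z, QuadraticMap.polar Q (v - L (Pi' *ᵥ v)) (L z) = 0 := fun v z => by
    rw [QuadraticMap.polar_sub_left, hpol, sub_eq_zero, QuadraticMap.polar_comm, QuadraticMap.polar_comm (⇑QW),
      ← dotProduct_polarGram_mulVec, ← dotProduct_polarGram_mulVec, ← hGV, ← hGW, Matrix.mulVec_mulVec, hPi,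
      ← Matrix.mul_assoc GW, ← Matrix.mul_assoc GW, Matrix.mul_nonsing_inv _ hGu, Matrix.one_mul,
      ← Matrix.mulVec_mulVec, Matrix.dotProduct_mulVec z Lmᵀ, Matrix.vecMul_transpose, hLv]
  let gm := (g : Matrix α α F)
  set T : Matrix ι ι F := 1 + Lm * ((gm - 1) * Pi') with hT
  have hTv : ∀ v, T *ᵥ v = (v - L (Pi' *ᵥ v)) + L (gm *ᵥ (Pi' *ᵥ v)) := fun v => by
    rw [hT, Matrix.add_mulVec, Matrix.one_mulVec, ← Matrix.mulVec_mulVec, ← Matrix.mulVec_mulVec, hLv,
      Matrix.sub_mulVec, Matrix.one_mulVec, map_sub]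
    abel
  have hTQ : ∀ v, Q (T *ᵥ v) = Q v := fun v => by
    have h1 := hg
    rw [mem_isometryGroup_iff] at h1
    conv_rhs => rw [← sub_add_cancel v (L (Pi' *ᵥ v))]
    rw [hTv, map_add_polar, map_add_polar, horth, horth, hL, hL, h1]
  have hTu : IsUnit T := by
    refine isUnit_iff_exists.2 ⟨1 + Lm * ((((g⁻¹ : GL α F) : Matrix α α F) - 1) * Pi'), ?_, ?_⟩ <;>
    · rw [hT]
      have e : ∀ A B : Matrix α α F, A * B = 1 →
          (1 + Lm * ((A - 1) * Pi')) * (1 + Lm * ((B - 1) * Pi')) = 1 := by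
        intro A B hAB
        have h2 : Lm * ((A - 1) * Pi') * (Lm * ((B - 1) * Pi')) = Lm * (((A - 1) * (B - 1)) * Pi') := by
          simp only [Matrix.mul_assoc]
          rw [← Matrix.mul_assoc Pi' Lm, hPL, Matrix.one_mul]
        rw [Matrix.add_mul, Matrix.mul_add, Matrix.mul_add, Matrix.one_mul, Matrix.one_mul, Matrix.mul_one, h2]
        have h3 : (A - 1) * (B - 1) = -(A - 1) - (B - 1) := by
          rw [Matrix.sub_mul, Matrix.mul_sub, Matrix.one_mul, Matrix.mul_one, hAB]; abel
        rw [h3]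
        simp only [Matrix.sub_mul, Matrix.mul_sub, Matrix.neg_mul, Matrix.mul_neg]
        abel
      first
        | exact e _ _ (Units.mul_inv g)
        | exact e _ _ (Units.inv_mul g)
  obtain ⟨u, hu⟩ := hTu
  refine ⟨u, mem_isometryGroup_iff.2 fun v => by rw [hu]; exact hTQ v, ?_⟩
  rw [hu]
  have hcomm := Matrix.charpoly_mul_comm' Lm ((gm - 1) * Pi')
  rw [Matrix.mul_assoc, hPL, Matrix.mul_one] at hcomm
  have hshift : ∀ {κ : Type} [Fintype κ] [DecidableEq κ] (M : Matrix κ κ F),
      (1 + M).charpoly = M.charpoly.comp (X - 1) := by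
    intro κ _ _ M
    have h1 : 1 + M = M - Matrix.scalar κ (-1 : F) := by
      rw [map_neg, map_one, sub_neg_eq_add, add_comm]
    rw [h1, Matrix.charpoly_sub_scalar, map_neg, map_one, sub_eq_add_neg]
  have h4 := congrArg (fun P => Polynomial.comp P (X - 1 : F[X])) hcomm
  simp only [mul_comp, pow_comp, X_comp, ← hshift] at h4
  rw [add_sub_cancel] at h4
  exact h4

end CfsgLib.IsometryConj
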