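import Mathlib
import Cfsg.Agent.Lib.Classical.QuadOrder
import Cfsg.Agent.Lib.Orth.Field.Normal

/-!
Embedding standard quadratic spaces of even dimension into larger ones.
-/

set_option autoImplicit false
set_option linter.all false

namespace CfsgLib.IsometryConj

open Matrix CfsgLib.Classical CfsgLib.Orth CfsgLib.Orth.FieldCls Cfsg.Geo CfsgLib.Perm.Trans.Quad CfsgLib.Perm.Trans

variable {F : Type*} [Field F] [Fintype F] {V : Type*} [AddCommGroup V] [Module F V] [FiniteDimensional F V]

local notation "pol" => QuadraticMap.polar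

theorem exists_anisotropic_binary :
    ∃ a b : F, ∀ z₁ z₂ : F, z₁ ^ 2 + a * z₁ * z₂ + b * z₂ ^ 2 = 0 → z₁ = 0 ∧ z₂ = 0 := by
  classical
  let f : F × F → F × F := fun x => (x.1 + x.2, x.1 * x.2)
  have hni : ¬ Function.Injective f := fun h => by
    have := @h (0, 1) (1, 0) (by simp [f])
    exact zero_ne_one (congrArg Prod.fst this)
  obtain ⟨⟨s, t⟩, hst⟩ : ∃ st, ∀ x, f x ≠ st := by
    by_contra hc
    push Not at hc
    exact hni (Finite.injective_iff_surjective.2 hc)
  refine ⟨-s, t, fun z₁ z₂ hz => ?_⟩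
  by_cases h2 : z₂ = 0
  · subst h2
    exact ⟨by simpa using hz, rfl⟩
  · exfalso
    refine hst (z₁ / z₂, s - z₁ / z₂) (Prod.ext ?_ ?_)
    · simp [f]
    · simp only [f]
      field_simp
      linear_combination -hz

theorem exists_embed_plus (P : QuadraticForm F V) (hP : (QuadraticMap.polarBilin P).Nondegenerate) {d : ℕ}
    (hd : 2 * d + 1 ≤ Module.finrank F V) :
    ∃ L : (Fin d ⊕ Fin d → F) →ₗ[F] V, ∀ v, P (L v) = Cfsg.quadFormPlus d F v := by
  obtain ⟨e, f, h⟩ := exists_hypFamily P hP d hd
  obtain ⟨L, -, hL⟩ := exists_plus_map P h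
  exact ⟨L, hL⟩

theorem exists_embed_minus (P : QuadraticForm F V) (hP : (QuadraticMap.polarBilin P).Nondegenerate) {k : ℕ}
    (hd : 2 * (k + 1) + 1 ≤ Module.finrank F V) {a b : F}
    (hab : ∀ z₁ z₂ : F, z₁ ^ 2 + a * z₁ * z₂ + b * z₂ ^ 2 = 0 → z₁ = 0 ∧ z₂ = 0) :
    ∃ L : ((Fin k ⊕ Fin k) ⊕ Fin 2 → F) →ₗ[F] V, ∀ v, P (L v) = Cfsg.quadFormMinus k F a b v := by
  classical
  obtain ⟨e, f, h⟩ := exists_hypFamily P hP k (by omega)
  have hW := h.perp_nondegenerate hP
  have hdW := h.finrank_perp
  obtain ⟨u, hu0, hu⟩ := exists_singular (P.comp (pairsPerp P e f).subtype) hW (by omega)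
  obtain ⟨v, hv, huv⟩ := exists_partner_quad hW hu0 hu
  have hu' : P (u : V) = 0 := hu
  have hv' : P (v : V) = 0 := hv
  have huv' : pol P (u : V) (v : V) = 1 := huv
  have h' := hyp_cons h hu' hv' huv' u.2 v.2
  have hW' := h'.perp_nondegenerate hP
  have hdW' := h'.finrank_perp
  obtain ⟨w, hw⟩ : ∃ w : pairsPerp P (Fin.cons (u : V) e : Fin (k + 1) → V) (Fin.cons (v : V) f : Fin (k + 1) → V),
      P (w : V) ≠ 0 := by
    by_contra hall
    push Not at hall
    haveI : Nontrivial (pairsPerp P (Fin.cons (u : V) e : Fin (k + 1) → V) (Fin.cons (v : V) f : Fin (k + 1) → V)) :=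
      Module.nontrivial_of_finrank_pos (R := F) (by omega)
    obtain ⟨w, hw0⟩ := exists_ne (0 : pairsPerp P (Fin.cons (u : V) e : Fin (k + 1) → V) (Fin.cons (v : V) f : Fin (k + 1) → V))
    refine hw0 (hW'.1 w fun z => ?_)
    show pol P (w : V) (z : V) = 0
    rw [QuadraticMap.polar, ← Submodule.coe_add, hall, hall, hall]
    ring
  have hwu : pol P (w : V) (u : V) = 0 := by simpa using (w.2 0).1
  have hwv : pol P (w : V) (v : V) = 0 := by simpa using (w.2 0).2
  have hwe : ∀ i, pol P (w : V) (e i) = 0 := fun i => by simpa using (w.2 i.succ).1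
  have hwf : ∀ i, pol P (w : V) (f i) = 0 := fun i => by simpa using (w.2 i.succ).2
  set c := P (w : V) with hc
  obtain ⟨s, t, l, hst, hl⟩ : ∃ s t l : F, s + t = a ∧ s * t + l ^ 2 * c = b := by
    by_cases h2 : (2 : F) = 0
    · haveI : CharP F 2 := CharTwo.of_one_ne_zero_of_two_eq_zero one_ne_zero h2
      obtain ⟨r, hr⟩ := exists_sq_char_two (b / c)
      exact ⟨0, a, r, zero_add a, by rw [zero_mul, zero_add, sq, hr, div_mul_cancel₀ _ hw]⟩
    · have hodd : Fintype.card F % 2 = 1 := FiniteField.odd_card_of_char_ne_two fun hch => h2 (by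
        haveI : CharP F 2 := ringChar.of_eq hch
        exact CharTwo.two_eq_zero)
      obtain ⟨x, y, hxy⟩ := FiniteField.exists_root_sum_quadratic
        (f := Polynomial.C c * Polynomial.X ^ 2 + Polynomial.C (a ^ 2 / 4 - b))
        (g := Polynomial.C (-1) * Polynomial.X ^ 2)
        (by rw [Polynomial.degree_add_C (by rw [Polynomial.degree_C_mul_X_pow 2 hw]; norm_num),
          Polynomial.degree_C_mul_X_pow 2 hw]; rfl)
        (by rw [Polynomial.degree_C_mul_X_pow 2 (neg_ne_zero.2 one_ne_zero)]; rfl) hodd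
      simp at hxy
      have h4 : (4 : F) ≠ 0 := by
        rw [show (4 : F) = 2 * 2 by norm_num]; exact mul_ne_zero h2 h2
      refine ⟨a / 2 + y, a / 2 - y, x, by field_simp; ring, ?_⟩
      field_simp at hxy ⊢
      linear_combination hxy
  let x' : V := (u : V) + (v : V)
  let y' : V := s • (u : V) + t • (v : V) + l • (w : V)
  have hvu' : pol P (v : V) (u : V) = 1 := by rw [QuadraticMap.polar_comm, huv']
  have huw : pol P (u : V) (w : V) = 0 := by rw [QuadraticMap.polar_comm, hwu]
  have hvw : pol P (v : V) (w : V) = 0 := by rw [QuadraticMap.polar_comm, hwv]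
  have hx' : P x' = 1 := by
    simp only [x', QuadraticMap.map_add ⇑P, hu', hv', huv', zero_add]
  have hy' : P y' = b := by
    simp only [y', QuadraticMap.map_add ⇑P, QuadraticMap.map_smul, QuadraticMap.polar_add_left,
      QuadraticMap.polar_smul_left, QuadraticMap.polar_smul_right, hu', hv', huv', huw, hvw, ← hc,
      smul_eq_mul, mul_zero, add_zero, zero_add, mul_one]
    linear_combination hl
  have hxy' : pol P x' y' = a := by
    simp only [x', y', QuadraticMap.polar_add_left, QuadraticMap.polar_add_right, QuadraticMap.polar_smul_right,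
      QuadraticMap.polar_self, hu', hv', huv', hvu', huw, hvw, smul_eq_mul, nsmul_eq_mul, mul_zero, add_zero,
      zero_add, mul_one]
    linear_combination hst
  have hxe : ∀ i, pol P x' (e i) = 0 := fun i => by
    simp [x', QuadraticMap.polar_add_left, (u.2 i).1, (v.2 i).1]
  have hxf : ∀ i, pol P x' (f i) = 0 := fun i => by
    simp [x', QuadraticMap.polar_add_left, (u.2 i).2, (v.2 i).2]
  have hye : ∀ i, pol P y' (e i) = 0 := fun i => by
    simp [y', QuadraticMap.polar_add_left, QuadraticMap.polar_smul_left, (u.2 i).1, (v.2 i).1, hwe i]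
  have hyf : ∀ i, pol P y' (f i) = 0 := fun i => by
    simp [y', QuadraticMap.polar_add_left, QuadraticMap.polar_smul_left, (u.2 i).2, (v.2 i).2, hwf i]
  obtain ⟨L, -, hv⟩ := exists_frame_map (quadFormMinus_nd (m := k) a b hab) P one_ne_zero
    (Sum.elim (Sum.elim e f) ![x', y'])
    (fun i => by
      rcases i with (i | i) | i
      · simp [Cfsg.quadFormMinus, h.qe, Pi.single_apply]
      · simp [Cfsg.quadFormMinus, h.qf, Pi.single_apply]
      · fin_cases i <;> simp [Cfsg.quadFormMinus, hx', hy', Pi.single_apply])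
    (fun i j => by
      rw [one_mul, polar_quadFormMinus]
      rcases i with (i | i) | i <;> rcases j with (j | j) | j
      all_goals first
        | (fin_cases i <;> fin_cases j <;>
            simp [hxy', QuadraticMap.polar_comm (⇑P) y' x', QuadraticMap.polar_self, hx', hy', Pi.single_apply] <;> ring)
        | (fin_cases i <;> simp [hxe, hxf, hye, hyf, Pi.single_apply])
        | (fin_cases j <;> simp [QuadraticMap.polar_comm (⇑P) (e _) x', QuadraticMap.polar_comm (⇑P) (f _) x',
            QuadraticMap.polar_comm (⇑P) (e _) y', QuadraticMap.polar_comm (⇑P) (f _) y',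
            hxe, hxf, hye, hyf, Pi.single_apply])
        | simp [h.ef, h.ee, h.ff, QuadraticMap.polar_comm (⇑P) (f _) (e _), Pi.single_apply, eq_comm])
  exact ⟨L, fun z => by rw [hv, one_mul]⟩

end CfsgLib.IsometryConj
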