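import Mathlib
import Cfsg.Agent.Lib.IsometryConj.Unitary
import Cfsg.Agent.Lib.IsometryConj.Corner
import Cfsg.Agent.Lib.GLClass.Semisimple

/-!
The centraliser of a semisimple unitary element in the general unitary group has every determinant
of norm one.
-/

set_option autoImplicit false

namespace CfsgLib.IsometryConj

open Matrix Module CfsgLib.SU

variable {F : Type*} [Field F] [Fintype F] {q n : ℕ} (C : UCtx F q)

local notation "Mat" => Matrix (Fin n) (Fin n) F

theorem form_adjoint (M : Mat) (u v : Fin n → F) :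
    C.form (M *ᵥ u) v = C.form u ((hermAdjoint C n).st M *ᵥ v) := by
  rw [C.form_eq_dot, C.form_eq_dot]
  have h : C.bar ∘ ((hermAdjoint C n).st M *ᵥ v) = Mᵀ *ᵥ (C.bar ∘ v) := funext fun i => by
    simp [hermAdjoint, Matrix.mulVec, dotProduct, C.bar_bar]
  rw [h, Matrix.dotProduct_mulVec u, Matrix.vecMul_transpose]

theorem smul_adjoint (c : F) (M : Mat) :
    (hermAdjoint C n).st (c • M) = C.bar c • (hermAdjoint C n).st M := by
  ext i j
  simp [hermAdjoint]

include C in
theorem exists_div_bar {z : F} (hz : z * C.bar z = 1) : ∃ d : F, d ≠ 0 ∧ z * C.bar d = d := by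
  obtain ⟨a, ha⟩ := C.exists_not_fixed
  by_cases h : z = -1
  · refine ⟨a - C.bar a, sub_ne_zero.2 (Ne.symm ha), ?_⟩
    rw [map_sub, C.bar_bar, h]; ring
  · refine ⟨1 + z, fun h' => h (eq_neg_of_add_eq_zero_right h'), ?_⟩
    rw [map_add, map_one, mul_add, mul_one, hz, add_comm]

/-- An element of the commutant with any determinant which commutes with its adjoint. -/
theorem exists_normal_det (hn : 0 < n) {p : ℕ} [Fact p.Prime] [CharP F p] (a : Mat)
    (hU : (hermAdjoint C n).st a * a = 1) {k : ℕ} (hk : 0 < k) (hk0 : (k : F) ≠ 0) (hAk : a ^ k = 1)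
    {d : F} (hd : d ≠ 0) :
    ∃ D : Mat, Commute D a ∧ Commute D ((hermAdjoint C n).st D) ∧ D.det = d := by
  classical
  set J := hermAdjoint C n with hJ
  set R := Algebra.adjoin F ({a} : Set Mat) with hR
  have hsta : J.st a = a ^ (k - 1) := by
    calc J.st a = J.st a * a ^ (1 + (k - 1)) := by rw [Nat.add_sub_cancel' hk, hAk, mul_one]
      _ = a ^ (k - 1) := by rw [pow_add, pow_one, ← mul_assoc, hU, one_mul]
  have haR : a ∈ R := Algebra.subset_adjoin rfl
  have hcR : ∀ r ∈ R, Commute r a := fun r hr => by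
    induction hr using Algebra.adjoin_induction with
    | mem x hx => rw [Set.mem_singleton_iff.1 hx]
    | algebraMap c => exact Algebra.commute_algebraMap_left c a
    | add x y _ _ hx hy => exact hx.add_left hy
    | mul x y _ _ hx hy => exact hx.mul_left hy
  have hcRR : ∀ r ∈ R, ∀ s ∈ R, Commute r s := fun r hr s hs => by
    induction hs using Algebra.adjoin_induction with
    | mem x hx => rw [Set.mem_singleton_iff.1 hx]; exact hcR r hr
    | algebraMap c => exact Algebra.commute_algebraMap_right c r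
    | add x y _ _ hx hy => exact hx.add_right hy
    | mul x y _ _ hx hy => exact hx.mul_right hy
  have hstR : ∀ r ∈ R, J.st r ∈ R := fun r hr => by
    induction hr using Algebra.adjoin_induction with
    | mem x hx => rw [Set.mem_singleton_iff.1 hx, hsta]; exact pow_mem haR _
    | algebraMap c =>
      rw [Algebra.algebraMap_eq_smul_one, smul_adjoint, ← hJ, J.st_one,
        ← Algebra.algebraMap_eq_smul_one]
      exact R.algebraMap_mem _
    | add x y _ _ hx hy => rw [J.st_add]; exact add_mem hx hy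
    | mul x y _ _ hx hy => rw [J.st_mul]; exact mul_mem hy hx
  haveI : Nonempty (Fin n) := ⟨⟨0, hn⟩⟩
  -- every element of `R` is fixed by a power of the Frobenius
  have hkp : k.Coprime p := by
    refine Nat.Coprime.symm ((Fact.out : p.Prime).coprime_iff_not_dvd.2 fun h => hk0 ?_)
    exact (CharP.cast_eq_zero_iff F p k).2 h
  obtain ⟨f, hpp, hcard⟩ := FiniteField.card F p
  set Q := Fintype.card F ^ k.totient with hQ
  have hQ1 : 1 < Q := Nat.one_lt_pow (Nat.totient_pos.2 hk).ne' Fintype.one_lt_card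
  have hQp : Q = p ^ ((f : ℕ) * k.totient) := by rw [hQ, hcard, ← pow_mul]
  have haQ : a ^ Q = a := by
    have h1 : Q % k = 1 % k := by
      rw [hQ, hcard]
      exact Nat.ModEq.pow_totient ((hkp.symm).pow_left _)
    rw [pow_eq_pow_mod Q hAk, h1, ← pow_eq_pow_mod 1 hAk, pow_one]
  have hRQ : ∀ r ∈ R, r ^ Q = r := fun r hr => by
    induction hr using Algebra.adjoin_induction with
    | mem x hx => rw [Set.mem_singleton_iff.1 hx, haQ]
    | algebraMap c => rw [← map_pow, hQ, FiniteField.pow_card_pow]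
    | add x y hxR hyR hx hy =>
      rw [hQp] at hx hy ⊢
      rw [add_pow_char_pow_of_commute _ _ (hcRR x hxR y hyR), hx, hy]
    | mul x y hxR hyR hx hy => rw [(hcRR x hxR y hyR).mul_pow, hx, hy]
  -- a cyclic non-degenerate submodule
  let N : (Fin n → F) → Submodule F (Fin n → F) := fun x =>
    (Subalgebra.toSubmodule R).map ((LinearMap.applyₗ x).comp Matrix.toLin'.toLinearMap)
  have hN : ∀ x v, v ∈ N x ↔ ∃ r ∈ R, r *ᵥ x = v := fun x v => by
    simp [N, Submodule.mem_map, Matrix.toLin'_apply]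
  have hmove : ∀ (x : Fin n → F), ∀ r ∈ R, ∀ v ∈ N x, r *ᵥ v ∈ N x := fun x r hr v hv => by
    obtain ⟨s, hs, rfl⟩ := (hN x v).1 hv
    exact (hN x _).2 ⟨r * s, mul_mem hr hs, by rw [Matrix.mulVec_mulVec]⟩
  let e₀ : Fin n → F := Pi.single ⟨0, hn⟩ 1
  have he₀ : ∃ u ∈ N e₀, ∃ v ∈ N e₀, C.form u v ≠ 0 :=
    ⟨e₀, (hN _ _).2 ⟨1, one_mem R, Matrix.one_mulVec _⟩, e₀,
      (hN _ _).2 ⟨1, one_mem R, Matrix.one_mulVec _⟩, by
      simp [e₀, UCtx.form, Pi.single_apply, apply_ite C.bar]⟩
  have hex : ∃ m, ∃ x, finrank F (N x) = m ∧ ∃ u ∈ N x, ∃ v ∈ N x, C.form u v ≠ 0 := ⟨_, e₀, rfl, he₀⟩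
  obtain ⟨x, hxm, hx⟩ := Nat.find_spec hex
  have hnd : ∀ w ∈ N x, (∀ v ∈ N x, C.form w v = 0) → w = 0 := by
    intro w hw hrad
    obtain ⟨r, hr, rfl⟩ := (hN x w).1 hw
    by_contra hne
    set g : Mat := r ^ (Q - 2) * r with hg
    have hgR : g ∈ R := mul_mem (pow_mem hr _) hr
    have hgQ : g = r ^ (Q - 1) := by rw [hg, ← pow_succ]; congr 1; omega
    have hgr : r * g = r := by rw [hgQ, ← pow_succ', Nat.sub_add_cancel hQ1.le, hRQ r hr]
    have hgg : g * g = g := by
      conv_lhs => arg 1; rw [hg]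
      rw [mul_assoc, hgr, hg]
    have hgx : g *ᵥ x ≠ 0 := fun h0 => hne (by rw [← hgr, ← Matrix.mulVec_mulVec, h0, Matrix.mulVec_zero])
    set x' := x - g *ᵥ x with hx'
    have hgrad : ∀ s ∈ R, ∀ v ∈ N x, C.form (s *ᵥ (g *ᵥ x)) v = 0 := fun s hs v hv => by
      rw [hg, Matrix.mulVec_mulVec, ← mul_assoc, ← Matrix.mulVec_mulVec, form_adjoint]
      exact hrad _ (hmove x _ (hstR _ (mul_mem hs (pow_mem hr _))) v hv)
    have hx'N : ∀ v ∈ N x', v ∈ N x := fun v hv => by
      obtain ⟨s, hs, rfl⟩ := (hN x' v).1 hv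
      exact (hN x _).2 ⟨s * (1 - g), mul_mem hs (sub_mem (one_mem R) hgR), by
        rw [hx', ← Matrix.mulVec_mulVec, Matrix.sub_mulVec, Matrix.one_mulVec]⟩
    have hlt : N x' < N x := by
      refine lt_of_le_of_ne hx'N fun heq => hgx ?_
      have h1 : g *ᵥ x ∈ N x' := by rw [heq]; exact (hN x _).2 ⟨g, hgR, rfl⟩
      obtain ⟨s, hs, hs'⟩ := (hN x' _).1 h1
      calc g *ᵥ x = g *ᵥ (g *ᵥ x) := by rw [Matrix.mulVec_mulVec, hgg]
        _ = s *ᵥ (g *ᵥ x') := by
          rw [← hs', Matrix.mulVec_mulVec, (hcRR g hgR s hs).eq, ← Matrix.mulVec_mulVec]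
        _ = 0 := by rw [hx', Matrix.mulVec_sub g, Matrix.mulVec_mulVec, hgg, sub_self, Matrix.mulVec_zero]
    refine Nat.find_min hex (m := finrank F (N x')) (hxm ▸ Submodule.finrank_lt_finrank_of_lt hlt) ⟨x', rfl, ?_⟩
    by_contra hall
    push_neg at hall
    obtain ⟨u, hu, v, hv, huv⟩ := hx
    refine huv ?_
    obtain ⟨s, hs, rfl⟩ := (hN x u).1 hu
    obtain ⟨t, ht, rfl⟩ := (hN x v).1 hv
    have hdec : x = x' + g *ᵥ x := by rw [hx', sub_add_cancel]
    conv_lhs => rw [hdec, Matrix.mulVec_add, Matrix.mulVec_add]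
    rw [C.form_add_left, hgrad s hs _ (by
        rw [← Matrix.mulVec_add, ← hdec]; exact (hN x _).2 ⟨t, ht, rfl⟩), add_zero, C.form_add_right,
      hall _ ((hN x' _).2 ⟨s, hs, rfl⟩) _ ((hN x' _).2 ⟨t, ht, rfl⟩), zero_add,
      ← C.bar_form, hgrad t ht _ (hx'N _ ((hN x' _).2 ⟨s, hs, rfl⟩)), map_zero]
  have hWne : N x ≠ ⊥ := fun hb => by
    obtain ⟨u, hu, v, _, huv⟩ := hx
    rw [hb] at hu
    rw [(Submodule.mem_bot F).1 hu, C.form_zero_left] at huv
    exact huv rfl
  set W := N x with hW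
  -- the orthogonal projection
  let b := Module.finBasis F W
  let Φ : (Fin n → F) →ₗ[F] (Fin (finrank F W) → F) :=
    { toFun := fun v j => C.form v (b j : Fin n → F)
      map_add' := fun u v => funext fun j => C.form_add_left u v _
      map_smul' := fun c v => funext fun j => C.form_smul_left c v _ }
  have hΦ0 : ∀ v, Φ v = 0 → ∀ w ∈ W, C.form v w = 0 := by
    intro v hv w hw
    have hs : (⟨w, hw⟩ : W) ∈ Submodule.span F (Set.range b) := by rw [b.span_eq]; trivial
    have : ∀ z : W, z ∈ Submodule.span F (Set.range b) → C.form v (z : Fin n → F) = 0 := by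
      intro z hz
      induction hz using Submodule.span_induction with
      | mem y hy => obtain ⟨j, rfl⟩ := hy; exact congrFun hv j
      | zero => rw [Submodule.coe_zero, C.form_zero_right]
      | add y z _ _ hy hz => rw [Submodule.coe_add, C.form_add_right, hy, hz, add_zero]
      | smul c y _ hy => rw [Submodule.coe_smul, C.form_smul_right, hy, mul_zero]
    exact this _ hs
  have hbij : Function.Bijective (Φ.comp W.subtype) := by
    have hinj : Function.Injective (Φ.comp W.subtype) := by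
      rw [← LinearMap.ker_eq_bot, eq_bot_iff]
      intro w hw
      exact (Submodule.mem_bot F).2 (Subtype.ext (hnd w w.2 (hΦ0 _ hw)))
    exact ⟨hinj, (LinearMap.injective_iff_surjective_of_finrank_eq_finrank
      (by rw [Module.finrank_fin_fun])).1 hinj⟩
  let E := LinearEquiv.ofBijective _ hbij
  let π : (Fin n → F) →ₗ[F] W := E.symm.toLinearMap.comp Φ
  have hπ : ∀ v, ∀ w ∈ W, C.form (v - (π v : Fin n → F)) w = 0 := by
    intro v
    refine hΦ0 _ ?_
    rw [map_sub, sub_eq_zero]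
    exact (E.apply_symm_apply (Φ v)).symm
  have hπu : ∀ v (w : W), (∀ z ∈ W, C.form (v - (w : Fin n → F)) z = 0) → π v = w := by
    intro v w h
    refine Subtype.ext (sub_eq_zero.1 (hnd _ (sub_mem (π v).2 w.2) fun z hz => ?_))
    rw [show ((π v : Fin n → F) - w) = (v - w) - (v - π v) by abel, C.form_sub_left, h z hz, hπ v z hz,
      sub_zero]
  set e : Mat := LinearMap.toMatrix' (W.subtype.comp π) with he
  have hev : ∀ v, e *ᵥ v = (π v : Fin n → F) := fun v => LinearMap.toMatrix'_mulVec _ _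
  have heW : ∀ w ∈ W, e *ᵥ w = w := fun w hw => by
    rw [hev, hπu w ⟨w, hw⟩ fun z _ => by rw [sub_self, C.form_zero_left]]
  have hea : Commute e a := by
    refine Matrix.ext_iff_mulVec.2 fun v => ?_
    rw [← Matrix.mulVec_mulVec, ← Matrix.mulVec_mulVec, hev, hev]
    refine congrArg Subtype.val (hπu (a *ᵥ v) ⟨a *ᵥ (π v : Fin n → F), hmove x a haR _ (π v).2⟩ fun z hz => ?_)
    rw [← Matrix.mulVec_sub, form_adjoint]
    exact hπ v _ (hmove x _ (hstR a haR) z hz)
  have hste : J.st e = e := by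
    refine Matrix.ext_iff_mulVec.2 fun v => sub_eq_zero.1 (C.eq_zero_of_form' fun u => ?_)
    rw [C.form_sub_right, hJ, ← form_adjoint, hev, hev]
    have h1 : C.form (u - (π u : Fin n → F)) (π v : Fin n → F) = 0 := hπ u _ (π v).2
    have h2 : C.form (π u : Fin n → F) (v - (π v : Fin n → F)) = 0 := by
      rw [← C.bar_form, hπ v _ (π u).2, map_zero]
    rw [C.form_sub_left] at h1
    rw [C.form_sub_right] at h2
    linear_combination h2 - h1
  -- the restriction
  let T : W →ₗ[F] W := (Matrix.mulVecLin a).restrict (fun w hw => hmove x a haR w hw)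
  let A' : Matrix (Fin (finrank F W)) (Fin (finrank F W)) F := LinearMap.toMatrixAlgEquiv b T
  have hTk : ∀ i, ∀ w : W, ((T ^ i) w : Fin n → F) = (a ^ i) *ᵥ (w : Fin n → F) := by
    intro i
    induction i with
    | zero => intro w; simp
    | succ i ih =>
      intro w
      rw [pow_succ', Module.End.mul_apply, pow_succ', ← Matrix.mulVec_mulVec, ← ih]
      rfl
  have hA'k : A' ^ k = 1 := by
    rw [← map_pow, show T ^ k = 1 from LinearMap.ext fun w => Subtype.ext (by
      rw [hTk, hAk, Matrix.one_mulVec]; rfl), map_one]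
  have hss : CfsgLib.GLClass.IsSS A' := ⟨Polynomial.X ^ k - 1,
    (Polynomial.X_pow_sub_one_separable_iff.2 hk0).squarefree,
    by rw [map_sub, map_pow, Polynomial.aeval_X, map_one, hA'k, sub_self]⟩
  haveI : Nonempty (Fin (finrank F W)) :=
    ⟨⟨0, Nat.pos_of_ne_zero fun h => hWne (Submodule.finrank_eq_zero.1 h)⟩⟩
  obtain ⟨D', hD', hD'd⟩ := CfsgLib.GLClass.exists_commute_det hss d hd
  let S : W →ₗ[F] W := (LinearMap.toMatrixAlgEquiv b).symm D'
  have hST : S * T = T * S := by
    apply (LinearMap.toMatrixAlgEquiv b).injective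
    rw [map_mul, map_mul]
    simpa [S] using hD'
  have hxW : x ∈ W := (hN x x).2 ⟨1, one_mem R, Matrix.one_mulVec x⟩
  obtain ⟨r₀, hr₀, hr₀x⟩ := (hN x _).1 (S ⟨x, hxW⟩).2
  have hSR : ∀ s ∈ R, ∀ w : W, ∀ hm : s *ᵥ (w : Fin n → F) ∈ W,
      (S ⟨s *ᵥ (w : Fin n → F), hm⟩ : Fin n → F) = s *ᵥ (S w : Fin n → F) := by
    intro s hs
    induction hs using Algebra.adjoin_induction with
    | mem y hy =>
      intro w hm
      have hya : y = a := hy
      simp only [hya]
      exact congrArg Subtype.val (LinearMap.congr_fun hST w)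
    | algebraMap c =>
      intro w hm
      have e1 : ∀ v : Fin n → F, algebraMap F Mat c *ᵥ v = c • v := fun v => by
        rw [Algebra.algebraMap_eq_smul_one, Matrix.smul_mulVec, Matrix.one_mulVec]
      simp only [e1]
      exact congrArg Subtype.val (map_smul S c w)
    | add y z hy hz ihy ihz =>
      intro w hm
      simp only [Matrix.add_mulVec]
      rw [← ihy w (hmove x y hy _ w.2), ← ihz w (hmove x z hz _ w.2), ← Submodule.coe_add, ← map_add]
      rfl
    | mul y z hy hz ihy ihz =>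
      intro w hm
      simp only [← Matrix.mulVec_mulVec]
      rw [← ihz w (hmove x z hz _ w.2)]
      exact ihy ⟨z *ᵥ (w : Fin n → F), hmove x z hz _ w.2⟩ _
  have hSr : ∀ w : W, (S w : Fin n → F) = r₀ *ᵥ (w : Fin n → F) := by
    rintro ⟨w, hw⟩
    obtain ⟨s, hs, rfl⟩ := (hN x w).1 hw
    have := hSR s hs ⟨x, hxW⟩ hw
    rw [← hr₀x, Matrix.mulVec_mulVec, (hcRR s hs r₀ hr₀).eq, ← Matrix.mulVec_mulVec] at this
    exact this
  have heR : ∀ r ∈ R, Commute r e := fun r hr => by
    induction hr using Algebra.adjoin_induction with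
    | mem y hy => rw [Set.mem_singleton_iff.1 hy]; exact hea.symm
    | algebraMap c => exact Algebra.commute_algebraMap_left c e
    | add y z _ _ hy hz => exact hy.add_left hz
    | mul y z _ _ hy hz => exact hy.mul_left hz
  refine ⟨r₀ * e + (1 - e), ?_, ?_, ?_⟩
  · exact ((hcR r₀ hr₀).mul_left hea).add_left ((Commute.one_left a).sub_left hea)
  · have h1 := heR r₀ hr₀
    have h2 := heR _ (hstR r₀ hr₀)
    rw [J.st_add, J.st_sub, J.st_one, J.st_mul, hste]
    have h3 := hcRR r₀ hr₀ _ (hstR r₀ hr₀)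
    have c1 : Commute (r₀ * e) (e * J.st r₀) :=
      (h1.mul_left (Commute.refl e)).mul_right (h3.mul_left h2.symm)
    have c2 : Commute (r₀ * e) (1 - e) :=
      (Commute.one_right _).sub_right (h1.mul_left (Commute.refl e))
    have c3 : Commute (1 - e) (e * J.st r₀) :=
      (Commute.one_left _).sub_left ((Commute.refl e).mul_right h2.symm)
    exact (c1.add_right c2).add_left (c3.add_right (Commute.refl _))
  · set D : Mat := r₀ * e + (1 - e) with hD
    have hDv : ∀ v, D *ᵥ v = r₀ *ᵥ (π v : Fin n → F) + (v - (π v : Fin n → F)) := fun v => by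
      rw [hD, Matrix.add_mulVec, ← Matrix.mulVec_mulVec, hev, Matrix.sub_mulVec, Matrix.one_mulVec, hev]
    have hDW : ∀ w ∈ W, D *ᵥ w = r₀ *ᵥ w := fun w hw => by
      rw [hDv, ← hev, heW w hw, sub_self, add_zero]
    have hcomap : W ≤ W.comap (Matrix.mulVecLin D) := fun w hw => by
      show D *ᵥ w ∈ W
      rw [hDW w hw]; exact hmove x r₀ hr₀ w hw
    rw [← LinearMap.det_toLin', show Matrix.toLin' D = Matrix.mulVecLin D from rfl,
      LinearMap.det_eq_det_mul_det W (Matrix.mulVecLin D) hcomap]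
    have hQid : W.mapQ W (Matrix.mulVecLin D) hcomap = LinearMap.id := LinearMap.ext fun v => by
      obtain ⟨v, rfl⟩ := Submodule.Quotient.mk_surjective W v
      rw [Submodule.mapQ_apply, LinearMap.id_apply, Submodule.Quotient.eq, Matrix.mulVecLin_apply, hDv]
      rw [show r₀ *ᵥ (π v : Fin n → F) + (v - π v) - v = r₀ *ᵥ (π v : Fin n → F) - π v by abel]
      exact sub_mem (hmove x r₀ hr₀ _ (π v).2) (π v).2
    have hres : (Matrix.mulVecLin D).restrict hcomap = S := LinearMap.ext fun w => Subtype.ext (by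
      rw [hSr]; exact hDW w w.2)
    rw [hQid, hres, LinearMap.det_id, mul_one, ← LinearMap.det_toMatrix b]
    show (LinearMap.toMatrixAlgEquiv b S).det = d
    simp only [S, AlgEquiv.apply_symm_apply, hD'd]

include C in
theorem exists_centralizer_det (hn : 0 < n) {p : ℕ} [Fact p.Prime] [CharP F p]
    (A : ↥(Cfsg.GU n F q)) (hA : (orderOf A).Coprime p) {z : F} (hz : z * C.bar z = 1) :
    ∃ V : ↥(Cfsg.GU n F q), Commute V A ∧ ((V : GL (Fin n) F) : Mat).det = z := by
  set J := hermAdjoint C n with hJ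
  obtain ⟨d, hd, hzd⟩ := exists_div_bar C hz
  have hk0 : ((orderOf A : ℕ) : F) ≠ 0 := by
    rw [Ne, CharP.cast_eq_zero_iff F p]
    exact fun h => (Fact.out : p.Prime).not_dvd_one (hA.gcd_eq_one ▸ Nat.dvd_gcd h dvd_rfl)
  have hAk : ((A : GL (Fin n) F) : Mat) ^ orderOf A = 1 := by
    rw [← Units.val_pow_eq_pow_val, ← SubmonoidClass.coe_pow, pow_orderOf_eq_one]; rfl
  obtain ⟨D, hDA, hDD, hDd⟩ := exists_normal_det C hn (p := p) _ ((hermAdjoint_iff C _).1 A.2)
    (orderOf_pos A) hk0 hAk hd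
  have hDu : IsUnit D := (Matrix.isUnit_iff_isUnit_det D).2 (by rw [hDd]; exact hd.isUnit)
  obtain ⟨u, rfl⟩ := hDu
  have hcu : J.stUnit u * u = u * J.stUnit u := Units.ext hDD.eq.symm
  have hV : u * (J.stUnit u)⁻¹ ∈ Cfsg.GU n F q := by
    refine (hermAdjoint_iff C _).2 (congrArg Units.val
      (show J.stUnit (u * (J.stUnit u)⁻¹) * (u * (J.stUnit u)⁻¹) = 1 from ?_))
    have hstst : J.stUnit (J.stUnit u) = u := Units.ext (J.st_st _)
    rw [J.stUnit_mul, J.stUnit_inv, hstst, mul_assoc, ← mul_assoc (J.stUnit u), hcu]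
    group
  have hAu : J.stUnit (A : GL (Fin n) F) = ((A : GL (Fin n) F))⁻¹ :=
    eq_inv_of_mul_eq_one_left (Units.ext ((hermAdjoint_iff C _).1 A.2))
  have hstA : Commute (J.stUnit u) (A : GL (Fin n) F) := by
    have h : Commute (J.stUnit u) (J.stUnit (A : GL (Fin n) F)) := by
      unfold Commute SemiconjBy
      rw [← J.stUnit_mul, ← J.stUnit_mul]
      exact congrArg J.stUnit (Units.ext hDA.eq.symm)
    rw [hAu] at h
    simpa using h.inv_right
  refine ⟨⟨_, hV⟩, Subtype.ext ((show Commute u (A : GL (Fin n) F) from Units.ext hDA.eq).mul_left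
    hstA.inv_left).eq, ?_⟩
  have hdet : ((J.stUnit u : GL (Fin n) F) : Mat).det = C.bar d := by
    show (((u : Mat).map C.bar)ᵀ).det = _
    rw [Matrix.det_transpose, ← hDd]
    exact (C.bar.toRingHom.map_det _).symm
  have h1 : ((u * (J.stUnit u)⁻¹ : GL (Fin n) F) : Mat).det * C.bar d = d := by
    rw [← hdet, ← Matrix.det_mul, ← Units.val_mul, inv_mul_cancel_right, hDd]
  exact mul_right_cancel₀ ((map_ne_zero C.bar).2 hd) (h1.trans hzd.symm)

theorem su_isConj_of_charpoly (hF : Fintype.card F = q ^ 2) (p : ℕ) [Fact p.Prime] [CharP F p]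
    (g h : ↥(Cfsg.SU n F q)) (hg : (orderOf g).Coprime p) (hh : (orderOf h).Coprime p)
    (hc : ((g : Matrix.SpecialLinearGroup (Fin n) F) : Mat).charpoly =
      ((h : Matrix.SpecialLinearGroup (Fin n) F) : Mat).charpoly) : IsConj g h := by
  rcases Nat.eq_zero_or_pos n with hn | hn
  · subst hn
    have : g = h := Subtype.ext (Subtype.ext (Subsingleton.elim _ _))
    rw [this]
  obtain ⟨C⟩ := CfsgLib.Classical.uctx_exists hF
  let ι : ↥(Cfsg.SU n F q) →* ↥(Cfsg.GU n F q) :=
    ((Matrix.SpecialLinearGroup.toGL).comp (Cfsg.SU n F q).subtype).codRestrict _ fun x => x.2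
  have hι : Function.Injective ι := fun x y hxy => Subtype.ext (Subtype.ext
    (congrArg (fun w : ↥(Cfsg.GU n F q) => ((w : GL (Fin n) F) : Mat)) hxy))
  have hord : ∀ x, orderOf ((ι x : ↥(Cfsg.GU n F q)) : GL (Fin n) F) = orderOf x := fun x => by
    rw [Subgroup.orderOf_coe, orderOf_injective ι hι]
  have hconj : IsConj (ι g) (ι h) := (gu_isConj_iff hF _ _).2 (by
    obtain ⟨P, hP⟩ := CfsgLib.GLClass.isConj_of_charpoly_eq
      (CfsgLib.GLClass.isSS_of_coprime p _ (by rw [hord g]; exact hg))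
      (CfsgLib.GLClass.isSS_of_coprime p _ (by rw [hord h]; exact hh)) (show
        ((ι g : GL (Fin n) F) : Mat).charpoly = ((ι h : GL (Fin n) F) : Mat).charpoly from hc)
    exact isConj_iff.2 ⟨P, mul_inv_eq_iff_eq_mul.2 (Units.ext hP.eq)⟩)
  obtain ⟨U, hU⟩ := isConj_iff.1 hconj
  obtain ⟨V, hVg, hVd⟩ := exists_centralizer_det C hn (p := p) (ι g)
    (by rw [orderOf_injective ι hι]; exact hg)
    (z := (((C.detHom U)⁻¹ : C.unitOne) : Fˣ)) (C.mem_unitOne.1 ((C.detHom U)⁻¹).2)
  have hdet : (((U * V : ↥(Cfsg.GU n F q)) : GL (Fin n) F) : Mat).det = 1 := by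
    rw [Subgroup.coe_mul, Units.val_mul, Matrix.det_mul, hVd, ← C.detHom_val, ← Units.val_mul,
      ← Subgroup.coe_mul, mul_inv_cancel]
    rfl
  let W : ↥(Cfsg.SU n F q) := ⟨⟨_, hdet⟩, (U * V).2⟩
  have hW : ι W = U * V := Subtype.ext (Units.ext rfl)
  refine isConj_iff.2 ⟨W, hι ?_⟩
  rw [map_mul, map_mul, map_inv, hW]
  calc U * V * ι g * (U * V)⁻¹ = U * (V * ι g * V⁻¹) * U⁻¹ := by group
    _ = ι h := by rw [hVg.eq, mul_inv_cancel_right, hU]

end CfsgLib.IsometryConj
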