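import Mathlib
import Cfsg.Agent.Lib.IsometryConj.SUnitary
import Cfsg.Agent.Lib.GLClass.SemisimpleCount

/-!
Characteristic polynomials of unitary matrices and the number of semisimple classes of `SU`.
-/

set_option autoImplicit false

namespace CfsgLib.IsometryConj

open Matrix Polynomial CfsgLib.SU

variable {F : Type*} [Field F] [Fintype F] {q n : ℕ}

local notation "Mat" => Matrix (Fin n) (Fin n) F

/-- the coefficient symmetry of unitary characteristic polynomials of determinant one -/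
def IsUSym (C : UCtx F q) (n : ℕ) (P : F[X]) : Prop :=
  P.Monic ∧ P.natDegree = n ∧ P.coeff 0 = (-1) ^ n ∧
    ∀ j ≤ n, P.coeff (n - j) = (-1) ^ n * C.bar (P.coeff j)

theorem charpoly_contragredient (C : UCtx F q) (A : Mat) (hA : A.det = 1) :
    ((hermAdjoint C n).st A)⁻¹.charpoly =
      Polynomial.C ((-1) ^ n) * (A.charpoly.map (C.bar : F →+* F)).reverse := by
  have h1 : ((hermAdjoint C n).st A).charpoly = A.charpoly.map (C.bar : F →+* F) := by
    show ((A.map C.bar)ᵀ).charpoly = _
    rw [Matrix.charpoly_transpose, ← Matrix.charpoly_map]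
    rfl
  have h2 : ((hermAdjoint C n).st A).det = 1 := by
    show ((A.map C.bar)ᵀ).det = 1
    rw [Matrix.det_transpose]
    show ((C.bar.toRingHom.mapMatrix) A).det = 1
    rw [← RingHom.map_det, hA, map_one]
  rw [Matrix.charpoly_inv _ ((Matrix.isUnit_iff_isUnit_det _).2 (by rw [h2]; exact isUnit_one)),
    ← Matrix.reverse_charpoly, h1, h2, Ring.inverse_one, map_one, mul_one, Fintype.card_fin,
    map_pow, map_neg, map_one]

theorem charpoly_contragredient_coeff (C : UCtx F q) (A : Mat) (hA : A.det = 1) {j : ℕ} (hj : j ≤ n) :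
    ((hermAdjoint C n).st A)⁻¹.charpoly.coeff j = (-1) ^ n * C.bar (A.charpoly.coeff (n - j)) := by
  rw [charpoly_contragredient C A hA, Polynomial.coeff_C_mul, Polynomial.coeff_reverse,
    Polynomial.natDegree_map_eq_of_injective (C.bar : F →+* F).injective,
    Matrix.charpoly_natDegree_eq_dim, Fintype.card_fin, Polynomial.revAt_le hj, Polynomial.coeff_map]
  rfl

theorem su_isUSym (C : UCtx F q) (g : ↥(Cfsg.SU n F q)) :
    IsUSym C n ((g : Matrix.SpecialLinearGroup (Fin n) F) : Mat).charpoly := by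
  set M := ((g : Matrix.SpecialLinearGroup (Fin n) F) : Mat) with hM
  have hdet : M.det = 1 := (g : Matrix.SpecialLinearGroup (Fin n) F).2
  have hst : (hermAdjoint C n).st M * M = 1 :=
    (hermAdjoint_iff C (Matrix.SpecialLinearGroup.toGL (g : Matrix.SpecialLinearGroup (Fin n) F))).1 g.2
  have h1 : ((hermAdjoint C n).st M)⁻¹ = M := Matrix.inv_eq_right_inv hst
  have hnd : M.charpoly.natDegree = n := by rw [Matrix.charpoly_natDegree_eq_dim, Fintype.card_fin]
  have hsym : ∀ j ≤ n, M.charpoly.coeff j = (-1) ^ n * C.bar (M.charpoly.coeff (n - j)) := fun j hj => by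
    conv_lhs => rw [← h1, charpoly_contragredient_coeff C M hdet hj]
  refine ⟨Matrix.charpoly_monic _, hnd, ?_, fun j hj => ?_⟩
  · have htop : M.charpoly.coeff n = 1 := by
      conv_lhs => arg 2; rw [← hnd]
      exact (Matrix.charpoly_monic _).coeff_natDegree
    rw [hsym 0 (Nat.zero_le _), Nat.sub_zero, htop, map_one, mul_one]
  · rw [hsym (n - j) (Nat.sub_le _ _), Nat.sub_sub_self hj]

theorem exists_su_charpoly (hF : Fintype.card F = q ^ 2) (p : ℕ) [Fact p.Prime] [CharP F p]
    (C : UCtx F q) {P : F[X]} (hP : IsUSym C n P) :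
    ∃ g : ↥(Cfsg.SU n F q), (orderOf g).Coprime p ∧
      ((g : Matrix.SpecialLinearGroup (Fin n) F) : Mat).charpoly = P := by
  classical
  obtain ⟨hm, hd, h0, hsym⟩ := hP
  obtain ⟨A, hA, hAo⟩ := CfsgLib.GLClass.exists_ss_of_monic p P hm hd (by
    rw [← Polynomial.coeff_zero_eq_eval_zero, h0]
    exact pow_ne_zero _ (neg_ne_zero.2 one_ne_zero))
  have hdet : (A : Mat).det = 1 := by
    rw [Matrix.det_eq_sign_charpoly_coeff, hA, h0, Fintype.card_fin, ← mul_pow, neg_one_mul, neg_neg,
      one_pow]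
  set J := hermAdjoint C n with hJ
  let B : GL (Fin n) F := (J.stUnit A)⁻¹
  have hBval : (B : Mat) = (J.st (A : Mat))⁻¹ := Matrix.coe_units_inv (J.stUnit A)
  have hBA : (B : Mat).charpoly = (A : Mat).charpoly := by
    ext j
    rcases le_or_gt j n with hj | hj
    · rw [hBval, charpoly_contragredient_coeff C _ hdet hj, hA, ← hsym (n - j) (Nat.sub_le _ _),
        Nat.sub_sub_self hj]
    · rw [Polynomial.coeff_eq_zero_of_natDegree_lt, Polynomial.coeff_eq_zero_of_natDegree_lt] <;>
      · rw [Matrix.charpoly_natDegree_eq_dim, Fintype.card_fin]; exact hj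
  have hBo : (orderOf B).Coprime p := by
    refine Nat.Coprime.coprime_dvd_left (orderOf_dvd_of_pow_eq_one ?_) hAo
    have : ∀ k : ℕ, (J.stUnit A) ^ k = J.stUnit (A ^ k) := by
      intro k
      induction k with
      | zero => exact Units.ext J.st_one.symm
      | succ k ih => rw [pow_succ, ih, ← J.stUnit_mul, ← pow_succ']
    rw [inv_pow, this, pow_orderOf_eq_one, inv_eq_one]
    exact Units.ext J.st_one
  have hconj : IsConj (A : Mat) ((((A : Mat).map (fun x : F => x ^ q)).transpose)⁻¹) := by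
    have hpow : ((A : Mat).map (fun x : F => x ^ q))ᵀ = J.st (A : Mat) := by
      ext i j
      simp [J, hermAdjoint, C.bar_eq]
    rw [hpow, ← hBval]
    exact CfsgLib.GLClass.isConj_of_charpoly_eq (CfsgLib.GLClass.isSS_of_coprime p A hAo)
      (CfsgLib.GLClass.isSS_of_coprime p B hBo) hBA.symm
  obtain ⟨U, hU⟩ := (gu_similar_iff hF A).2 hconj
  obtain ⟨Y, hY⟩ := isConj_iff.1 hU
  have hUc : ((U : GL (Fin n) F) : Mat).charpoly = P := by
    rw [← hY, Units.val_mul, Units.val_mul, Matrix.coe_units_inv, Matrix.charpoly_units_conj, hA]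
  have hUd : ((U : GL (Fin n) F) : Mat).det = 1 := by
    rw [Matrix.det_eq_sign_charpoly_coeff, hUc, h0, Fintype.card_fin, ← mul_pow, neg_one_mul, neg_neg,
      one_pow]
  let g : ↥(Cfsg.SU n F q) := ⟨⟨_, hUd⟩, U.2⟩
  let ι : ↥(Cfsg.SU n F q) →* GL (Fin n) F :=
    (Matrix.SpecialLinearGroup.toGL).comp (Cfsg.SU n F q).subtype
  have hι : Function.Injective ι := fun x y hxy => Subtype.ext (Subtype.ext (congrArg Units.val hxy))
  refine ⟨g, ?_, hUc⟩
  rw [← orderOf_injective ι hι g, show ι g = (U : GL (Fin n) F) from Units.ext rfl, ← hY]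
  have : orderOf (Y * A * Y⁻¹) = orderOf A := (MulAut.conj Y).orderOf_eq A
  rw [this]; exact hAo

theorem card_fixed_semilinear (C : UCtx F q) (hF : Fintype.card F = q ^ 2) {m : ℕ}
    (σ : (Fin m → F) → (Fin m → F)) (hadd : ∀ x y, σ (x + y) = σ x + σ y)
    (hsmul : ∀ (c : F) x, σ (c • x) = C.bar c • σ x) (hinv : ∀ x, σ (σ x) = x) :
    Nat.card {x // σ x = x} = q ^ m := by
  obtain ⟨a, ha⟩ := C.exists_not_fixed
  have hd : a - C.bar a ≠ 0 := sub_ne_zero.2 (Ne.symm ha)
  have hd' : C.bar a - a ≠ 0 := sub_ne_zero.2 ha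
  have hsub : ∀ x y, σ (x - y) = σ x - σ y := fun x y => by
    rw [eq_sub_iff_add_eq, ← hadd, sub_add_cancel]
  let e : {x // σ x = x} × {x // σ x = x} ≃ (Fin m → F) :=
    { toFun := fun uv => uv.1.1 + a • uv.2.1
      invFun := fun x =>
        (⟨x - a • ((a - C.bar a)⁻¹ • (x - σ x)), by
          rw [hsub, hsmul, hsmul, hsub, hinv, map_inv₀, map_sub, C.bar_bar]
          funext i
          simp only [Pi.sub_apply, Pi.smul_apply, smul_eq_mul]
          field_simp
          ring⟩,
         ⟨(a - C.bar a)⁻¹ • (x - σ x), by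
          rw [hsmul, hsub, hinv, map_inv₀, map_sub, C.bar_bar]
          funext i
          simp only [Pi.sub_apply, Pi.smul_apply, smul_eq_mul]
          field_simp
          ring⟩)
      left_inv := fun uv => by
        have h2 : (a - C.bar a)⁻¹ • (uv.1.1 + a • uv.2.1 - σ (uv.1.1 + a • uv.2.1)) = uv.2.1 := by
          rw [hadd, hsmul, uv.1.2, uv.2.2, add_sub_add_left_eq_sub, ← sub_smul, smul_smul,
            inv_mul_cancel₀ hd, one_smul]
        refine Prod.ext (Subtype.ext ?_) (Subtype.ext h2)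
        show uv.1.1 + a • uv.2.1 - a • _ = uv.1.1
        rw [h2, add_sub_cancel_right]
      right_inv := fun x => sub_add_cancel _ _ }
  have h := Nat.card_congr e
  rw [Nat.card_prod, Nat.card_eq_fintype_card (α := Fin m → F), Fintype.card_pi_const, hF,
    ← pow_mul, mul_comm 2 m, pow_mul, ← sq] at h
  exact Nat.pow_left_injective two_ne_zero h

theorem card_isUSym (C : UCtx F q) (hF : Fintype.card F = q ^ 2) (m : ℕ) :
    Nat.card {P : F[X] // IsUSym C (m + 1) P} = q ^ m := by
  classical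
  rw [← card_fixed_semilinear C hF (m := m) (fun x i => (-1) ^ (m + 1) * C.bar (x i.rev))
    (fun x y => funext fun i => by simp [mul_add])
    (fun c x => funext fun i => by simp [mul_left_comm])
    (fun x => funext fun i => by
      simp only [map_mul, map_pow, map_neg, map_one, C.bar_bar, Fin.rev_rev, ← mul_assoc, ← mul_pow]
      simp)]
  let e : {P : F[X] // P.Monic ∧ P.natDegree = m + 1} ≃ (Fin (m + 1) → F) :=
    (monicEquivDegreeLT (R := F) (m + 1)).trans (degreeLTEquiv F (m + 1)).toEquiv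
  have he : ∀ P i, e P i = P.1.coeff (i : ℕ) := fun P i => by
    have := eraseLead_coeff_of_ne (f := P.1) (i : ℕ) (by rw [P.2.2]; omega)
    simpa [e, monicEquivDegreeLT, degreeLTEquiv] using this
  refine Nat.card_congr
    { toFun := fun P => ⟨fun i => P.1.coeff (i + 1), funext fun i => by
        have h := P.2.2.2.2 ((i.rev : Fin m) + 1 : ℕ) (by omega)
        rw [show m + 1 - ((i.rev : ℕ) + 1) = i + 1 by rw [Fin.val_rev]; omega] at h
        exact h.symm⟩
      invFun := fun x => ⟨(e.symm (Fin.cons ((-1) ^ (m + 1)) x.1)).1, ?_⟩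
      left_inv := ?_
      right_inv := ?_ }
  · set P := e.symm (Fin.cons ((-1) ^ (m + 1)) x.1) with hP
    have hc : ∀ i : Fin (m + 1), P.1.coeff (i : ℕ) = (Fin.cons ((-1) ^ (m + 1)) x.1 : Fin (m + 1) → F) i :=
      fun i => by rw [← he, hP, Equiv.apply_symm_apply]
    have hc0 : P.1.coeff 0 = (-1) ^ (m + 1) := by simpa using hc 0
    have htop : P.1.coeff (m + 1) = 1 := by
      conv_lhs => arg 2; rw [← P.2.2]
      exact P.2.1.coeff_natDegree
    refine ⟨P.2.1, P.2.2, hc0, fun j hj => ?_⟩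
    rcases Nat.eq_zero_or_pos j with rfl | hj0
    · rw [Nat.sub_zero, htop, hc0, map_pow, map_neg, map_one, ← mul_pow, neg_one_mul, neg_neg, one_pow]
    rcases lt_or_eq_of_le hj with hjm | rfl
    · have h1 := congrFun x.2 ⟨m - j, by omega⟩
      have e1 : P.1.coeff j = x.1 ⟨j - 1, by omega⟩ := by
        have := hc (Fin.succ ⟨j - 1, by omega⟩)
        rw [Fin.cons_succ, Fin.val_succ] at this
        simpa [Nat.sub_add_cancel hj0] using this
      have e2 : P.1.coeff (m + 1 - j) = x.1 ⟨m - j, by omega⟩ := by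
        have := hc (Fin.succ ⟨m - j, by omega⟩)
        rw [Fin.cons_succ, Fin.val_succ] at this
        rwa [show m - j + 1 = m + 1 - j by omega] at this
      rw [e1, e2, ← h1]
      exact congrArg (fun i => (-1 : F) ^ (m + 1) * C.bar (x.1 i))
        (Fin.ext (by simp [Fin.val_rev]; omega))
    · rw [Nat.sub_self, hc0, htop, map_one, mul_one]
  · intro P
    have key : Fin.cons ((-1 : F) ^ (m + 1)) (fun i : Fin m => P.1.coeff (i + 1)) =
        e ⟨P.1, P.2.1, P.2.2.1⟩ := funext fun i => by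
      rw [he]
      refine Fin.cases ?_ (fun i => ?_) i
      · simpa using P.2.2.2.1.symm
      · simp
    refine Subtype.ext ?_
    show (e.symm (Fin.cons ((-1 : F) ^ (m + 1)) (fun i : Fin m => P.1.coeff (i + 1)))).1 = P.1
    rw [key, Equiv.symm_apply_apply]
  · intro x
    refine Subtype.ext (funext fun i => ?_)
    show (e.symm (Fin.cons ((-1) ^ (m + 1)) x.1)).1.coeff (i + 1) = x.1 i
    have := he (e.symm (Fin.cons ((-1) ^ (m + 1)) x.1)) i.succ
    rw [Equiv.apply_symm_apply, Fin.cons_succ, Fin.val_succ] at this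
    exact this.symm

theorem card_su_semisimple_classes (hF : Fintype.card F = q ^ 2) (p : ℕ) [Fact p.Prime] [CharP F p]
    (hn : 1 ≤ n) :
    Nat.card {c : ConjClasses ↥(Cfsg.SU n F q) //
      ∃ g : ↥(Cfsg.SU n F q), ConjClasses.mk g = c ∧ (orderOf g).Coprime p} = q ^ (n - 1) := by
  classical
  obtain ⟨C⟩ := CfsgLib.Classical.uctx_exists hF
  let α := {c : ConjClasses ↥(Cfsg.SU n F q) //
      ∃ g : ↥(Cfsg.SU n F q), ConjClasses.mk g = c ∧ (orderOf g).Coprime p}
  have hrep : ∀ c : α, ConjClasses.mk c.2.choose = c.1 ∧ (orderOf c.2.choose).Coprime p :=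
    fun c => c.2.choose_spec
  let Φ : α → {P : F[X] // IsUSym C n P} := fun c => ⟨_, su_isUSym C c.2.choose⟩
  have hbij : Function.Bijective Φ := by
    refine ⟨fun c c' hcc => Subtype.ext ?_, fun P => ?_⟩
    · rw [← (hrep c).1, ← (hrep c').1]
      exact ConjClasses.mk_eq_mk_iff_isConj.2
        (su_isConj_of_charpoly hF p _ _ (hrep c).2 (hrep c').2 (congrArg Subtype.val hcc))
    · obtain ⟨g, hg, hgc⟩ := exists_su_charpoly hF p C P.2
      let c : α := ⟨ConjClasses.mk g, g, rfl, hg⟩
      refine ⟨c, Subtype.ext ?_⟩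
      have hconj : IsConj g c.2.choose := ConjClasses.mk_eq_mk_iff_isConj.1 (hrep c).1.symm
      obtain ⟨u, hu⟩ := isConj_iff.1 hconj
      show ((c.2.choose : Matrix.SpecialLinearGroup (Fin n) F) : Mat).charpoly = P.1
      rw [← hgc, ← hu]
      let ι : ↥(Cfsg.SU n F q) →* GL (Fin n) F :=
        (Matrix.SpecialLinearGroup.toGL).comp (Cfsg.SU n F q).subtype
      show ((ι (u * g * u⁻¹) : GL (Fin n) F) : Mat).charpoly = ((ι g : GL (Fin n) F) : Mat).charpoly
      rw [map_mul, map_mul, map_inv, Units.val_mul, Units.val_mul, Matrix.coe_units_inv,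
        Matrix.charpoly_units_conj]
  rw [Nat.card_congr (Equiv.ofBijective Φ hbij)]
  obtain ⟨m, rfl⟩ : ∃ m, n = m + 1 := ⟨n - 1, by omega⟩
  exact card_isUSym C hF m

end CfsgLib.IsometryConj
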