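import Mathlib
import Cfsg.Agent.Lib.IsometryConj.SympCharpoly
import Cfsg.Agent.Lib.IsometryConj.SUCharpoly
import Cfsg.Agent.Lib.IsometryConj.RootPattern
import Cfsg.Agent.Lib.GLClass.PrimeOrderCount

/-!
Numbers of classes of elements of odd prime order in symplectic and unitary groups.
-/

set_option autoImplicit false

namespace CfsgLib.IsometryConj

open Matrix Polynomial UniqueFactorizationMonoid

variable {F : Type*} [Field F] {r : ℕ}

theorem charpoly_dvd_of_pow {ι : Type*} [Fintype ι] [DecidableEq ι] (hr0 : (r : F) ≠ 0) (A : Matrix ι ι F)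
    (hA : A ^ r = 1) : A.charpoly ∣ (X ^ r - 1) ^ Fintype.card ι := by
  classical
  have hfac := CfsgLib.GLClass.exists_modDecomp_dvd (g := X ^ r - 1)
    (X_pow_sub_one_separable_iff.2 hr0).squarefree (A := A)
    (by rw [map_sub, map_pow, aeval_X, map_one, hA, sub_self])
  set M := normalizedFactors A.charpoly
  have h2 : M.prod ∣ (X ^ r - 1) ^ Multiset.card M := by
    rw [← Multiset.prod_replicate, ← Multiset.map_const' M (X ^ r - 1 : F[X])]
    conv_lhs => rw [← Multiset.map_id M]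
    exact Multiset.prod_dvd_prod_of_dvd _ _ fun P hP => hfac P hP
  have h3 : Multiset.card M ≤ Fintype.card ι := by
    rw [← Matrix.charpoly_natDegree_eq_dim A]
    have h4 : (M.map natDegree).sum = A.charpoly.natDegree := by
      rw [← natDegree_multiset_prod _ (zero_notMem_normalizedFactors _)]
      exact natDegree_eq_of_degree_eq (degree_eq_degree_of_associated
        (prod_normalizedFactors (Matrix.charpoly_monic A).ne_zero))
    rw [← h4]
    refine le_trans ?_ (Multiset.card_nsmul_le_sum (s := M.map natDegree) (a := 1) ?_)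
    · simp
    · intro x hx
      obtain ⟨P, hP, rfl⟩ := Multiset.mem_map.1 hx
      exact (irreducible_of_normalized_factor P hP).natDegree_pos
  exact (prod_normalizedFactors (Matrix.charpoly_monic A).ne_zero).symm.dvd.trans
    (h2.trans (pow_dvd_pow _ h3))

theorem pow_eq_one_of_charpoly_dvd {ι : Type*} [Fintype ι] [DecidableEq ι] {A : Matrix ι ι F}
    (hss : CfsgLib.GLClass.IsSS A) {N : ℕ} (h : A.charpoly ∣ (X ^ r - 1) ^ N) : A ^ r = 1 := by
  classical
  have := CfsgLib.GLClass.aeval_eq_zero_of_factors_dvd (g := X ^ r - 1) hss fun P hP =>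
    (irreducible_of_normalized_factor P hP).prime.dvd_of_dvd_pow ((dvd_of_mem_normalizedFactors hP).trans h)
  rwa [map_sub, map_pow, aeval_X, map_one, sub_eq_zero] at this

theorem card_classes_orderOf {G : Type*} [Group G] [Finite G] (hr : r.Prime) :
    Nat.card {C : ConjClasses G // ∃ g : G, ConjClasses.mk g = C ∧ orderOf g = r} =
      Nat.card {C : ConjClasses G // ∃ g : G, ConjClasses.mk g = C ∧ g ^ r = 1} - 1 := by
  classical
  let S := {C : ConjClasses G // ∃ g : G, ConjClasses.mk g = C ∧ g ^ r = 1}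
  let one' : S := ⟨ConjClasses.mk 1, 1, rfl, one_pow r⟩
  let e : {C : ConjClasses G // ∃ g : G, ConjClasses.mk g = C ∧ orderOf g = r} ≃ {x : S // x ≠ one'} :=
    { toFun := fun C => ⟨⟨C.1, by obtain ⟨g, h1, h2⟩ := C.2; exact ⟨g, h1, h2 ▸ pow_orderOf_eq_one g⟩⟩, fun h => by
        obtain ⟨g, h1, h2⟩ := C.2
        have h' : ConjClasses.mk g = ConjClasses.mk 1 := h1.trans (congrArg Subtype.val h)
        rw [isConj_one_left.1 (ConjClasses.mk_eq_mk_iff_isConj.1 h'), orderOf_one] at h2
        exact hr.ne_one h2.symm⟩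
      invFun := fun x => ⟨x.1.1, by
        obtain ⟨g, h1, h2⟩ := x.1.2
        haveI := Fact.mk hr
        exact ⟨g, h1, orderOf_eq_prime h2 fun h => x.2 (Subtype.ext (h1.symm.trans (congrArg ConjClasses.mk h)))⟩⟩
      left_inv := fun _ => rfl
      right_inv := fun _ => rfl }
  haveI := Fintype.ofFinite S
  rw [Nat.card_congr e, Nat.card_eq_fintype_card, Fintype.card_subtype_compl, Fintype.card_subtype_eq,
    ← Nat.card_eq_fintype_card]

theorem index_eq (hr : r.Prime) (H : Subgroup (ZMod r)ˣ) {h t : ℕ} (hh : Nat.card H = h)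
    (ht : t * h = r - 1) : H.index = t := by
  haveI := Fact.mk hr
  have h1 := H.card_mul_index
  rw [Nat.card_eq_fintype_card (α := (ZMod r)ˣ), ZMod.card_units, hh, mul_comm, ← ht] at h1
  exact Nat.eq_of_mul_eq_mul_right (hh ▸ Nat.card_pos) h1

theorem orderOf_neg_one_units (hr : r.Prime) (hr2 : r ≠ 2) : orderOf (-1 : (ZMod r)ˣ) = 2 := by
  haveI := Fact.mk hr
  haveI : Fact (2 < r) := ⟨lt_of_le_of_ne hr.two_le (Ne.symm hr2)⟩
  refine orderOf_eq_prime (neg_one_sq) fun h => ?_
  exact ZMod.neg_one_ne_one (congrArg Units.val h)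

theorem eq_neg_one_of_sq (hr : r.Prime) {u : (ZMod r)ˣ} (h : u ^ 2 = 1) (h1 : u ≠ 1) : u = -1 := by
  haveI := Fact.mk hr
  have h2 : (u : ZMod r) * u = 1 := by rw [← pow_two, ← Units.val_pow_eq_pow_val, h, Units.val_one]
  rcases mul_self_eq_one_iff.1 h2 with h3 | h3
  · exact absurd (Units.ext h3) h1
  · exact Units.ext h3

theorem closure_pair_neg_one (hr : r.Prime) (hr2 : r ≠ 2) (u : (ZMod r)ˣ) :
    Nat.card (Subgroup.closure ({u, -1} : Set (ZMod r)ˣ)) =
      if Odd (orderOf u) then 2 * orderOf u else orderOf u := by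
  haveI := Fact.mk hr
  split_ifs with hi
  · have : Subgroup.closure ({u, -1} : Set (ZMod r)ˣ) = Subgroup.zpowers (-u) := by
      refine le_antisymm ((Subgroup.closure_le _).2 ?_) ?_
      · have hneg : (-1 : (ZMod r)ˣ) ∈ Subgroup.zpowers (-u) :=
          ⟨(orderOf u : ℤ), by simp only [zpow_natCast]; rw [neg_pow, hi.neg_one_pow, pow_orderOf_eq_one, mul_one]⟩
        rintro x (rfl | rfl)
        · have := mul_mem hneg (Subgroup.mem_zpowers (-x))
          rwa [neg_one_mul, neg_neg] at this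
        · exact hneg
      · rw [Subgroup.zpowers_le]
        have h : (-1 : (ZMod r)ˣ) * u ∈ Subgroup.closure ({u, -1} : Set (ZMod r)ˣ) :=
          mul_mem (Subgroup.subset_closure (Set.mem_insert_of_mem u (Set.mem_singleton (-1 : (ZMod r)ˣ))))
            (Subgroup.subset_closure (Set.mem_insert u _))
        rwa [neg_one_mul] at h
    rw [this, Nat.card_zpowers, ← neg_one_mul u,
      (Commute.all _ u).orderOf_mul_eq_mul_orderOf_of_coprime
        (by rw [orderOf_neg_one_units hr hr2]; exact hi.coprime_two_left),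
      orderOf_neg_one_units hr hr2]
  · have hev : Even (orderOf u) := Nat.not_odd_iff_even.1 hi
    have : Subgroup.closure ({u, -1} : Set (ZMod r)ˣ) = Subgroup.zpowers u := by
      refine le_antisymm ((Subgroup.closure_le _).2 ?_) ?_
      · have hpos := orderOf_pos u
        obtain ⟨k, hk⟩ := hev
        have hk2 : (u ^ k) ^ 2 = 1 := by rw [← pow_mul, mul_comm, two_mul, ← hk, pow_orderOf_eq_one]
        have hne : u ^ k ≠ 1 := pow_ne_one_of_lt_orderOf (by omega) (by omega)
        rintro x (rfl | rfl)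
        · exact Subgroup.mem_zpowers x
        · rw [← eq_neg_one_of_sq hr hk2 hne]
          exact Subgroup.npow_mem_zpowers u k
      · rw [Subgroup.zpowers_le]; exact Subgroup.subset_closure (by simp)
    rw [this, Nat.card_zpowers]

theorem closure_sq_neg (hr : r.Prime) (hr2 : r ≠ 2) (u : (ZMod r)ˣ) :
    Nat.card (Subgroup.closure ({u ^ 2, -u} : Set (ZMod r)ˣ)) =
      if orderOf u % 4 = 2 then orderOf u / 2
      else if Odd (orderOf u) then 2 * orderOf u else orderOf u := by
  haveI := Fact.mk hr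
  have hH : Subgroup.closure ({u ^ 2, -u} : Set (ZMod r)ˣ) = Subgroup.zpowers (-u) := by
    refine le_antisymm ((Subgroup.closure_le _).2 ?_) (Subgroup.zpowers_le.2 (Subgroup.subset_closure (by simp)))
    rintro x (rfl | rfl)
    · rw [← neg_sq u]; exact Subgroup.npow_mem_zpowers _ 2
    · exact Subgroup.mem_zpowers _
  rw [hH, Nat.card_zpowers]
  set i := orderOf u with hi
  set d := orderOf (-u) with hd
  have hpow : ∀ k, Even k → ((-u) ^ k = 1 ↔ i ∣ k) := fun k hk => by
    rw [hk.neg_pow, hi, orderOf_dvd_iff_pow_eq_one]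
  have hodd : ∀ k, Odd k → (-u) ^ k = 1 → u ^ k = -1 := fun k hk h => by
    rw [hk.neg_pow, neg_eq_iff_eq_neg] at h
    exact h
  split_ifs with h4 ho
  · have hb : Odd (i / 2) := by rw [Nat.odd_iff]; omega
    have h1 : u ^ (i / 2) = -1 := eq_neg_one_of_sq hr
      (by rw [← pow_mul, show i / 2 * 2 = i by omega, hi, pow_orderOf_eq_one])
      (pow_ne_one_of_lt_orderOf (by omega) (by rw [← hi]; omega))
    have h2 : d ∣ i / 2 := orderOf_dvd_of_pow_eq_one (by rw [hb.neg_pow, h1, neg_neg])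
    refine Nat.dvd_antisymm h2 ?_
    have h3 := hodd d (hb.of_dvd_nat h2) (pow_orderOf_eq_one _)
    have h5 : i ∣ d * 2 := orderOf_dvd_of_pow_eq_one (by rw [pow_mul, h3, neg_one_sq])
    rw [show i = i / 2 * 2 by omega] at h5
    exact Nat.dvd_of_mul_dvd_mul_right (by norm_num) h5
  · rw [hd, ← neg_one_mul u, (Commute.all _ u).orderOf_mul_eq_mul_orderOf_of_coprime
        (by rw [orderOf_neg_one_units hr hr2]; exact ho.coprime_two_left),
      orderOf_neg_one_units hr hr2]
  · have hev : Even i := Nat.not_odd_iff_even.1 ho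
    have h2 : d ∣ i := orderOf_dvd_of_pow_eq_one ((hpow i hev).2 dvd_rfl)
    refine Nat.dvd_antisymm h2 ?_
    rcases Nat.even_or_odd d with hde | hdo
    · exact (hpow d hde).1 (pow_orderOf_eq_one _)
    · exfalso
      have h3 := hodd d hdo (pow_orderOf_eq_one _)
      have h5 : i ∣ d * 2 := orderOf_dvd_of_pow_eq_one (by rw [pow_mul, h3, neg_one_sq])
      have h6 : 4 ∣ d * 2 := dvd_trans (by obtain ⟨k, hk⟩ := hev; omega) h5
      rw [Nat.odd_iff] at hdo
      omega

variable [Fintype F]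

theorem sp_card_classes_pow {p q m : ℕ} [Fact p.Prime] [CharP F p] (hF : Fintype.card F = q)
    (hr : r.Prime) (hr2 : r ≠ 2) (hrp : r ≠ p) (u : (ZMod r)ˣ) (hu : (u : ZMod r) = q) :
    Nat.card {C : ConjClasses ↥(Matrix.symplecticGroup (Fin m) F) //
        ∃ g, ConjClasses.mk g = C ∧ g ^ r = 1} =
      Nat.choose (2 * m / Nat.card (Subgroup.closure ({u, -1} : Set (ZMod r)ˣ)) +
        (Subgroup.closure ({u, -1} : Set (ZMod r)ˣ)).index)
        (Subgroup.closure ({u, -1} : Set (ZMod r)ˣ)).index := by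
  classical
  haveI := Fact.mk hr
  have hr0 : (r : F) ≠ 0 := by
    rw [Ne, CharP.cast_eq_zero_iff F p]
    exact fun h => hrp ((Nat.prime_dvd_prime_iff_eq Fact.out hr).1 h).symm
  have hne : (-1 : (ZMod r)ˣ) ≠ 1 := fun h => by
    have := orderOf_neg_one_units hr hr2
    rw [h, orderOf_one] at this
    omega
  rw [← card_rootPattern (F := F) (p := p) (e := 0) hr0 1 (2 * m) (pow_zero p).symm u (-1)
    (by rw [hu, hF]) (by simp) hne]
  have hcard : Fintype.card (Fin m ⊕ Fin m) = 2 * m := by simp [two_mul]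
  have hcop : ∀ g : ↥(Matrix.symplecticGroup (Fin m) F), g ^ r = 1 → (orderOf g).Coprime p := fun g hg =>
    Nat.Coprime.coprime_dvd_left (orderOf_dvd_of_pow_eq_one hg)
      ((Nat.coprime_primes hr Fact.out).2 hrp)
  have hpat : ∀ g : ↥(Matrix.symplecticGroup (Fin m) F), g ^ r = 1 →
      IsRootPattern r 1 (2 * m) (g : Matrix (Fin m ⊕ Fin m) (Fin m ⊕ Fin m) F).charpoly := fun g hg => by
    refine ⟨Matrix.charpoly_monic _, by rw [Matrix.charpoly_natDegree_eq_dim, hcard], ?_, fun j hj => ?_⟩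
    · rw [← hcard]
      exact charpoly_dvd_of_pow hr0 _ (by rw [← SubmonoidClass.coe_pow, hg]; rfl)
    · rw [sp_charpoly_coeff g hj, pow_one, pow_mul, neg_one_sq, one_pow, one_mul]
  let Φ : {C : ConjClasses ↥(Matrix.symplecticGroup (Fin m) F) //
      ∃ g, ConjClasses.mk g = C ∧ g ^ r = 1} → {P : F[X] // IsRootPattern r 1 (2 * m) P} :=
    fun c => ⟨_, hpat c.2.choose c.2.choose_spec.2⟩
  refine Nat.card_congr (Equiv.ofBijective Φ ⟨fun c c' hcc => Subtype.ext ?_, fun P => ?_⟩)
  · rw [← c.2.choose_spec.1, ← c'.2.choose_spec.1]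
    exact ConjClasses.mk_eq_mk_iff_isConj.2 (sp_isConj_of_charpoly p _ _ (hcop _ c.2.choose_spec.2)
      (hcop _ c'.2.choose_spec.2) (congrArg Subtype.val hcc))
  · obtain ⟨hm, hd, hdvd, hsym⟩ := P.2
    obtain ⟨g, hgo, hgc⟩ := exists_ss_sp_of_coeff p fun i : Fin m => P.1.coeff (i + 1)
    set M := (g : Matrix (Fin m ⊕ Fin m) (Fin m ⊕ Fin m) F)
    have hlow : ∀ j, 1 ≤ j → j ≤ m → M.charpoly.coeff j = P.1.coeff j := fun j h1 h2 => by
      have := hgc ⟨j - 1, by omega⟩
      simpa [Nat.sub_add_cancel h1] using this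
    have hMd : M.charpoly.natDegree = 2 * m := by rw [Matrix.charpoly_natDegree_eq_dim, hcard]
    have hPd : ∀ j ≤ 2 * m, P.1.coeff (2 * m - j) = P.1.coeff j := fun j hj => by
      rw [hsym j hj, pow_one, pow_mul, neg_one_sq, one_pow, one_mul]
    have htop : M.charpoly.coeff (2 * m) = P.1.coeff (2 * m) := by
      rw [show M.charpoly.coeff (2 * m) = 1 by
          conv_lhs => arg 2; rw [← hMd]
          exact (Matrix.charpoly_monic M).coeff_natDegree,
        show P.1.coeff (2 * m) = 1 by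
          conv_lhs => arg 2; rw [← hd]
          exact hm.coeff_natDegree]
    have hMP : M.charpoly = P.1 := by
      ext j
      rcases Nat.eq_zero_or_pos j with rfl | hj0
      · rw [← sp_charpoly_coeff g (Nat.zero_le _), ← hPd 0 (Nat.zero_le _), Nat.sub_zero, htop]
      rcases le_or_gt j m with hj | hj
      · exact hlow j hj0 hj
      rcases le_or_gt j (2 * m) with hj2 | hj2
      · rcases lt_or_eq_of_le hj2 with hj3 | hj3
        · have hk : 2 * m - (2 * m - j) = j := by omega
          rw [← hk, sp_charpoly_coeff g (by omega), hPd _ (by omega)]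
          exact hlow _ (by omega) (by omega)
        · rw [hj3, htop]
      · rw [coeff_eq_zero_of_natDegree_lt (by omega), coeff_eq_zero_of_natDegree_lt (by omega)]
    have hgr : g ^ r = 1 := by
      let φ := (Units.map (Matrix.symplecticGroup (Fin m) F).subtype).comp
        (toUnits.toMonoidHom : ↥(Matrix.symplecticGroup (Fin m) F) →* _)
      have hφ : Function.Injective φ := fun x y hxy => Subtype.ext (congrArg Units.val hxy)
      refine Subtype.ext ?_
      rw [SubmonoidClass.coe_pow]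
      exact pow_eq_one_of_charpoly_dvd (CfsgLib.GLClass.isSS_of_coprime p (φ g)
        (by rwa [orderOf_injective φ hφ])) (show M.charpoly ∣ _ from hMP ▸ hdvd)
    let c : {C : ConjClasses ↥(Matrix.symplecticGroup (Fin m) F) //
      ∃ g, ConjClasses.mk g = C ∧ g ^ r = 1} := ⟨ConjClasses.mk g, g, rfl, hgr⟩
    refine ⟨c, Subtype.ext ?_⟩
    obtain ⟨v, hv⟩ := MonoidHom.map_isConj (Matrix.symplecticGroup (Fin m) F).subtype
      (ConjClasses.mk_eq_mk_iff_isConj.1 c.2.choose_spec.1.symm)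
    show ((c.2.choose : ↥(Matrix.symplecticGroup (Fin m) F)) :
      Matrix (Fin m ⊕ Fin m) (Fin m ⊕ Fin m) F).charpoly = P.1
    rw [← hMP]
    have hv' := (Units.eq_mul_inv_iff_mul_eq v).2 hv.eq.symm
    rw [Matrix.coe_units_inv] at hv'
    exact (congrArg Matrix.charpoly hv').trans (Matrix.charpoly_units_conj v M)

theorem gu_card_classes_pow {p q n : ℕ} [Fact p.Prime] [CharP F p] (hF : Fintype.card F = q ^ 2)
    (hr : r.Prime) (hr2 : r ≠ 2) (hrp : r ≠ p) (u : (ZMod r)ˣ) (hu : (u : ZMod r) = q)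
    (hu2 : orderOf u ≠ 2) :
    Nat.card {C : ConjClasses ↥(Cfsg.GU n F q) // ∃ g, ConjClasses.mk g = C ∧ g ^ r = 1} =
      Nat.choose (n / Nat.card (Subgroup.closure ({u ^ 2, -u} : Set (ZMod r)ˣ)) +
        (Subgroup.closure ({u ^ 2, -u} : Set (ZMod r)ˣ)).index)
        (Subgroup.closure ({u ^ 2, -u} : Set (ZMod r)ˣ)).index := by
  classical
  haveI := Fact.mk hr
  obtain ⟨C⟩ := CfsgLib.Classical.uctx_exists hF
  have hr0 : (r : F) ≠ 0 := by
    rw [Ne, CharP.cast_eq_zero_iff F p]
    exact fun h => hrp ((Nat.prime_dvd_prime_iff_eq Fact.out hr).1 h).symm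
  obtain ⟨e, he⟩ : ∃ e, q = p ^ e := by
    obtain ⟨f, -, hcard⟩ := FiniteField.card F p
    obtain ⟨e, -, he⟩ := (Nat.dvd_prime_pow (Fact.out : p.Prime)).1
      (show q ∣ p ^ (f : ℕ) by rw [← hcard, hF]; exact dvd_pow_self q two_ne_zero)
    exact ⟨e, he⟩
  have hne : -u ≠ 1 := fun h => by
    rw [neg_eq_iff_eq_neg] at h
    exact hu2 (by rw [h]; exact orderOf_neg_one_units hr hr2)
  rw [← card_rootPattern (F := F) (p := p) (e := e) hr0 q n he (u ^ 2) (-u)
    (by rw [Units.val_pow_eq_pow_val, hu, hF, Nat.cast_pow]) (by rw [Units.val_neg, hu]) hne]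
  have hnr : r.Coprime (q + 1) := by
    refine hr.coprime_iff_not_dvd.2 fun hd => hne ?_
    refine Units.ext ?_
    rw [Units.val_neg, hu, Units.val_one, neg_eq_iff_add_eq_zero, ← Nat.cast_one, ← Nat.cast_add,
      ZMod.natCast_eq_zero_iff]
    exact hd
  have hdet : ∀ g : ↥(Cfsg.GU n F q), g ^ r = 1 →
      ((g : GL (Fin n) F) : Matrix (Fin n) (Fin n) F).det = 1 := fun g hg => by
    set z := ((g : GL (Fin n) F) : Matrix (Fin n) (Fin n) F).det with hz
    have h1 : z ^ r = 1 := by
      rw [hz, ← Matrix.det_pow, ← Units.val_pow_eq_pow_val, ← SubmonoidClass.coe_pow, hg]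
      simp
    have h2 : z ^ (q + 1) = 1 := by
      rw [pow_succ', ← C.bar_eq]
      exact C.mem_unitOne.1 (C.detHom g).2
    have := (pow_gcd_eq_one (m := r) (n := q + 1) (a := z)).2 ⟨h1, h2⟩
    rwa [hnr.gcd_eq_one, pow_one] at this
  have hcop : ∀ g : ↥(Cfsg.GU n F q), g ^ r = 1 → (orderOf (g : GL (Fin n) F)).Coprime p := fun g hg =>
    Nat.Coprime.coprime_dvd_left (orderOf_dvd_of_pow_eq_one (by rw [← SubmonoidClass.coe_pow, hg]; rfl))
      ((Nat.coprime_primes hr Fact.out).2 hrp)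
  have hpat : ∀ g : ↥(Cfsg.GU n F q), g ^ r = 1 →
      IsRootPattern r q n ((g : GL (Fin n) F) : Matrix (Fin n) (Fin n) F).charpoly := fun g hg => by
    obtain ⟨hm, hd, -, hsym⟩ := su_isUSym C (⟨⟨_, hdet g hg⟩, g.2⟩ : ↥(Cfsg.SU n F q))
    refine ⟨hm, hd, ?_, fun j hj => by rw [← C.bar_eq]; exact hsym j hj⟩
    have h1 := charpoly_dvd_of_pow hr0 ((g : GL (Fin n) F) : Matrix (Fin n) (Fin n) F)
      (by rw [← Units.val_pow_eq_pow_val, ← SubmonoidClass.coe_pow, hg]; rfl)
    rwa [Fintype.card_fin] at h1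
  let Φ : {c : ConjClasses ↥(Cfsg.GU n F q) // ∃ g, ConjClasses.mk g = c ∧ g ^ r = 1} →
      {P : F[X] // IsRootPattern r q n P} := fun c => ⟨_, hpat c.2.choose c.2.choose_spec.2⟩
  refine Nat.card_congr (Equiv.ofBijective Φ ⟨fun c c' hcc => Subtype.ext ?_, fun P => ?_⟩)
  · rw [← c.2.choose_spec.1, ← c'.2.choose_spec.1]
    exact ConjClasses.mk_eq_mk_iff_isConj.2 ((gu_isConj_iff hF _ _).2 (CfsgLib.GLClass.isConj_units
      (CfsgLib.GLClass.isConj_of_charpoly_eq
        (CfsgLib.GLClass.isSS_of_coprime p _ (hcop _ c.2.choose_spec.2))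
        (CfsgLib.GLClass.isSS_of_coprime p _ (hcop _ c'.2.choose_spec.2)) (congrArg Subtype.val hcc))))
  · obtain ⟨hm, hd, hdvd, hsym⟩ := P.2
    have hc0 : P.1.coeff 0 = (-1) ^ n := by
      have h1 := hsym 0 (Nat.zero_le _)
      rw [Nat.sub_zero, ← C.bar_eq, show P.1.coeff n = 1 by
        conv_lhs => arg 2; rw [← hd]
        exact hm.coeff_natDegree] at h1
      have h2 := congrArg C.bar h1
      rw [map_one, map_mul, map_pow, map_neg, map_one, C.bar_bar] at h2
      calc P.1.coeff 0 = (-1) ^ n * ((-1) ^ n * P.1.coeff 0) := by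
            rw [← mul_assoc, ← mul_pow, neg_one_mul, neg_neg, one_pow, one_mul]
        _ = (-1) ^ n := by rw [← h2, mul_one]
    obtain ⟨g, hgo, hgc⟩ := exists_su_charpoly hF p C (P := P.1)
      ⟨hm, hd, hc0, fun j hj => by rw [C.bar_eq]; exact hsym j hj⟩
    let ι : ↥(Cfsg.SU n F q) →* GL (Fin n) F :=
      (Matrix.SpecialLinearGroup.toGL).comp (Cfsg.SU n F q).subtype
    have hι : Function.Injective ι := fun x y hxy => Subtype.ext (Subtype.ext (congrArg Units.val hxy))
    let g' : ↥(Cfsg.GU n F q) := ⟨ι g, g.2⟩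
    have hgr : g' ^ r = 1 := by
      refine Subtype.ext ?_
      rw [SubmonoidClass.coe_pow]
      refine Units.ext ?_
      rw [Units.val_pow_eq_pow_val]
      exact pow_eq_one_of_charpoly_dvd (CfsgLib.GLClass.isSS_of_coprime p (ι g)
        (by rwa [orderOf_injective ι hι])) (show _ ∣ _ from hgc ▸ hdvd)
    let c : {c : ConjClasses ↥(Cfsg.GU n F q) // ∃ g, ConjClasses.mk g = c ∧ g ^ r = 1} :=
      ⟨ConjClasses.mk g', g', rfl, hgr⟩
    refine ⟨c, Subtype.ext ?_⟩
    obtain ⟨v, hv⟩ := isConj_iff.1 (MonoidHom.map_isConj (Cfsg.GU n F q).subtype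
      (ConjClasses.mk_eq_mk_iff_isConj.1 c.2.choose_spec.1.symm))
    show (((c.2.choose : ↥(Cfsg.GU n F q)) : GL (Fin n) F) : Matrix (Fin n) (Fin n) F).charpoly = P.1
    rw [show ((c.2.choose : ↥(Cfsg.GU n F q)) : GL (Fin n) F) = _ from hv.symm, Units.val_mul, Units.val_mul,
      Matrix.coe_units_inv, Matrix.charpoly_units_conj]
    exact hgc

theorem sp_odd_prime_class_count {p q : ℕ} [Fact p.Prime] [CharP F p] (hF : Fintype.card F = q)
    (m r i t : ℕ) (hr : r.Prime) (hr2 : r ≠ 2) (hrp : r ≠ p) (hi : i = orderOf (q : ZMod r))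
    (ht : t * i = r - 1) :
    Nat.card {C : ConjClasses ↥(Matrix.symplecticGroup (Fin m) F) //
        ∃ g : Matrix.symplecticGroup (Fin m) F, ConjClasses.mk g = C ∧ orderOf g = r} =
      if Odd i then Nat.choose (m / i + t / 2) (t / 2) - 1 else Nat.choose (2 * m / i + t) t - 1 := by
  haveI := Fact.mk hr
  obtain ⟨f, -, hcard⟩ := FiniteField.card F p
  have hcop : q.Coprime r := by
    rw [← hF, hcard]; exact ((Nat.coprime_primes Fact.out hr).2 (Ne.symm hrp)).pow_left _
  set u := ZMod.unitOfCoprime q hcop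
  have hu : (u : ZMod r) = q := ZMod.coe_unitOfCoprime _ _
  have hio : orderOf u = i := by rw [hi, ← hu, orderOf_units]
  rw [card_classes_orderOf hr, sp_card_classes_pow (p := p) hF hr hr2 hrp u hu]
  have hh := closure_pair_neg_one hr hr2 u
  rw [hio] at hh
  split_ifs at hh ⊢ with hi'
  · have hte : Even t := by
      have h1 : Even (r - 1) := hr.even_sub_one hr2
      rw [← ht, Nat.even_mul] at h1
      exact h1.resolve_right (Nat.not_even_iff_odd.2 hi')
    obtain ⟨k, hk⟩ := hte
    rw [index_eq hr _ hh (t := k) (by rw [← ht, hk]; ring), hh, Nat.mul_div_mul_left _ _ two_pos,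
      show t / 2 = k by omega]
  · rw [index_eq hr _ hh ht, hh]

theorem gu_odd_prime_class_count {p q n i b s : ℕ} [Fact p.Prime] [CharP F p]
    (hF : Fintype.card F = q ^ 2) (hr : r.Prime) (hr2 : r ≠ 2) (hrp : r ≠ p)
    (hi : i = orderOf (q : ZMod r)) (hi2 : i ≠ 2) (hb : b = if Odd i then i else i / 2)
    (hs : s * b = r - 1) :
    Nat.card {C : ConjClasses ↥(Cfsg.GU n F q) //
        ∃ g : ↥(Cfsg.GU n F q), ConjClasses.mk g = C ∧ orderOf g = r} =
      if i % 4 = 2 then Nat.choose (2 * n / i + s) s - 1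
      else Nat.choose (n / (2 * b) + s / 2) (s / 2) - 1 := by
  haveI := Fact.mk hr
  obtain ⟨f, -, hcard⟩ := FiniteField.card F p
  have hcop : q.Coprime r := by
    have h : (q ^ 2).Coprime r := by
      rw [← hF, hcard]; exact ((Nat.coprime_primes Fact.out hr).2 (Ne.symm hrp)).pow_left _
    exact (Nat.coprime_pow_left_iff two_pos _ _).1 h
  set u := ZMod.unitOfCoprime q hcop
  have hu : (u : ZMod r) = q := ZMod.coe_unitOfCoprime _ _
  have hio : orderOf u = i := by rw [hi, ← hu, orderOf_units]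
  rw [card_classes_orderOf hr, gu_card_classes_pow (p := p) hF hr hr2 hrp u hu (by rwa [hio])]
  have hh := closure_sq_neg hr hr2 u
  rw [hio] at hh
  by_cases h4 : i % 4 = 2
  · rw [if_pos h4] at hh ⊢
    rw [if_neg (by rw [Nat.odd_iff]; omega)] at hb
    subst hb
    rw [index_eq hr _ hh hs, hh]
    congr 3
    obtain ⟨k, hk⟩ : 2 ∣ i := by omega
    rw [hk, Nat.mul_div_cancel_left _ two_pos, Nat.mul_div_mul_left _ _ two_pos]
  · rw [if_neg h4] at hh ⊢
    have h2b : (if Odd i then 2 * i else i) = 2 * b := by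
      rw [hb]
      by_cases ho : Odd i
      · rw [if_pos ho, if_pos ho]
      · rw [if_neg ho, if_neg ho]
        have := Nat.not_odd_iff_even.1 ho
        obtain ⟨k, hk⟩ := this
        omega
    rw [h2b] at hh
    have hd := (Subgroup.closure ({u ^ 2, -u} : Set (ZMod r)ˣ)).card_subgroup_dvd_card
    rw [hh, Nat.card_eq_fintype_card, ZMod.card_units, ← hs] at hd
    have hbpos : 0 < b := by
      rcases Nat.eq_zero_or_pos b with h0 | h0
      · rw [h0, mul_zero] at hs; have := hr.two_le; omega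
      · exact h0
    obtain ⟨k, hk⟩ := Nat.dvd_of_mul_dvd_mul_right hbpos hd
    rw [index_eq hr _ hh (t := k) (by rw [← hs, hk]; ring), hh, show s / 2 = k by omega]

end CfsgLib.IsometryConj
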