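import Mathlib
import Cfsg.Agent.Lib.IsometryConj.OrthBlock
import Cfsg.Agent.Lib.IsometryConj.OrthEmbedding
import Cfsg.Agent.Lib.IsometryConj.PatternClasses

/-!
Classes of elements of odd prime order in orthogonal groups.
-/

set_option autoImplicit false

namespace CfsgLib.IsometryConj

open Matrix Polynomial CfsgLib.Classical UniqueFactorizationMonoid

variable {F : Type*} [Field F] {r : ℕ}

theorem dvd_pow_of_dvd_pow_natDegree {P g : F[X]} (hP : P.Monic) {N M : ℕ} (hdeg : P.natDegree ≤ N)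
    (h : P ∣ g ^ M) (hsq : ∀ Q : F[X], Irreducible Q → Q ∣ P → Q ∣ g) : P ∣ g ^ N := by
  classical
  set S := normalizedFactors P
  have h2 : S.prod ∣ g ^ Multiset.card S := by
    rw [← Multiset.prod_replicate, ← Multiset.map_const' S g]
    conv_lhs => rw [← Multiset.map_id S]
    exact Multiset.prod_dvd_prod_of_dvd _ _ fun Q hQ =>
      hsq Q (irreducible_of_normalized_factor Q hQ) (dvd_of_mem_normalizedFactors hQ)
  have h3 : Multiset.card S ≤ N := by
    refine le_trans ?_ hdeg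
    have h4 : (S.map natDegree).sum = P.natDegree := by
      rw [← natDegree_multiset_prod _ (zero_notMem_normalizedFactors _)]
      exact natDegree_eq_of_degree_eq (degree_eq_degree_of_associated (prod_normalizedFactors hP.ne_zero))
    rw [← h4]
    refine le_trans ?_ (Multiset.card_nsmul_le_sum (s := S.map natDegree) (a := 1) ?_)
    · simp
    · intro x hx
      obtain ⟨Q, hQ, rfl⟩ := Multiset.mem_map.1 hx
      exact (irreducible_of_normalized_factor Q hQ).natDegree_pos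
  exact (prod_normalizedFactors hP.ne_zero).symm.dvd.trans (h2.trans (pow_dvd_pow _ h3))

theorem sym_iff_reverse {P : F[X]} {N : ℕ} (hd : P.natDegree = N) :
    (∀ j ≤ N, P.coeff (N - j) = (-1) ^ N * P.coeff j ^ 1) ↔ P.reverse = Polynomial.C ((-1) ^ N) * P := by
  constructor
  · intro h
    ext j
    rw [coeff_reverse, coeff_C_mul, hd]
    rcases le_or_gt j N with hj | hj
    · rw [revAt_le hj, h j hj, pow_one]
    · rw [revAt_eq_self_of_lt hj, coeff_eq_zero_of_natDegree_lt (hd ▸ hj), mul_zero]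
  · intro h j hj
    have := congrArg (fun T => coeff T j) h
    simpa only [coeff_reverse, coeff_C_mul, hd, revAt_le hj, pow_one] using this

theorem reverse_X_sub_one : (X - 1 : F[X]).reverse = Polynomial.C (-1 : F) * (X - 1) := by
  have h := reverse_X_sub_C (1 : F) one_ne_zero
  rwa [inv_one, map_one] at h

theorem pattern_mul_iff (hr : r.Prime) {N : ℕ} (Q : F[X]) :
    IsRootPattern r 1 (N + 1) ((X - 1) * Q) ↔ IsRootPattern r 1 N Q := by
  have hm1 : (X - 1 : F[X]).Monic := by simpa using monic_X_sub_C (1 : F)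
  have hd1 : (X - 1 : F[X]).natDegree = 1 := by simpa using natDegree_X_sub_C (1 : F)
  have hdvd : (X - 1 : F[X]) ∣ X ^ r - 1 := sub_one_dvd_pow_sub_one X r
  constructor
  · rintro ⟨hm, hd, hdv, hs⟩
    have hQm : Q.Monic := hm1.of_mul_monic_left hm
    have hQd : Q.natDegree = N := by rw [hm1.natDegree_mul hQm, hd1] at hd; omega
    refine ⟨hQm, hQd, ?_, (sym_iff_reverse hQd).2 ?_⟩
    · refine dvd_pow_of_dvd_pow_natDegree hQm hQd.le ((dvd_mul_left Q _).trans hdv) fun R hR hRQ => ?_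
      exact hR.prime.dvd_of_dvd_pow (hRQ.trans ((dvd_mul_left Q _).trans hdv))
    · have h := (sym_iff_reverse hd).1 hs
      rw [reverse_mul_of_domain, reverse_X_sub_one, pow_succ, map_mul] at h
      refine mul_left_cancel₀ (mul_ne_zero (C_ne_zero.2 (neg_ne_zero.2 one_ne_zero)) hm1.ne_zero) ?_
      rw [h]; ring
  · rintro ⟨hm, hd, hdv, hs⟩
    have hd' : ((X - 1) * Q).natDegree = N + 1 := by rw [hm1.natDegree_mul hm, hd1, hd]; omega
    refine ⟨hm1.mul hm, hd', ?_, (sym_iff_reverse hd').2 ?_⟩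
    · rw [pow_succ']; exact mul_dvd_mul hdvd hdv
    · rw [reverse_mul_of_domain, reverse_X_sub_one, (sym_iff_reverse hd).1 hs, pow_succ, map_mul]; ring

theorem card_pattern_root (hr : r.Prime) (N : ℕ) :
    Nat.card {P : F[X] // IsRootPattern r 1 (N + 1) P ∧ P.eval 1 = 0} =
      Nat.card {P : F[X] // IsRootPattern r 1 N P} := by
  refine (Nat.card_congr (Equiv.ofBijective
    (fun Q : {P : F[X] // IsRootPattern r 1 N P} =>
      (⟨(X - 1) * Q.1, (pattern_mul_iff hr Q.1).2 Q.2, by simp⟩ :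
        {P : F[X] // IsRootPattern r 1 (N + 1) P ∧ P.eval 1 = 0}))
    ⟨fun Q Q' h => Subtype.ext (mul_left_cancel₀ (X_sub_C_ne_zero (1 : F))
      (by simpa using congrArg Subtype.val h)), fun P => ?_⟩)).symm
  obtain ⟨Q, hQ⟩ := dvd_iff_isRoot.2 (show IsRoot P.1 1 from P.2.2)
  rw [map_one] at hQ
  exact ⟨⟨Q, (pattern_mul_iff hr Q).1 (hQ ▸ P.2.1)⟩, Subtype.ext hQ.symm⟩

theorem exists_pattern_split (hr : r.Prime) : ∀ {N : ℕ} (P : F[X]), IsRootPattern r 1 N P →
    ∃ (j : ℕ) (Q : F[X]), j ≤ N ∧ IsRootPattern r 1 (N - j) Q ∧ Q.eval 1 ≠ 0 ∧ P = (X - 1) ^ j * Q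
  | 0, P, hP => ⟨0, P, le_rfl, hP, by
      rw [Polynomial.eq_one_of_monic_natDegree_zero hP.1 hP.2.1]; simp, by simp⟩
  | N + 1, P, hP => by
    by_cases h : P.eval 1 = 0
    · obtain ⟨Q₀, hQ₀⟩ := dvd_iff_isRoot.2 (show IsRoot P 1 from h)
      rw [map_one] at hQ₀
      obtain ⟨j, Q, hj, hQ, hQ1, hPQ⟩ := exists_pattern_split hr Q₀ ((pattern_mul_iff hr Q₀).1 (hQ₀ ▸ hP))
      exact ⟨j + 1, Q, by omega, by rwa [Nat.add_sub_add_right], hQ1, by rw [hQ₀, hPQ]; ring⟩
    · exact ⟨0, P, Nat.zero_le _, hP, h, by simp⟩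

variable [Fintype F]

theorem exists_pow_coprime {ι : Type} [Fintype ι] [DecidableEq ι] {p : ℕ} [Fact p.Prime] [CharP F p]
    (H : Subgroup (GL ι F)) (g : GL ι F) (hg : g ∈ H) :
    ∃ g' ∈ H, (orderOf g').Coprime p ∧ (g' : Matrix ι ι F).charpoly = (g : Matrix ι ι F).charpoly := by
  have hp := (Fact.out : p.Prime)
  obtain ⟨f, -, hcard⟩ := FiniteField.card F p
  refine ⟨g ^ (Fintype.card F) ^ orderOf g, pow_mem hg _, ?_, ?_⟩
  · obtain ⟨e, m, hm, hord⟩ := Nat.exists_eq_pow_mul_and_not_dvd (orderOf_pos g).ne' p hp.ne_one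
    have h1 : (g ^ (Fintype.card F) ^ orderOf g) ^ m = 1 := by
      rw [← pow_mul]
      refine orderOf_dvd_iff_pow_eq_one.1 ?_
      rw [hord]
      refine Nat.mul_dvd_mul_right ?_ m
      rw [hcard, ← pow_mul]
      refine Nat.pow_dvd_pow p ?_
      calc e ≤ p ^ e := (Nat.lt_pow_self hp.one_lt).le
        _ ≤ p ^ e * m := Nat.le_mul_of_pos_right _ (Nat.pos_of_ne_zero fun h => hm (h ▸ dvd_zero p))
        _ ≤ (f : ℕ) * (p ^ e * m) := Nat.le_mul_of_pos_left _ f.pos
    exact Nat.Coprime.coprime_dvd_left (orderOf_dvd_of_pow_eq_one h1)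
      (Nat.Coprime.symm (hp.coprime_iff_not_dvd.2 hm))
  · rw [Units.val_pow_eq_pow_val]
    generalize orderOf g = N
    induction N with
    | zero => rw [pow_zero, pow_one]
    | succ N ih => rw [pow_succ, pow_mul, FiniteField.Matrix.charpoly_pow_card, ih]

/-- Monic palindromes of even degree are symmetrisations. -/
theorem exists_symmetrize {d : ℕ} (P : F[X]) (hm : P.Monic) (hd : P.natDegree = 2 * d)
    (hs : ∀ j ≤ 2 * d, P.coeff (2 * d - j) = P.coeff j) :
    ∃ h : F[X], h.Monic ∧ h.natDegree = d ∧ symmetrize d h = P := by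
  classical
  let α := {h : F[X] // h.Monic ∧ h.natDegree = d}
  let e : α ≃ (Fin d → F) := (monicEquivDegreeLT (R := F) d).trans (degreeLTEquiv F d).toEquiv
  haveI : Fintype α := Fintype.ofEquiv _ e.symm
  have hg : ∀ h : α, ∃ g : Matrix.symplecticGroup (Fin d) F,
      (g : Matrix (Fin d ⊕ Fin d) (Fin d ⊕ Fin d) F).charpoly = symmetrize d h.1 :=
    fun h => exists_sp_charpoly h.1 h.2.1 h.2.2
  choose σ hσ using hg
  let Φ : α → (Fin d → F) := fun h i => (symmetrize d h.1).coeff (i + 1)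
  have hinj : Function.Injective Φ := fun h h' hh => by
    refine Subtype.ext (symmetrize_injective h.2.2.le h'.2.2.le ?_)
    rw [← hσ h, ← hσ h']
    refine sp_charpoly_ext _ _ fun j h1 h2 => ?_
    have := congrFun hh ⟨j - 1, by omega⟩
    simpa [Φ, hσ, Nat.sub_add_cancel h1] using this
  have hsurj : Function.Surjective Φ :=
    ((Fintype.bijective_iff_injective_and_card Φ).2 ⟨hinj, Fintype.card_congr e⟩).2
  obtain ⟨h, hh⟩ := hsurj fun i => P.coeff (i + 1)
  refine ⟨h.1, h.2.1, h.2.2, ?_⟩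
  rw [← hσ h]
  set M := ((σ h : Matrix.symplecticGroup (Fin d) F) : Matrix (Fin d ⊕ Fin d) (Fin d ⊕ Fin d) F)
  have hlow : ∀ j, 1 ≤ j → j ≤ d → M.charpoly.coeff j = P.coeff j := fun j h1 h2 => by
    have := congrFun hh ⟨j - 1, by omega⟩
    simp only [Φ] at this
    rw [← hσ h] at this
    simpa [Nat.sub_add_cancel h1] using this
  have hMd : M.charpoly.natDegree = 2 * d := by
    rw [Matrix.charpoly_natDegree_eq_dim, Fintype.card_sum, Fintype.card_fin, two_mul]
  have htop : M.charpoly.coeff (2 * d) = P.coeff (2 * d) := by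
    rw [show M.charpoly.coeff (2 * d) = 1 by
        conv_lhs => arg 2; rw [← hMd]
        exact (Matrix.charpoly_monic M).coeff_natDegree,
      show P.coeff (2 * d) = 1 by
        conv_lhs => arg 2; rw [← hd]
        exact hm.coeff_natDegree]
  ext j
  rcases Nat.eq_zero_or_pos j with rfl | hj0
  · rw [← sp_charpoly_coeff (σ h) (Nat.zero_le _), ← hs 0 (Nat.zero_le _), Nat.sub_zero, htop]
  rcases le_or_gt j d with hj | hj
  · exact hlow j hj0 hj
  rcases le_or_gt j (2 * d) with hj2 | hj2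
  · rcases lt_or_eq_of_le hj2 with hj3 | hj3
    · have hk : 2 * d - (2 * d - j) = j := by omega
      rw [← hk, sp_charpoly_coeff (σ h) (by omega), hs _ (by omega)]
      exact hlow _ (by omega) (by omega)
    · rw [hj3, htop]
  · rw [coeff_eq_zero_of_natDegree_lt (by omega), coeff_eq_zero_of_natDegree_lt (by omega)]

/-- An isometry of order `r` without fixed vectors acts freely, with the scalars, on anisotropic vectors. -/
theorem dvd_anisotropic_count {ι : Type} [Fintype ι] [DecidableEq ι] (hr : r.Prime) (hr2 : r ≠ 2)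
    (Q : QuadraticForm F (ι → F)) {g : GL ι F} (hg : g ∈ Cfsg.isometryGroup F ⇑Q) (hgr : g ^ r = 1)
    (hfix : ∀ v, (g : Matrix ι ι F) *ᵥ v = v → v = 0) :
    (Fintype.card F - 1) * r ∣ Nat.card {v : ι → F // Q v ≠ 0} := by
  classical
  haveI := Fact.mk hr
  rcases isEmpty_or_nonempty ι with hι | hι
  · haveI : IsEmpty {v : ι → F // Q v ≠ 0} := ⟨fun v => v.2 (by
      rw [Subsingleton.elim v.1 0, QuadraticMap.map_zero])⟩
    rw [Nat.card_of_isEmpty]; exact dvd_zero _
  have hg1 : g ≠ 1 := fun h => by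
    obtain ⟨i⟩ := hι
    have := hfix (Pi.single i 1) (by rw [h, Units.val_one, Matrix.one_mulVec])
    simpa using congrFun this i
  have hord : orderOf g = r := orderOf_eq_prime hgr hg1
  let K := Fˣ × ↥(Subgroup.zpowers g)
  let X' := {v : ι → F // Q v ≠ 0}
  have hmem : ∀ (k : K) (v : X'), Q (((k.1 : Fˣ) : F) • ((k.2.1 : Matrix ι ι F) *ᵥ v.1)) ≠ 0 := fun k v => by
    have hk : k.2.1 ∈ Cfsg.isometryGroup F ⇑Q := (Subgroup.zpowers_le.2 hg) k.2.2
    rw [QuadraticMap.map_smul, mem_isometryGroup_iff.1 hk, smul_eq_mul]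
    exact mul_ne_zero (mul_ne_zero k.1.ne_zero k.1.ne_zero) v.2
  letI act : MulAction K X' :=
    { smul := fun k v => ⟨_, hmem k v⟩
      one_smul := fun v => Subtype.ext (by
        show ((1 : Fˣ) : F) • ((1 : GL ι F) : Matrix ι ι F) *ᵥ v.1 = v.1
        rw [Units.val_one, one_smul, Units.val_one, Matrix.one_mulVec])
      mul_smul := fun k k' v => Subtype.ext (by
        show ((k.1 * k'.1 : Fˣ) : F) • (((k.2.1 * k'.2.1 : GL ι F)) : Matrix ι ι F) *ᵥ v.1 =
          ((k.1 : Fˣ) : F) • (k.2.1 : Matrix ι ι F) *ᵥ (((k'.1 : Fˣ) : F) • (k'.2.1 : Matrix ι ι F) *ᵥ v.1)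
        rw [Matrix.mulVec_smul, smul_smul, Units.val_mul, Units.val_mul, Matrix.mulVec_mulVec]) }
  have hfree : ∀ k : K, ∀ v : X', k • v = v → k = 1 := by
    rintro ⟨c, ⟨h, hh⟩⟩ v hv
    have hv' : ((c : Fˣ) : F) • ((h : Matrix ι ι F) *ᵥ v.1) = v.1 := congrArg Subtype.val hv
    have hh' : h ∈ Cfsg.isometryGroup F ⇑Q := (Subgroup.zpowers_le.2 hg) hh
    have hc2 : (c : F) * c = 1 := by
      have := congrArg Q hv'
      rw [QuadraticMap.map_smul, mem_isometryGroup_iff.1 hh', smul_eq_mul] at this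
      exact mul_right_cancel₀ v.2 (this.trans (one_mul _).symm)
    by_cases h1 : h = 1
    · subst h1
      rw [Units.val_one, Matrix.one_mulVec] at hv'
      have hv0 : v.1 ≠ 0 := fun h0 => v.2 (by rw [h0, QuadraticMap.map_zero])
      have : ((c : F) - 1) • v.1 = 0 := by rw [sub_smul, hv', one_smul, sub_self]
      refine Prod.ext (Units.ext ?_) rfl
      exact sub_eq_zero.1 ((smul_eq_zero.1 this).resolve_right hv0)
    · exfalso
      have hh2 : h ^ 2 ≠ 1 := fun h2 => by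
        have ho : orderOf h = r := by
          refine ((Nat.dvd_prime hr).1 (hord ▸ ?_)).resolve_left fun e => h1 (orderOf_eq_one_iff.1 e)
          exact orderOf_dvd_of_mem_zpowers hh
        have := Nat.le_of_dvd two_pos (ho ▸ orderOf_dvd_of_pow_eq_one h2)
        exact hr2 (le_antisymm this hr.two_le)
      obtain ⟨k, hk⟩ : g ∈ Subgroup.zpowers (h ^ 2) := by
        have hle : Subgroup.zpowers (h ^ 2) ≤ Subgroup.zpowers g :=
          Subgroup.zpowers_le.2 (pow_mem hh 2)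
        have ho2 : orderOf (h ^ 2) = r :=
          ((Nat.dvd_prime hr).1 (hord ▸ orderOf_dvd_of_mem_zpowers (pow_mem hh 2))).resolve_left
            fun e => hh2 (orderOf_eq_one_iff.1 e)
        rw [Subgroup.eq_of_le_of_card_ge hle (by rw [Nat.card_zpowers, Nat.card_zpowers, hord, ho2])]
        exact Subgroup.mem_zpowers g
      have hfix2 : ((h ^ 2 : GL ι F) : Matrix ι ι F) *ᵥ v.1 = v.1 := by
        have := congrArg (fun x => ((c : Fˣ) : F) • ((h : Matrix ι ι F) *ᵥ x)) hv'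
        simp only [Matrix.mulVec_smul, smul_smul, Matrix.mulVec_mulVec, hc2, one_smul] at this
        rw [pow_two, Units.val_mul, this, hv']
      have hstab : ∀ (n : ℕ), (((h ^ 2) ^ n : GL ι F) : Matrix ι ι F) *ᵥ v.1 = v.1 := fun n => by
        induction n with
        | zero => rw [pow_zero, Units.val_one, Matrix.one_mulVec]
        | succ n ih => rw [pow_succ', Units.val_mul, ← Matrix.mulVec_mulVec, ih, hfix2]
      have hgv : (g : Matrix ι ι F) *ᵥ v.1 = v.1 := by
        obtain ⟨n, hn⟩ : ∃ n : ℕ, (h ^ 2) ^ n = g :=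
          mem_powers_iff_mem_zpowers.2 ⟨k, hk⟩
        rw [← hn]; exact hstab n
      exact v.2 (by rw [hfix _ hgv, QuadraticMap.map_zero])
  have hB := MulAction.sum_card_fixedBy_eq_card_orbits_mul_card_group K X'
  have h0 : ∀ k : K, Fintype.card (MulAction.fixedBy X' k) = if k = 1 then Fintype.card X' else 0 := by
    intro k
    split_ifs with h
    · exact Fintype.card_congr (Equiv.subtypeUnivEquiv fun v => by rw [MulAction.mem_fixedBy, h, one_smul])
    · exact Fintype.card_eq_zero_iff.2 ⟨fun v => h (hfree k v.1 v.2)⟩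
  rw [Finset.sum_congr rfl fun k _ => h0 k, Finset.sum_ite_eq', if_pos (Finset.mem_univ _)] at hB
  rw [Nat.card_eq_fintype_card, hB, ← Nat.card_eq_fintype_card (α := K), Nat.card_prod, Nat.card_zpowers,
    hord, Nat.card_eq_fintype_card (α := Fˣ), Fintype.card_units]
  exact dvd_mul_left _ _

theorem dvd_of_sing_card {ι : Type} [Fintype ι] [DecidableEq ι] (hr : r.Prime) (hr2 : r ≠ 2)
    (hrq : ¬ r ∣ Fintype.card F)
    (Q : QuadraticForm F (ι → F)) {g : GL ι F} (hg : g ∈ Cfsg.isometryGroup F ⇑Q) (hgr : g ^ r = 1)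
    (hfix : ∀ v, (g : Matrix ι ι F) *ᵥ v = v → v = 0) {e : ℕ} {T : ℤ}
    (hS : (Fintype.card F : ℤ) ^ Fintype.card ι - (Nat.card {v : ι → F // Q v = 0} : ℤ) =
      ((Fintype.card F : ℤ) - 1) * ((Fintype.card F : ℤ) ^ e * T)) :
    (r : ℤ) ∣ T := by
  classical
  have h1 := dvd_anisotropic_count hr hr2 Q hg hgr hfix
  have h2 : (Nat.card {v : ι → F // Q v ≠ 0} : ℤ) = (Fintype.card F : ℤ) ^ Fintype.card ι -
      (Nat.card {v : ι → F // Q v = 0} : ℤ) := by
    have := Fintype.card_subtype_compl fun v : ι → F => Q v = 0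
    have hle := Fintype.card_subtype_le fun v : ι → F => Q v = 0
    simp only [Nat.card_eq_fintype_card]
    rw [this, Nat.cast_sub hle]
    simp
  have h3 : (((Fintype.card F - 1) * r : ℕ) : ℤ) ∣ (Nat.card {v : ι → F // Q v ≠ 0} : ℤ) :=
    Int.natCast_dvd_natCast.2 h1
  have hq1 : 1 < Fintype.card F := Fintype.one_lt_card
  rw [h2, hS, Nat.cast_mul, Nat.cast_sub hq1.le, Nat.cast_one] at h3
  have h4 := Int.dvd_of_mul_dvd_mul_left (by omega) h3
  exact (Nat.prime_iff_prime_int.1 hr).dvd_or_dvd h4 |>.resolve_left fun h =>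
    hrq (Int.natCast_dvd_natCast.1 ((Nat.prime_iff_prime_int.1 hr).dvd_of_dvd_pow h))

theorem plus_dvd (hr : r.Prime) (hr2 : r ≠ 2) (hrq : ¬ r ∣ Fintype.card F) {m : ℕ}
    {g : GL (Fin (m + 1) ⊕ Fin (m + 1)) F} (hg : g ∈ Cfsg.isometryGroup F ⇑(plusQ (m + 1) F))
    (hgr : g ^ r = 1) (hfix : ∀ v, (g : Matrix (Fin (m + 1) ⊕ Fin (m + 1)) (Fin (m + 1) ⊕ Fin (m + 1)) F) *ᵥ v = v → v = 0) :
    (r : ℤ) ∣ (Fintype.card F : ℤ) ^ (m + 1) - 1 := by
  refine dvd_of_sing_card hr hr2 hrq (plusQ (m + 1) F) hg hgr hfix (e := m) ?_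
  rw [plusQ_coe, card_sing_plus m, Fintype.card_sum, Fintype.card_fin]
  ring

theorem minus_dvd (hr : r.Prime) (hr2 : r ≠ 2) (hrq : ¬ r ∣ Fintype.card F) {m : ℕ} {a b : F}
    (hab : ∀ z₁ z₂ : F, z₁ ^ 2 + a * z₁ * z₂ + b * z₂ ^ 2 = 0 → z₁ = 0 ∧ z₂ = 0)
    {g : GL ((Fin m ⊕ Fin m) ⊕ Fin 2) F} (hg : g ∈ Cfsg.isometryGroup F ⇑(minusQ m F a b))
    (hgr : g ^ r = 1) (hfix : ∀ v, (g : Matrix ((Fin m ⊕ Fin m) ⊕ Fin 2) ((Fin m ⊕ Fin m) ⊕ Fin 2) F) *ᵥ v = v → v = 0) :
    (r : ℤ) ∣ (Fintype.card F : ℤ) ^ (m + 1) + 1 := by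
  refine dvd_of_sing_card hr hr2 hrq (minusQ m F a b) hg hgr hfix (e := m) ?_
  rw [minusQ_coe, card_sing_minus hab m, Fintype.card_sum, Fintype.card_sum, Fintype.card_fin, Fintype.card_fin]
  ring

theorem fix_iff_eval {ι : Type} [Fintype ι] [DecidableEq ι] (M : Matrix ι ι F) :
    (∀ v, M *ᵥ v = v → v = 0) ↔ M.charpoly.eval 1 ≠ 0 := by
  rw [Matrix.eval_charpoly, map_one]
  constructor
  · intro h hdet
    obtain ⟨v, hv, hv0⟩ := Matrix.exists_mulVec_eq_zero_iff.2 hdet
    rw [Matrix.sub_mulVec, Matrix.one_mulVec, sub_eq_zero] at hv0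
    exact hv (h v hv0.symm)
  · intro h v hv
    by_contra hne
    exact h (Matrix.exists_mulVec_eq_zero_iff.1 ⟨v, hne, by
      rw [Matrix.sub_mulVec, Matrix.one_mulVec, hv, sub_self]⟩)

theorem charpoly_of_transport {α β : Type} [Fintype α] [DecidableEq α] [Fintype β] [DecidableEq β]
    (e : (α → F) ≃ₗ[F] (β → F)) (M : Matrix α α F) :
    ∀ N : Matrix β β F, (∀ v, N *ᵥ (e v) = e (M *ᵥ v)) → N.charpoly = M.charpoly := by
  intro N h
  have h1 : Matrix.toLin' N = e.conj (Matrix.toLin' M) := LinearMap.ext fun w => by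
    obtain ⟨v, rfl⟩ := e.surjective w
    simp [LinearEquiv.conj_apply, h]
  rw [← Matrix.charpoly_toLin' N, h1, LinearEquiv.charpoly_conj, Matrix.charpoly_toLin']

theorem transport_isometry {α β : Type} [Fintype α] [DecidableEq α] [Fintype β] [DecidableEq β]
    (Q : QuadraticForm F (α → F)) (Q' : QuadraticForm F (β → F)) (L : (β → F) →ₗ[F] (α → F))
    (hL : ∀ v, Q (L v) = Q' v) (hinj : Function.Injective L) (hcard : Fintype.card α = Fintype.card β)
    (g : GL α F) (hg : g ∈ Cfsg.isometryGroup F ⇑Q) :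
    ∃ g' : GL β F, g' ∈ Cfsg.isometryGroup F ⇑Q' ∧
      (g' : Matrix β β F).charpoly = (g : Matrix α α F).charpoly ∧ orderOf g' = orderOf g := by
  classical
  let e : (β → F) ≃ₗ[F] (α → F) := LinearEquiv.ofInjectiveOfFinrankEq L hinj (by
    rw [Module.finrank_fintype_fun_eq_card, Module.finrank_fintype_fun_eq_card, hcard])
  have he : ∀ v, e v = L v := fun v => rfl
  let Θ : GL α F →* GL β F :=
    Units.map ((LinearMap.toMatrixAlgEquiv' (R := F) (n := β)).toMonoidHom.comp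
      (((LinearEquiv.conjAlgEquiv F e.symm).toMonoidHom).comp
        (Matrix.toLinAlgEquiv' (R := F) (n := α)).toMonoidHom))
  have hΘ : ∀ (x : GL α F) v, (Θ x : Matrix β β F) *ᵥ v = e.symm ((x : Matrix α α F) *ᵥ e v) := fun x v => by
    show LinearMap.toMatrix' (LinearEquiv.conjAlgEquiv F e.symm (Matrix.toLin' (x : Matrix α α F))) *ᵥ v = _
    rw [LinearMap.toMatrix'_mulVec, LinearEquiv.conjAlgEquiv_apply]
    rfl
  have hinjΘ : Function.Injective Θ := fun x y hxy => Units.ext (Matrix.ext_iff_mulVec.2 fun w => by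
    obtain ⟨v, rfl⟩ := e.surjective w
    have := congrArg (fun z : GL β F => e ((z : Matrix β β F) *ᵥ v)) hxy
    simpa [hΘ] using this)
  refine ⟨Θ g, mem_isometryGroup_iff.2 fun v => ?_, ?_, orderOf_injective Θ hinjΘ g⟩
  · rw [hΘ, ← hL, ← he, LinearEquiv.apply_symm_apply, mem_isometryGroup_iff.1 hg, he, hL]
  · exact charpoly_of_transport e.symm (g : Matrix α α F) _ fun v => by
      rw [hΘ, LinearEquiv.apply_symm_apply]

/-- every even-dimensional block embeds, with the type condition at full dimension -/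
def BlockEmbeds (r : ℕ) {ι : Type} [Fintype ι] (Q : QuadraticForm F (ι → F)) (Allowed : Prop) : Prop :=
  ∀ (d : ℕ) (QW : QuadraticForm F (Fin d ⊕ Fin d → F)), (QuadraticMap.polarBilin QW).Nondegenerate →
    (∃ g : GL (Fin d ⊕ Fin d) F, g ∈ Cfsg.isometryGroup F ⇑QW ∧ g ^ r = 1 ∧
      ∀ v, (g : Matrix (Fin d ⊕ Fin d) (Fin d ⊕ Fin d) F) *ᵥ v = v → v = 0) →
    2 * d ≤ Fintype.card ι → (2 * d = Fintype.card ι → Allowed) →
      ∃ L : (Fin d ⊕ Fin d → F) →ₗ[F] (ι → F), ∀ v, Q (L v) = QW v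

theorem orth_isRootPattern {ι : Type} [Fintype ι] [DecidableEq ι] (hr : r.Prime) (hr2 : r ≠ 2)
    (hr0 : (r : F) ≠ 0) (Q : QuadraticForm F (ι → F)) (hQ : (QuadraticMap.polarBilin Q).Nondegenerate)
    {g : GL ι F} (hg : g ∈ Cfsg.isometryGroup F ⇑Q) (hgr : g ^ r = 1) :
    IsRootPattern r 1 (Fintype.card ι) (g : Matrix ι ι F).charpoly := by
  set M := (g : Matrix ι ι F) with hM
  have hdet : M.det = 1 := by
    rcases CfsgLib.Classical.det_sq_of_isometry Q hQ hg with h | h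
    · exact h
    · have h1 : M.det ^ r = 1 := by rw [← Matrix.det_pow, hM, ← Units.val_pow_eq_pow_val, hgr]; simp
      rw [h, (hr.odd_of_ne_two hr2).neg_one_pow] at h1
      rw [h, h1]
  refine ⟨Matrix.charpoly_monic _, Matrix.charpoly_natDegree_eq_dim _,
    charpoly_dvd_of_pow hr0 _ (by rw [hM, ← Units.val_pow_eq_pow_val, hgr]; rfl),
    (sym_iff_reverse (Matrix.charpoly_natDegree_eq_dim _)).2 ?_⟩
  have hst := st_mul_self Q hQ hg
  have hinv : M⁻¹ = (polAdjoint Q hQ).st M := Matrix.inv_eq_left_inv hst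
  have hu : IsUnit (polarGram Q) := (Matrix.isUnit_iff_isUnit_det _).2 (det_polarGram_ne_zero Q hQ).isUnit
  obtain ⟨u, hu⟩ := hu
  have h1 : M⁻¹.charpoly = M.charpoly := by
    rw [hinv]
    show ((polarGram Q)⁻¹ * Mᵀ * polarGram Q).charpoly = _
    rw [← hu, Matrix.charpoly_units_conj', Matrix.charpoly_transpose]
  have h2 := Matrix.charpoly_inv M ((Matrix.isUnit_iff_isUnit_det M).2 (by rw [hdet]; exact isUnit_one))
  rw [h1, hdet, Ring.inverse_one, map_one, mul_one, ← Matrix.reverse_charpoly] at h2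
  conv_rhs => rw [h2]
  rw [← mul_assoc, map_pow, map_neg, map_one, ← mul_pow, neg_one_mul, neg_neg, one_pow, one_mul]

theorem orth_card_classes_pow {ι : Type} [Fintype ι] [DecidableEq ι] {p N₀ : ℕ} [Fact p.Prime] [CharP F p]
    (hr : r.Prime) (hr2 : r ≠ 2) (hrp : r ≠ p) (hN : Fintype.card ι = N₀ + 1)
    (u : (ZMod r)ˣ) (hu : (u : ZMod r) = Fintype.card F)
    (Q : QuadraticForm F (ι → F)) (hQ : (QuadraticMap.polarBilin Q).Nondegenerate) (Allowed : Prop)
    [Decidable Allowed]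
    (hnec : ∀ g : GL ι F, g ∈ Cfsg.isometryGroup F ⇑Q → g ^ r = 1 →
      (∀ v, (g : Matrix ι ι F) *ᵥ v = v → v = 0) → Allowed)
    (hemb : BlockEmbeds r Q Allowed) :
    Nat.card {C : ConjClasses ↥(Cfsg.isometryGroup F ⇑Q) // ∃ g, ConjClasses.mk g = C ∧ g ^ r = 1} =
      if Allowed then
        Nat.choose ((N₀ + 1) / Nat.card (Subgroup.closure ({u, -1} : Set (ZMod r)ˣ)) +
          (Subgroup.closure ({u, -1} : Set (ZMod r)ˣ)).index) (Subgroup.closure ({u, -1} : Set (ZMod r)ˣ)).index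
      else
        Nat.choose (N₀ / Nat.card (Subgroup.closure ({u, -1} : Set (ZMod r)ˣ)) +
          (Subgroup.closure ({u, -1} : Set (ZMod r)ˣ)).index) (Subgroup.closure ({u, -1} : Set (ZMod r)ˣ)).index := by
  classical
  haveI := Fact.mk hr
  have hr0 : (r : F) ≠ 0 := by
    rw [Ne, CharP.cast_eq_zero_iff F p]
    exact fun h => hrp ((Nat.prime_dvd_prime_iff_eq Fact.out hr).1 h).symm
  have hne : (-1 : (ZMod r)ˣ) ≠ 1 := fun h => by
    have := orderOf_neg_one_units hr hr2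
    rw [h, orderOf_one] at this
    omega
  have hpc : ∀ M : ℕ, Nat.card {P : F[X] // IsRootPattern r 1 M P} =
      Nat.choose (M / Nat.card (Subgroup.closure ({u, -1} : Set (ZMod r)ˣ)) +
        (Subgroup.closure ({u, -1} : Set (ZMod r)ˣ)).index) (Subgroup.closure ({u, -1} : Set (ZMod r)ˣ)).index :=
    fun M => card_rootPattern (F := F) (p := p) (e := 0) hr0 1 M (pow_zero p).symm u (-1) hu (by simp) hne
  have hH2 : 2 ∣ Nat.card (Subgroup.closure ({u, -1} : Set (ZMod r)ˣ)) := by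
    rw [← orderOf_neg_one_units hr hr2, ← Nat.card_zpowers]
    exact Subgroup.card_dvd_of_le (Subgroup.zpowers_le.2
      (Subgroup.subset_closure (Set.mem_insert_of_mem u (Set.mem_singleton (-1 : (ZMod r)ˣ)))))
  have hfin : ∀ M, Finite {P : F[X] // IsRootPattern r 1 M P} := fun M =>
    Nat.finite_of_card_ne_zero (by rw [hpc]; exact (Nat.choose_pos (Nat.le_add_left _ _)).ne')
  have hodd : ∀ M (P : F[X]), IsRootPattern r 1 M P → P.eval 1 ≠ 0 → Even M := by
    intro M P hP h1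
    rcases Nat.even_or_odd M with h | h
    · exact h
    exfalso
    obtain ⟨M', hM'⟩ := h
    subst hM'
    set h' := Nat.card (Subgroup.closure ({u, -1} : Set (ZMod r)ˣ))
    have heq : (2 * M' + 1) / h' = (2 * M') / h' := by
      refine Nat.succ_div_of_not_dvd fun hd => ?_
      have := dvd_trans hH2 hd
      omega
    haveI := hfin (2 * M' + 1)
    have hbij : Function.Bijective (fun x : {P : F[X] // IsRootPattern r 1 (2 * M' + 1) P ∧ P.eval 1 = 0} =>
        (⟨x.1, x.2.1⟩ : {P : F[X] // IsRootPattern r 1 (2 * M' + 1) P})) := by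
      haveI : Finite {P : F[X] // IsRootPattern r 1 (2 * M' + 1) P ∧ P.eval 1 = 0} :=
        Finite.of_injective (fun x => (⟨x.1, x.2.1⟩ : {P : F[X] // IsRootPattern r 1 (2 * M' + 1) P}))
          fun x y hxy => Subtype.ext (congrArg Subtype.val hxy :)
      haveI := Fintype.ofFinite {P : F[X] // IsRootPattern r 1 (2 * M' + 1) P ∧ P.eval 1 = 0}
      haveI := Fintype.ofFinite {P : F[X] // IsRootPattern r 1 (2 * M' + 1) P}
      refine (Fintype.bijective_iff_injective_and_card _).2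
        ⟨fun x y hxy => Subtype.ext (congrArg Subtype.val hxy :), ?_⟩
      rw [← Nat.card_eq_fintype_card, ← Nat.card_eq_fintype_card, card_pattern_root hr, hpc, hpc, heq]
    obtain ⟨x, hx⟩ := hbij.2 ⟨P, hP⟩
    exact h1 (by rw [← show x.1 = P from congrArg Subtype.val hx]; exact x.2.2)
  have hcop : ∀ g : ↥(Cfsg.isometryGroup F ⇑Q), g ^ r = 1 →
      (orderOf g).Coprime p ∧ Odd (orderOf g) := fun g hg =>
    ⟨Nat.Coprime.coprime_dvd_left (orderOf_dvd_of_pow_eq_one hg) ((Nat.coprime_primes hr Fact.out).2 hrp),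
      (hr.odd_of_ne_two hr2).of_dvd_nat (orderOf_dvd_of_pow_eq_one hg)⟩
  let Good := {P : F[X] // IsRootPattern r 1 (N₀ + 1) P ∧ (P.eval 1 = 0 ∨ Allowed)}
  let Φ : {C : ConjClasses ↥(Cfsg.isometryGroup F ⇑Q) // ∃ g, ConjClasses.mk g = C ∧ g ^ r = 1} → Good :=
    fun c => ⟨((c.2.choose : GL ι F) : Matrix ι ι F).charpoly,
      hN ▸ orth_isRootPattern hr hr2 hr0 Q hQ c.2.choose.2
        (by rw [← SubmonoidClass.coe_pow, c.2.choose_spec.2]; rfl), by
      by_cases h : ((c.2.choose : GL ι F) : Matrix ι ι F).charpoly.eval 1 = 0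
      · exact Or.inl h
      · exact Or.inr (hnec _ c.2.choose.2 (by rw [← SubmonoidClass.coe_pow, c.2.choose_spec.2]; rfl)
          ((fix_iff_eval _).2 h))⟩
  have hbij : Function.Bijective Φ := by
    refine ⟨fun c c' hcc => Subtype.ext ?_, fun P => ?_⟩
    · rw [← c.2.choose_spec.1, ← c'.2.choose_spec.1]
      refine ConjClasses.mk_eq_mk_iff_isConj.2 ((orth_isConj_iff Q hQ _ _ (hcop _ c.2.choose_spec.2).2
        (hcop _ c.2.choose_spec.2).1).2 (CfsgLib.GLClass.isConj_of_charpoly_eq ?_ ?_ (congrArg Subtype.val hcc)))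
      · exact CfsgLib.GLClass.isSS_of_coprime p _
          (by rw [Subgroup.orderOf_coe]; exact (hcop _ c.2.choose_spec.2).1)
      · exact CfsgLib.GLClass.isSS_of_coprime p _
          (by rw [Subgroup.orderOf_coe]; exact (hcop _ c'.2.choose_spec.2).1)
    · obtain ⟨j, R, hj, hR, hR1, hPR⟩ := exists_pattern_split hr P.1 P.2.1
      obtain ⟨d, hd⟩ := hodd _ R hR hR1
      obtain ⟨hRm, hRd, hRdvd, hRs⟩ := hR
      obtain ⟨h, hhm, hhd, hhR⟩ := exists_symmetrize (d := d) R hRm (by omega) fun k hk => by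
        have := hRs k (by omega)
        rw [pow_one, hd, ← two_mul, pow_mul, neg_one_sq, one_pow, one_mul] at this
        exact this
      have hm1 : R.eval (-1) ≠ 0 := fun h0 => by
        have h1 := eval_dvd (x := (-1 : F)) hRdvd
        rw [h0, zero_dvd_iff, eval_pow, eval_sub, eval_pow, eval_X, eval_one,
          (hr.odd_of_ne_two hr2).neg_one_pow] at h1
        have h2 : (-1 : F) = 1 := by
          have := eq_zero_of_pow_eq_zero h1
          linear_combination this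
        rw [h2] at h0
        exact hR1 h0
      obtain ⟨QW, g₀, hW, hg₀, hg₀c⟩ := exists_orth_block d h hhm hhd
        (by rw [← symmetrize_eval_one d h hhd.le, hhR]; exact hR1)
        (fun h0 => hm1 (by rw [← hhR, symmetrize_eval_neg_one d h hhd.le, h0, mul_zero]))
      obtain ⟨g₁, hg₁, hg₁o, hg₁c⟩ := exists_pow_coprime (p := p) _ g₀ hg₀
      have hcR : (g₁ : Matrix (Fin d ⊕ Fin d) (Fin d ⊕ Fin d) F).charpoly = R := by rw [hg₁c, hg₀c, hhR]
      have hg₁r : g₁ ^ r = 1 := Units.ext (by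
        rw [Units.val_pow_eq_pow_val]
        exact pow_eq_one_of_charpoly_dvd (CfsgLib.GLClass.isSS_of_coprime p g₁ hg₁o)
          (show _ ∣ _ from hcR ▸ hRdvd))
      obtain ⟨L, hL⟩ := hemb d QW hW ⟨g₁, hg₁, hg₁r, (fix_iff_eval _).2 (by rw [hcR]; exact hR1)⟩
        (by rw [hN]; omega) fun hfull => P.2.2.resolve_left fun h0 => by
          have hj0 : j = 0 := by omega
          rw [hPR, hj0, pow_zero, one_mul] at h0
          exact hR1 h0
      obtain ⟨T, hT, hTc⟩ := exists_extend_isometry QW hW Q L hL g₁ hg₁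
      obtain ⟨T', hT', hT'o, hT'c⟩ := exists_pow_coprime (p := p) _ T hT
      have hTP : (T' : Matrix ι ι F).charpoly = P.1 := by
        have hX1 : (X - 1 : F[X]) ≠ 0 := by simpa using X_sub_C_ne_zero (1 : F)
        refine mul_left_cancel₀ (pow_ne_zero (Fintype.card (Fin d ⊕ Fin d)) hX1) ?_
        rw [hT'c, hTc, hcR, hPR, ← mul_assoc, ← pow_add, Fintype.card_sum, Fintype.card_fin]
        congr 2
        omega
      have hTr : (⟨T', hT'⟩ : ↥(Cfsg.isometryGroup F ⇑Q)) ^ r = 1 := Subtype.ext (Units.ext (by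
        rw [SubmonoidClass.coe_pow, Units.val_pow_eq_pow_val]
        exact pow_eq_one_of_charpoly_dvd (CfsgLib.GLClass.isSS_of_coprime p T' hT'o)
          (show _ ∣ _ from hTP ▸ P.2.1.2.2.1)))
      let c : {C : ConjClasses ↥(Cfsg.isometryGroup F ⇑Q) // ∃ g, ConjClasses.mk g = C ∧ g ^ r = 1} :=
        ⟨ConjClasses.mk ⟨T', hT'⟩, _, rfl, hTr⟩
      refine ⟨c, Subtype.ext ?_⟩
      obtain ⟨v, hv⟩ := isConj_iff.1 (MonoidHom.map_isConj (Cfsg.isometryGroup F ⇑Q).subtype
        (ConjClasses.mk_eq_mk_iff_isConj.1 c.2.choose_spec.1.symm))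
      show ((c.2.choose : GL ι F) : Matrix ι ι F).charpoly = P.1
      rw [show ((c.2.choose : ↥(Cfsg.isometryGroup F ⇑Q)) : GL ι F) = _ from hv.symm, Units.val_mul,
        Units.val_mul, Matrix.coe_units_inv, Matrix.charpoly_units_conj]
      exact hTP
  rw [Nat.card_eq_of_bijective Φ hbij]
  split_ifs with hA
  · rw [← hpc]
    exact Nat.card_congr (Equiv.subtypeEquivRight fun P => and_iff_left (Or.inr hA))
  · rw [← hpc, ← card_pattern_root hr]
    exact Nat.card_congr (Equiv.subtypeEquivRight fun P => and_congr_right fun _ => or_iff_left hA)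

end CfsgLib.IsometryConj
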