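import Mathlib
import Cfsg.Agent.Lib.IsometryConj.SympCharpoly
import Cfsg.Agent.Lib.Classical.HermOrder
import Cfsg.Agent.Lib.AutPSL.GraphCentralizer

/-!
The centraliser in `Sp_2m(q)`, `q ≡ 2 (mod 3)`, of a fixed-point-free element of order three is `GU_m(q)`.
-/

set_option autoImplicit false

namespace CfsgLib.IsometryConj

open Matrix Polynomial

variable {F : Type*} [Field F] {m : ℕ}

/-- The model element. -/
def threeMat (F : Type*) [Field F] (m : ℕ) : Matrix (Fin m ⊕ Fin m) (Fin m ⊕ Fin m) F :=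
  Matrix.fromBlocks 0 (-1) 1 (-1)

theorem threeMat_quad : threeMat F m * threeMat F m + threeMat F m + 1 = 0 := by
  simp only [threeMat, Matrix.fromBlocks_multiply, ← Matrix.fromBlocks_one, Matrix.fromBlocks_add]
  rw [← Matrix.fromBlocks_zero]
  simp

theorem threeMat_mem : threeMat F m ∈ Matrix.symplecticGroup (Fin m) F := by
  rw [SymplecticGroup.mem_iff]
  simp [threeMat, Matrix.J, Matrix.fromBlocks_multiply, Matrix.fromBlocks_transpose]

/-- A matrix killed by an irreducible quadratic has charpoly a power of it. -/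
theorem charpoly_of_quad {ι : Type*} [Fintype ι] [DecidableEq ι] (hι : Fintype.card ι = 2 * m)
    (hirr : Irreducible (X ^ 2 + X + 1 : F[X])) (M : Matrix ι ι F) (hM : M * M + M + 1 = 0) :
    M.charpoly = (X ^ 2 + X + 1 : F[X]) ^ m := by
  classical
  set f := (X ^ 2 + X + 1 : F[X]) with hf
  have hfm : f.Monic := by rw [hf]; monicity!
  have hfd : f.natDegree = 2 := by rw [hf]; compute_degree!
  have hfac : ∀ g ∈ UniqueFactorizationMonoid.normalizedFactors M.charpoly, g = f := by
    intro g hg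
    have hgi := UniqueFactorizationMonoid.irreducible_of_normalized_factor g hg
    have hgm : g.Monic := by
      rw [← UniqueFactorizationMonoid.normalize_normalized_factor g hg]
      exact Polynomial.monic_normalize hgi.ne_zero
    obtain ⟨α, hα⟩ := IsAlgClosed.exists_aeval_eq_zero (AlgebraicClosure F) g (degree_pos_of_irreducible hgi).ne'
    have hP : (M.map (algebraMap F (AlgebraicClosure F))).charpoly.IsRoot α := by
      rw [Matrix.charpoly_map, IsRoot, eval_map, ← aeval_def]
      exact aeval_eq_zero_of_dvd_aeval_eq_zero (UniqueFactorizationMonoid.dvd_of_mem_normalizedFactors hg) hα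
    rw [IsRoot, Matrix.eval_charpoly] at hP
    obtain ⟨v, hv, hv0⟩ := Matrix.exists_mulVec_eq_zero_iff.2 hP
    set N := M.map (algebraMap F (AlgebraicClosure F)) with hN
    have hNv : N *ᵥ v = α • v := by
      rw [Matrix.sub_mulVec, sub_eq_zero] at hv0
      rw [← hv0]
      ext i
      simp [Matrix.scalar_apply, Matrix.mulVec_diagonal]
    have hNq : N * N + N + 1 = 0 := by
      have := congrArg (algebraMap F (AlgebraicClosure F)).mapMatrix hM
      simpa [map_add, map_mul, map_one, map_zero, hN] using this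
    have h3 : (α ^ 2 + α + 1) • v = 0 := by
      have := congrArg (· *ᵥ v) hNq
      simp only [Matrix.add_mulVec, ← Matrix.mulVec_mulVec, hNv, Matrix.mulVec_smul, Matrix.one_mulVec,
        Matrix.zero_mulVec, smul_smul] at this
      rw [← this]; module
    have hα2 : aeval α f = 0 := by
      rw [hf]; simpa using (smul_eq_zero.1 h3).resolve_right hv
    exact (minpoly.eq_of_irreducible_of_monic hgi hα hgm).trans
      (minpoly.eq_of_irreducible_of_monic hirr hα2 hfm).symm
  have hpm : M.charpoly.Monic := Matrix.charpoly_monic M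
  have h := UniqueFactorizationMonoid.prod_normalizedFactors hpm.ne_zero
  rw [Multiset.eq_replicate_card.2 hfac, Multiset.prod_replicate] at h
  have he := Polynomial.eq_of_monic_of_associated (hfm.pow _) hpm h
  have hd := congrArg natDegree he
  rw [natDegree_pow, hfd, Matrix.charpoly_natDegree_eq_dim, hι] at hd
  rw [← he, show (UniqueFactorizationMonoid.normalizedFactors M.charpoly).card = m by omega]

variable [Fintype F]

theorem quad_irreducible {q : ℕ} (hF : Fintype.card F = q) (hq : q % 3 = 2) :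
    Irreducible (X ^ 2 + X + 1 : F[X]) := by
  have hm : (X ^ 2 + X + 1 : F[X]).Monic := by monicity!
  have hd : (X ^ 2 + X + 1 : F[X]).natDegree = 2 := by compute_degree!
  rw [hm.irreducible_iff_roots_eq_zero_of_degree_le_three (by omega) (by omega)]
  refine Multiset.eq_zero_of_forall_notMem fun a ha => ?_
  rw [mem_roots hm.ne_zero] at ha
  have ha' : a ^ 2 + a + 1 = 0 := by simpa using ha
  have h3 : a ^ 3 = 1 := by linear_combination (a - 1) * ha'
  have ha0 : a ≠ 0 := fun h => by simp [h] at ha'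
  have h1 : a = 1 := by
    have hg : a ^ Nat.gcd 3 (q - 1) = 1 := pow_gcd_eq_one.2 ⟨h3, hF ▸ FiniteField.pow_card_sub_one_eq_one a ha0⟩
    have hgcd : Nat.gcd 3 (q - 1) = 1 := (Nat.prime_three.coprime_iff_not_dvd).2 (by omega)
    rwa [hgcd, pow_one] at hg
  subst h1
  have h30 : ((3 : ℕ) : F) = 0 := by push_cast; linear_combination ha'
  obtain ⟨p, hp⟩ := CharP.exists F
  obtain ⟨k, hpp, hk⟩ := FiniteField.card F p
  have hp3 : p = 3 := (Nat.prime_dvd_prime_iff_eq hpp Nat.prime_three).1 ((CharP.cast_eq_zero_iff F p 3).1 h30)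
  have : 3 ∣ q := by rw [← hF, hk, hp3]; exact dvd_pow_self 3 k.ne_zero
  omega

theorem card_centralizer_order_three {q : ℕ} (hF : Fintype.card F = q) (hq : q % 3 = 2)
    (x : Matrix.symplecticGroup (Fin m) F) (hx3 : x ^ 3 = 1)
    (hfpf : IsUnit ((x : Matrix (Fin m ⊕ Fin m) (Fin m ⊕ Fin m) F) - 1)) :
    (Nat.card ↥(Subgroup.centralizer ({x} : Set ↥(Matrix.symplecticGroup (Fin m) F))) : ℤ) =
      (q : ℤ) ^ (m * (m - 1) / 2) * ∏ i : Fin m, ((q : ℤ) ^ ((i : ℕ) + 1) - (-1) ^ ((i : ℕ) + 1)) := by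
  classical
  set f := (X ^ 2 + X + 1 : F[X]) with hf
  have hirr : Irreducible f := quad_irreducible hF hq
  obtain ⟨p, hp⟩ := CharP.exists F
  haveI := hp
  obtain ⟨k, hpp, hk⟩ := FiniteField.card F p
  haveI := Fact.mk hpp
  have hp3 : p ≠ 3 := by
    rintro rfl
    have : 3 ∣ q := by rw [← hF, hk]; exact dvd_pow_self 3 k.ne_zero
    omega
  -- reduce to the model
  let x₀ : Matrix.symplecticGroup (Fin m) F := ⟨threeMat F m, threeMat_mem⟩
  have hxq : (x : Matrix (Fin m ⊕ Fin m) (Fin m ⊕ Fin m) F) * x + x + 1 = 0 := by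
    refine hfpf.mul_right_eq_zero.1 ?_
    have h3 : (x : Matrix (Fin m ⊕ Fin m) (Fin m ⊕ Fin m) F) ^ 3 = 1 := by
      rw [← SubmonoidClass.coe_pow, hx3]; rfl
    calc _ = (x : Matrix (Fin m ⊕ Fin m) (Fin m ⊕ Fin m) F) ^ 3 - 1 := by noncomm_ring
      _ = 0 := by rw [h3, sub_self]
  have hord : ∀ y : Matrix.symplecticGroup (Fin m) F, y ^ 3 = 1 → (orderOf y).Coprime p := fun y hy =>
    Nat.Coprime.coprime_dvd_left (orderOf_dvd_of_pow_eq_one hy)
      ((Nat.coprime_primes Nat.prime_three hpp).2 (Ne.symm hp3))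
  have hx03 : x₀ ^ 3 = 1 := by
    refine Subtype.ext ?_
    show threeMat F m ^ 3 = 1
    have h := threeMat_quad (F := F) (m := m)
    calc threeMat F m ^ 3 = (threeMat F m - 1) * (threeMat F m * threeMat F m + threeMat F m + 1) + 1 := by
          noncomm_ring
      _ = 1 := by rw [h, mul_zero, zero_add]
  have hι : Fintype.card (Fin m ⊕ Fin m) = 2 * m := by simp [two_mul]
  obtain ⟨c, hc⟩ := isConj_iff.1 (sp_isConj_of_charpoly p x x₀ (hord x hx3) (hord x₀ hx03)
    ((charpoly_of_quad hι hirr _ hxq).trans (charpoly_of_quad hι hirr _ threeMat_quad).symm))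
  have e : Subgroup.centralizer ({x} : Set ↥(Matrix.symplecticGroup (Fin m) F)) ≃
      Subgroup.centralizer ({x₀} : Set ↥(Matrix.symplecticGroup (Fin m) F)) :=
    (MulAut.conj c).toEquiv.subtypeEquiv fun y => by
      rw [Subgroup.mem_centralizer_singleton_iff, Subgroup.mem_centralizer_singleton_iff, ← hc]
      show _ ↔ (c * y * c⁻¹) * _ = _ * (c * y * c⁻¹)
      constructor
      · intro h; simp [mul_assoc]; rw [← mul_assoc y, h, mul_assoc]
      · intro h
        simpa [mul_assoc] using congrArg (fun z => c⁻¹ * z * c) h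
  rw [Nat.card_congr e]
  -- the quadratic extension
  haveI := Fact.mk hirr
  let K := AdjoinRoot f
  have hfm : f.Monic := by rw [hf]; monicity!
  have hfd : f.natDegree = 2 := by rw [hf]; compute_degree!
  let pb := AdjoinRoot.powerBasis' hfm
  haveI : Module.Finite F K := pb.finite
  haveI : Finite K := Module.finite_of_finite F
  haveI : Fintype K := Fintype.ofFinite K
  have hK : Fintype.card K = q ^ 2 := by
    rw [Module.card_eq_pow_finrank (K := F) (V := K), pb.finrank, hF]
    show q ^ f.natDegree = q ^ 2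
    rw [hfd]
  obtain ⟨C⟩ := CfsgLib.Classical.uctx_exists hK
  let ι : F →+* K := AdjoinRoot.of f
  let ω : K := AdjoinRoot.root f
  have hω : ω ^ 2 + ω + 1 = 0 := by
    have h := AdjoinRoot.eval₂_root f
    simpa [hf] using h
  have huniq : ∀ a b : F, ι a + ω * ι b = 0 → a = 0 ∧ b = 0 := by
    intro a b h
    by_cases hb : b = 0
    · subst hb
      rw [map_zero, mul_zero, add_zero] at h
      exact ⟨ι.injective (by rwa [map_zero]), rfl⟩
    · exfalso
      have hr : ω = ι (-a / b) := by
        rw [map_div₀, map_neg, eq_div_iff (by simpa using hb)]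
        linear_combination h
      have h0 : ι ((-a / b) ^ 2 + (-a / b) + 1) = 0 := by rw [map_add, map_add, map_pow, map_one, ← hr, hω]
      have hroot : f.IsRoot (-a / b) := by
        have := ι.injective (h0.trans (map_zero ι).symm)
        simpa [hf] using this
      have := (Polynomial.Monic.irreducible_iff_roots_eq_zero_of_degree_le_three hfm (by omega) (by omega)).1 hirr
      have hmem := (mem_roots hfm.ne_zero).2 hroot
      simp [this] at hmem
  have hdec : ∀ z : K, ∃ a b : F, z = ι a + ω * ι b := by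
    intro z
    obtain ⟨g, hg⟩ := pb.exists_eq_aeval' z
    have hmod : ∃ a b : F, g %ₘ f = Polynomial.C a + X * Polynomial.C b := by
      have hlt : (g %ₘ f).degree < 2 := by
        refine (degree_modByMonic_lt g hfm).trans_le ?_
        rw [degree_eq_natDegree hfm.ne_zero, hfd]; rfl
      refine ⟨(g %ₘ f).coeff 0, (g %ₘ f).coeff 1, ?_⟩
      ext n
      rcases n with _ | _ | n
      · simp
      · simp
      · have h0 : (g %ₘ f).coeff (n + 2) = 0 := coeff_eq_zero_of_degree_lt (lt_of_lt_of_le hlt (by exact_mod_cast Nat.le_add_left 2 n))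
        simp [h0, coeff_X_mul]
    obtain ⟨a, b, hab⟩ := hmod
    refine ⟨a, b, ?_⟩
    have h1 : aeval pb.gen g = aeval pb.gen (g %ₘ f) :=
      (Polynomial.aeval_modByMonic_eq_self_of_root (AdjoinRoot.aeval_eq f ▸ AdjoinRoot.mk_self)).symm
    rw [hg, h1, hab]
    simp [pb, ι, ω, AdjoinRoot.algebraMap_eq]
    exact mul_comm _ _
  have hbι : ∀ a, C.bar (ι a) = ι a := fun a => by rw [C.bar_eq, ← map_pow, ← hF, FiniteField.pow_card]
  have hbω : C.bar ω = -1 - ω := by
    have h3 : ω ^ 3 = 1 := by linear_combination (ω - 1) * hω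
    rw [C.bar_eq, ← Nat.div_add_mod q 3, hq, pow_add, pow_mul, h3, one_pow, one_mul]
    linear_combination hω
  let toZ : Matrix (Fin m) (Fin m) F → Matrix (Fin m) (Fin m) F → Matrix (Fin m) (Fin m) K :=
    fun A B => A.map ι + ω • B.map ι
  have htoZ : ∀ A B A' B', toZ A B = toZ A' B' → A = A' ∧ B = B' := by
    intro A B A' B' h
    have key : ∀ i j, A i j - A' i j = 0 ∧ B i j - B' i j = 0 := fun i j => huniq _ _ (by
      have := congrFun (congrFun h i) j
      simp [toZ] at this
      rw [map_sub, map_sub]; linear_combination this)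
    exact ⟨Matrix.ext fun i j => sub_eq_zero.1 (key i j).1, Matrix.ext fun i j => sub_eq_zero.1 (key i j).2⟩
  have hZ : ∀ A B : Matrix (Fin m) (Fin m) F, toZ A B * ((toZ A B).map C.bar)ᵀ =
      toZ (A * Aᵀ - A * Bᵀ + B * Bᵀ) (B * Aᵀ - A * Bᵀ) := by
    intro A B
    ext i j
    simp only [toZ, Matrix.mul_apply, Matrix.add_apply, Matrix.sub_apply, Matrix.smul_apply, Matrix.map_apply,
      Matrix.transpose_apply, smul_eq_mul, map_add, map_sub, map_mul, map_sum, hbι, hbω, Finset.mul_sum,
      ← Finset.sum_add_distrib, ← Finset.sum_sub_distrib]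
    refine Finset.sum_congr rfl fun l _ => ?_
    linear_combination -(ι (B i l) * ι (B j l)) * hω
  have hM : ∀ A B : Matrix (Fin m) (Fin m) F, Matrix.fromBlocks A (-B) B (A - B) ∈ Matrix.symplecticGroup (Fin m) F ↔
      toZ A B * ((toZ A B).map C.bar)ᵀ = 1 := by
    intro A B
    have h1 : toZ (1 : Matrix (Fin m) (Fin m) F) 0 = 1 := by simp [toZ]
    rw [hZ, ← h1, SymplecticGroup.mem_iff]
    simp only [Matrix.J, Matrix.fromBlocks_transpose, Matrix.fromBlocks_multiply, Matrix.fromBlocks_inj,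
      Matrix.mul_zero, Matrix.mul_one, zero_add, add_zero, Matrix.transpose_neg, Matrix.transpose_sub,
      Matrix.mul_neg, neg_neg, Matrix.neg_mul]
    constructor
    · rintro ⟨e1, e2, -, -⟩
      have eX : A * Aᵀ - A * Bᵀ + B * Bᵀ = 1 := by
        have := congrArg Neg.neg e2
        rw [neg_neg] at this
        rw [← this, Matrix.mul_sub]; abel
      have eY : B * Aᵀ - A * Bᵀ = 0 := by rw [← neg_inj, neg_zero, ← e1]; abel
      rw [eX, eY]
    · intro h
      obtain ⟨eX, eY⟩ := htoZ _ _ _ _ h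
      refine ⟨?_, ?_, ?_, ?_⟩
      · rw [← neg_inj, neg_zero, ← eY]; abel
      · rw [← eX, Matrix.mul_sub]; abel
      · rw [Matrix.sub_mul, ← eX]
        calc _ = A * Aᵀ - A * Bᵀ + B * Bᵀ - (B * Aᵀ - A * Bᵀ) := by abel
          _ = _ := by rw [eY, sub_zero]
      · rw [Matrix.sub_mul, Matrix.mul_sub]
        calc _ = -(B * Aᵀ - A * Bᵀ) := by abel
          _ = _ := by rw [eY, neg_zero]
  have hGU : Nat.card (Subgroup.centralizer ({x₀} : Set ↥(Matrix.symplecticGroup (Fin m) F))) =
      Nat.card (Cfsg.GU m K q) := by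
    have hblk : ∀ M : Subgroup.centralizer ({x₀} : Set ↥(Matrix.symplecticGroup (Fin m) F)),
        ∃ A B, (M.1 : Matrix (Fin m ⊕ Fin m) (Fin m ⊕ Fin m) F) = Matrix.fromBlocks A (-B) B (A - B) := by
      intro M
      have h : (M.1 : Matrix (Fin m ⊕ Fin m) (Fin m ⊕ Fin m) F) * threeMat F m =
          threeMat F m * (M.1 : Matrix (Fin m ⊕ Fin m) (Fin m ⊕ Fin m) F) :=
        congrArg Subtype.val (Subgroup.mem_centralizer_singleton_iff.1 M.2)
      rw [← Matrix.fromBlocks_toBlocks (M.1 : Matrix (Fin m ⊕ Fin m) (Fin m ⊕ Fin m) F)] at h ⊢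
      simp only [threeMat, Matrix.fromBlocks_multiply, Matrix.fromBlocks_inj, Matrix.mul_zero, Matrix.mul_one,
        Matrix.mul_neg, Matrix.zero_mul, Matrix.one_mul, Matrix.neg_mul, zero_add, add_zero] at h
      obtain ⟨e1, -, e3, -⟩ := h
      refine ⟨_, _, Matrix.fromBlocks_inj.2 ⟨rfl, e1, rfl, ?_⟩⟩
      rw [e3]; abel
    choose A B hAB using hblk
    have hu : ∀ M, toZ (A M) (B M) * ((toZ (A M) (B M)).map C.bar)ᵀ = 1 := fun M =>
      (hM _ _).1 (hAB M ▸ M.1.2)
    let φ : Subgroup.centralizer ({x₀} : Set ↥(Matrix.symplecticGroup (Fin m) F)) → Cfsg.GU m K q := fun M =>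
      ⟨⟨toZ (A M) (B M), _, hu M, mul_eq_one_comm.1 (hu M)⟩,
        (CfsgLib.AutPSL.mem_GU_iff C.bar_eq C.q_ne_zero _).2 (hu M)⟩
    refine Nat.card_congr (Equiv.ofBijective φ ⟨fun M N h => ?_, fun g => ?_⟩)
    · obtain ⟨hA, hB⟩ := htoZ _ _ _ _ (congrArg (fun g : Cfsg.GU m K q => g.1.1) h)
      exact Subtype.ext (Subtype.ext (by rw [hAB, hAB, hA, hB]))
    · choose a b hab using fun i j => hdec (g.1.1 i j)
      have hg : g.1.1 = toZ (Matrix.of a) (Matrix.of b) := by
        ext i j; simp [toZ, ← hab]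
      have hu' : g.1.1 * (g.1.1.map C.bar)ᵀ = 1 := (CfsgLib.AutPSL.mem_GU_iff C.bar_eq C.q_ne_zero _).1 g.2
      rw [hg] at hu'
      have hmem := (hM _ _).2 hu'
      have hcom : (⟨_, hmem⟩ : Matrix.symplecticGroup (Fin m) F) ∈
          Subgroup.centralizer ({x₀} : Set ↥(Matrix.symplecticGroup (Fin m) F)) := by
        refine Subgroup.mem_centralizer_singleton_iff.2 (Subtype.ext ?_)
        show _ * threeMat F m = threeMat F m * _
        simp [threeMat, Matrix.fromBlocks_multiply]
        exact ⟨by abel, by abel⟩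
      refine ⟨⟨_, hcom⟩, Subtype.ext (Units.ext ?_)⟩
      show toZ _ _ = g.1.1
      have h := (hAB ⟨_, hcom⟩).symm
      rw [hg]
      simp only [Matrix.fromBlocks_inj] at h
      rw [h.1, h.2.2.1]
  rw [hGU, CfsgLib.Classical.card_gu_formula C hK, Finset.prod_range, Nat.cast_mul, Nat.cast_pow, Nat.cast_prod]
  congr 1
  refine Finset.prod_congr rfl fun i _ => ?_
  split_ifs with h
  · rw [(h.add_one).neg_one_pow]; push_cast; ring
  · rw [((Nat.not_even_iff_odd.1 h).add_one).neg_one_pow]
    push_cast [Nat.cast_sub (Nat.one_le_pow _ _ (show 0 < q by omega))]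
    ring

end CfsgLib.IsometryConj
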