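import Mathlib
import Cfsg.Agent.Lib.IsometryConj.OrthClasses

/-!
The numbers of classes of elements of odd prime order in the three standard orthogonal groups.
-/

set_option autoImplicit false

namespace CfsgLib.IsometryConj

open Matrix CfsgLib.Classical

variable {F : Type*} [Field F] [Fintype F] {r : ℕ}

theorem not_dvd_both (hr : r.Prime) (hr2 : r ≠ 2) (x : ℤ) (h1 : (r : ℤ) ∣ x - 1) (h2 : (r : ℤ) ∣ x + 1) :
    False := by
  have h := dvd_sub h2 h1
  rw [show x + 1 - (x - 1) = ((2 : ℕ) : ℤ) by push_cast; ring] at h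
  exact hr2 ((Nat.prime_dvd_prime_iff_eq hr Nat.prime_two).1 (Int.natCast_dvd_natCast.1 h))

/-- what is left to check for the embedding of blocks: the full dimension -/
theorem blockEmbeds_of_full {ι : Type} [Fintype ι] [DecidableEq ι] (hr : r.Prime) (hr2 : r ≠ 2)
    (hrq : ¬ r ∣ Fintype.card F) (Q : QuadraticForm F (ι → F))
    (hQ : (QuadraticMap.polarBilin Q).Nondegenerate) {a b : F}
    (hab : ∀ z₁ z₂ : F, z₁ ^ 2 + a * z₁ * z₂ + b * z₂ ^ 2 = 0 → z₁ = 0 ∧ z₂ = 0) (Allowed : Prop)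
    (hplus : ∀ k : ℕ, 2 * (k + 1) = Fintype.card ι → Allowed →
      (r : ℤ) ∣ (Fintype.card F : ℤ) ^ (k + 1) - 1 →
      ∃ L : (Fin (k + 1) ⊕ Fin (k + 1) → F) →ₗ[F] (ι → F), ∀ v, Q (L v) = Cfsg.quadFormPlus (k + 1) F v)
    (hminus : ∀ k : ℕ, 2 * (k + 1) = Fintype.card ι → Allowed →
      (r : ℤ) ∣ (Fintype.card F : ℤ) ^ (k + 1) + 1 →
      ∃ L : ((Fin k ⊕ Fin k) ⊕ Fin 2 → F) →ₗ[F] (ι → F), ∀ v, Q (L v) = Cfsg.quadFormMinus k F a b v) :
    BlockEmbeds r Q Allowed := by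
  classical
  intro d QW hW hg hle hall
  rcases Nat.eq_zero_or_pos d with rfl | hd
  · exact ⟨0, fun v => by
      rw [LinearMap.zero_apply, QuadraticMap.map_zero, Subsingleton.elim v 0, QuadraticMap.map_zero]⟩
  obtain ⟨k, rfl⟩ : ∃ k, d = k + 1 := ⟨d - 1, by omega⟩
  obtain ⟨g, hg, hgr, hfix⟩ := hg
  have hfr : Module.finrank F (ι → F) = Fintype.card ι := Module.finrank_fintype_fun_eq_card F
  have hf1 := (fix_iff_eval _).1 hfix
  rcases CfsgLib.Orth.FieldCls.exists_even_normal QW hW (k := k)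
    (by rw [Module.finrank_fintype_fun_eq_card, Fintype.card_sum, Fintype.card_fin]; ring) hab with
    ⟨L, hLi, hL⟩ | ⟨L, hLi, hL⟩
  · let e := LinearEquiv.ofInjectiveOfFinrankEq L hLi rfl
    obtain ⟨L', hL'⟩ : ∃ L' : (Fin (k + 1) ⊕ Fin (k + 1) → F) →ₗ[F] (ι → F),
        ∀ v, Q (L' v) = Cfsg.quadFormPlus (k + 1) F v := by
      rcases lt_or_eq_of_le hle with hlt | heq
      · exact exists_embed_plus Q hQ (by rw [hfr]; omega)
      · refine hplus k heq (hall heq) ?_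
        obtain ⟨g', hg', hg'c, hg'o⟩ := transport_isometry QW (plusQ (k + 1) F) L
          (fun v => by rw [hL, plusQ_coe]) hLi rfl g hg
        exact plus_dvd hr hr2 hrq hg' (orderOf_dvd_iff_pow_eq_one.1 (hg'o ▸ orderOf_dvd_of_pow_eq_one hgr))
          ((fix_iff_eval _).2 (by rw [hg'c]; exact hf1))
    refine ⟨L'.comp e.symm.toLinearMap, fun v => ?_⟩
    rw [LinearMap.comp_apply, hL', ← hL]
    exact congrArg QW (e.apply_symm_apply v)
  · have hfe : Module.finrank F ((Fin k ⊕ Fin k) ⊕ Fin 2 → F) =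
        Module.finrank F (Fin (k + 1) ⊕ Fin (k + 1) → F) := by
      rw [Module.finrank_fintype_fun_eq_card, Module.finrank_fintype_fun_eq_card]
      simp only [Fintype.card_sum, Fintype.card_fin]
      ring
    let e := LinearEquiv.ofInjectiveOfFinrankEq L hLi hfe
    obtain ⟨L', hL'⟩ : ∃ L' : ((Fin k ⊕ Fin k) ⊕ Fin 2 → F) →ₗ[F] (ι → F),
        ∀ v, Q (L' v) = Cfsg.quadFormMinus k F a b v := by
      rcases lt_or_eq_of_le hle with hlt | heq
      · exact exists_embed_minus Q hQ (by rw [hfr]; omega) hab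
      · refine hminus k heq (hall heq) ?_
        obtain ⟨g', hg', hg'c, hg'o⟩ := transport_isometry QW (minusQ k F a b) L
          (fun v => by rw [hL, minusQ_coe]) hLi
          (by simp only [Fintype.card_sum, Fintype.card_fin]; ring) g hg
        exact minus_dvd hr hr2 hrq hab hg'
          (orderOf_dvd_iff_pow_eq_one.1 (hg'o ▸ orderOf_dvd_of_pow_eq_one hgr))
          ((fix_iff_eval _).2 (by rw [hg'c]; exact hf1))
    refine ⟨L'.comp e.symm.toLinearMap, fun v => ?_⟩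
    rw [LinearMap.comp_apply, hL', ← hL]
    exact congrArg QW (e.apply_symm_apply v)

theorem not_dvd_card {p : ℕ} [Fact p.Prime] [CharP F p] (hr : r.Prime) (hrp : r ≠ p) :
    ¬ r ∣ Fintype.card F := fun h => by
  obtain ⟨f, -, hcard⟩ := FiniteField.card F p
  exact hrp ((Nat.prime_dvd_prime_iff_eq hr Fact.out).1 (hr.dvd_of_dvd_pow (hcard ▸ h)))

theorem pred_div_of_not_dvd {x h : ℕ} (hx : 1 ≤ x) (hn : ¬ h ∣ x) : (x - 1) / h = x / h := by
  obtain ⟨y, rfl⟩ : ∃ y, x = y + 1 := ⟨x - 1, by omega⟩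
  rw [Nat.add_sub_cancel, Nat.succ_div_of_not_dvd hn]

theorem pred_div_of_dvd {x h : ℕ} (hx : 1 ≤ x) (hd : h ∣ x) : (x - 1) / h + 1 = x / h := by
  obtain ⟨y, rfl⟩ : ∃ y, x = y + 1 := ⟨x - 1, by omega⟩
  rw [Nat.add_sub_cancel, Nat.succ_div_of_dvd hd]

theorem choose_pred {K t : ℕ} (hK : 1 ≤ K) (ht : 1 ≤ t) :
    Nat.choose (K - 1 + t) t - 1 = Nat.choose (K + t) t - 1 - Nat.choose (K + t - 1) (t - 1) := by
  obtain ⟨K', rfl⟩ : ∃ K', K = K' + 1 := ⟨K - 1, by omega⟩
  obtain ⟨t', rfl⟩ : ∃ t', t = t' + 1 := ⟨t - 1, by omega⟩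
  rw [show K' + 1 - 1 + (t' + 1) = K' + t' + 1 by omega, show K' + 1 + (t' + 1) = (K' + t' + 1) + 1 by omega,
    Nat.add_sub_cancel, Nat.add_sub_cancel, Nat.choose_succ_succ' (K' + t' + 1) t']
  omega

theorem pow_eq_one_iff_dvd (hr : r.Prime) (u : (ZMod r)ˣ) (hu : (u : ZMod r) = Fintype.card F) (k : ℕ) :
    (r : ℤ) ∣ (Fintype.card F : ℤ) ^ k - 1 ↔ orderOf u ∣ k := by
  rw [← ZMod.intCast_zmod_eq_zero_iff_dvd, orderOf_dvd_iff_pow_eq_one, Int.cast_sub, Int.cast_one, Int.cast_pow,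
    Int.cast_natCast, ← hu, ← Units.val_pow_eq_pow_val, sub_eq_zero, Units.val_eq_one]

theorem pow_eq_neg_one_iff_dvd (hr : r.Prime) (hr2 : r ≠ 2) (u : (ZMod r)ˣ)
    (hu : (u : ZMod r) = Fintype.card F) (k : ℕ) :
    (r : ℤ) ∣ (Fintype.card F : ℤ) ^ k + 1 ↔ ¬ orderOf u ∣ k ∧ orderOf u ∣ 2 * k := by
  haveI := Fact.mk hr
  have h : (r : ℤ) ∣ (Fintype.card F : ℤ) ^ k + 1 ↔ u ^ k = -1 := by
    rw [← ZMod.intCast_zmod_eq_zero_iff_dvd, Int.cast_add, Int.cast_one, Int.cast_pow, Int.cast_natCast, ← hu,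
      ← Units.val_pow_eq_pow_val, add_eq_zero_iff_eq_neg, ← Units.val_one, ← Units.val_neg, Units.val_inj]
  rw [h, orderOf_dvd_iff_pow_eq_one, orderOf_dvd_iff_pow_eq_one]
  constructor
  · intro h1
    refine ⟨fun h2 => ?_, by rw [mul_comm, pow_mul, h1, neg_one_sq]⟩
    have := orderOf_neg_one_units hr hr2
    rw [← h1, h2, orderOf_one] at this
    omega
  · rintro ⟨h1, h2⟩
    exact eq_neg_one_of_sq hr (by rw [← pow_mul, mul_comm]; exact h2) h1

theorem orth_setup {p q : ℕ} [Fact p.Prime] [CharP F p] (hF : Fintype.card F = q) (hr : r.Prime)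
    (hr2 : r ≠ 2) (hrp : r ≠ p) {i t : ℕ} (hi : i = orderOf (q : ZMod r)) (ht : t * i = r - 1) :
    ∃ u : (ZMod r)ˣ, (u : ZMod r) = Fintype.card F ∧ orderOf u = i ∧ 0 < i ∧ 1 ≤ t ∧
      (Odd i → Nat.card (Subgroup.closure ({u, -1} : Set (ZMod r)ˣ)) = 2 * i ∧
        (Subgroup.closure ({u, -1} : Set (ZMod r)ˣ)).index = t / 2 ∧ 1 ≤ t / 2) ∧
      (¬ Odd i → Nat.card (Subgroup.closure ({u, -1} : Set (ZMod r)ˣ)) = i ∧
        (Subgroup.closure ({u, -1} : Set (ZMod r)ˣ)).index = t) := by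
  haveI := Fact.mk hr
  have hcop : q.Coprime r := (hr.coprime_iff_not_dvd.2 (hF ▸ not_dvd_card (p := p) hr hrp)).symm
  set u := ZMod.unitOfCoprime q hcop
  have hu : (u : ZMod r) = q := ZMod.coe_unitOfCoprime _ _
  have hio : orderOf u = i := by rw [hi, ← hu, orderOf_units]
  have hipos : 0 < i := hio ▸ orderOf_pos u
  have ht1 : 1 ≤ t := by
    rcases Nat.eq_zero_or_pos t with h | h
    · rw [h, zero_mul] at ht; have := hr.two_le; omega
    · exact h
  have hh := closure_pair_neg_one hr hr2 u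
  rw [hio] at hh
  refine ⟨u, by rw [hu, hF], hio, hipos, ht1, fun ho => ?_, fun ho => ?_⟩
  · rw [if_pos ho] at hh
    have hte : Even t := by
      have h1 : Even (r - 1) := hr.even_sub_one hr2
      rw [← ht, Nat.even_mul] at h1
      exact h1.resolve_right (Nat.not_even_iff_odd.2 ho)
    obtain ⟨k, hk⟩ := hte
    refine ⟨hh, ?_, by omega⟩
    rw [index_eq hr _ hh (t := k) (by rw [← ht, hk]; ring)]
    omega
  · rw [if_neg ho] at hh
    exact ⟨hh, index_eq hr _ hh ht⟩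

theorem odd_orth_class_count {p q : ℕ} [Fact p.Prime] [CharP F p] (hF : Fintype.card F = q) (hq : Odd q)
    (m i t : ℕ) (hr : r.Prime) (hr2 : r ≠ 2) (hrp : r ≠ p) (hi : i = orderOf (q : ZMod r))
    (ht : t * i = r - 1) :
    Nat.card {C : ConjClasses ↥(Cfsg.isometryGroup F (Cfsg.quadFormOdd m F)) //
        ∃ g : ↥(Cfsg.isometryGroup F (Cfsg.quadFormOdd m F)), ConjClasses.mk g = C ∧ orderOf g = r} =
      if Odd i then Nat.choose (m / i + t / 2) (t / 2) - 1 else Nat.choose ((2 * m + 1) / i + t) t - 1 := by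
  classical
  obtain ⟨u, hu, hio, hipos, ht1, ho, he⟩ := orth_setup hF hr hr2 hrp hi ht
  have h2 : (2 : F) ≠ 0 := CfsgLib.Orth.two_ne_zero_of_odd (hF ▸ hq)
  have hcard : Fintype.card (Unit ⊕ (Fin m ⊕ Fin m)) = 2 * m + 1 := by
    simp only [Fintype.card_sum, Fintype.card_fin, Fintype.card_unit]; omega
  obtain ⟨a, b, hab⟩ := exists_anisotropic_binary (F := F)
  rw [← oddQ_coe, card_classes_orderOf hr,
    orth_card_classes_pow (p := p) hr hr2 hrp hcard u hu (oddQ m F) (oddQ_nondeg h2 m) False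
      (fun g hg hgr hfix => ?_)
      (blockEmbeds_of_full hr hr2 (not_dvd_card (p := p) hr hrp) _ (oddQ_nondeg h2 m) hab False
        (fun _ _ h => h.elim) (fun _ _ h => h.elim)), if_neg not_false]
  · split_ifs with hio'
    · obtain ⟨e1, e2, -⟩ := ho hio'
      rw [e1, e2, Nat.mul_div_mul_left _ _ two_pos]
    · obtain ⟨e1, e2⟩ := he hio'
      rw [e1, e2, Nat.succ_div_of_not_dvd fun hd => by
        have hev : 2 ∣ i := even_iff_two_dvd.1 (Nat.not_odd_iff_even.1 hio')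
        have := hev.trans hd
        omega]
  · -- no element without fixed vectors in odd dimension
    have hpat := orth_isRootPattern hr hr2 (by
      rw [Ne, CharP.cast_eq_zero_iff F p]
      exact fun h => hrp ((Nat.prime_dvd_prime_iff_eq Fact.out hr).1 h).symm) _ (oddQ_nondeg h2 m) hg hgr
    obtain ⟨hm, hd, -, hs⟩ := hpat
    have hrev := (sym_iff_reverse hd).1 hs
    have h1 := congrArg (Polynomial.eval (1 : F)) hrev
    rw [Polynomial.eval_mul, Polynomial.eval_C, hcard, (odd_two_mul_add_one m).neg_one_pow] at h1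
    have h3 : ∀ P : Polynomial F, P.reverse.eval 1 = P.eval 1 := fun P => by
      letI : Invertible (1 : F) := invertibleOne
      have h := Polynomial.eval₂_reverse_mul_pow (RingHom.id F) (1 : F) P
      simpa [invOf_one] using h
    rw [h3] at h1
    refine (fix_iff_eval _).1 hfix ?_
    have h5 : (2 : F) * ((g : Matrix (Unit ⊕ (Fin m ⊕ Fin m)) (Unit ⊕ (Fin m ⊕ Fin m)) F).charpoly.eval 1) = 0 := by linear_combination h1
    exact (mul_eq_zero.1 h5).resolve_left h2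

theorem plus_orth_class_count {p q : ℕ} [Fact p.Prime] [CharP F p] (hF : Fintype.card F = q)
    (m i t : ℕ) (hm : 1 ≤ m) (hr : r.Prime) (hr2 : r ≠ 2) (hrp : r ≠ p) (hi : i = orderOf (q : ZMod r))
    (ht : t * i = r - 1) :
    Nat.card {C : ConjClasses ↥(Cfsg.isometryGroup F (Cfsg.quadFormPlus m F)) //
        ∃ g : ↥(Cfsg.isometryGroup F (Cfsg.quadFormPlus m F)), ConjClasses.mk g = C ∧ orderOf g = r} =
      if Odd i then Nat.choose (m / i + t / 2) (t / 2) - 1
      else Nat.choose (2 * m / i + t) t - 1 -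
        (if i ∣ 2 * m ∧ Odd (2 * m / i) then Nat.choose (2 * m / i + t - 1) (t - 1) else 0) := by
  classical
  obtain ⟨u, hu, hio, hipos, ht1, ho, he⟩ := orth_setup hF hr hr2 hrp hi ht
  obtain ⟨m, rfl⟩ : ∃ k, m = k + 1 := ⟨m - 1, by omega⟩
  obtain ⟨a, b, hab⟩ := exists_anisotropic_binary (F := F)
  have hcard : Fintype.card (Fin (m + 1) ⊕ Fin (m + 1)) = (2 * m + 1) + 1 := by
    simp only [Fintype.card_sum, Fintype.card_fin]; omega
  rw [← plusQ_coe, card_classes_orderOf hr,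
    orth_card_classes_pow (p := p) hr hr2 hrp hcard u hu (plusQ (m + 1) F) (plusQ_nondeg _)
      ((r : ℤ) ∣ (Fintype.card F : ℤ) ^ (m + 1) - 1)
      (fun g hg hgr hfix => plus_dvd hr hr2 (not_dvd_card (p := p) hr hrp) hg hgr hfix)
      (blockEmbeds_of_full hr hr2 (not_dvd_card (p := p) hr hrp) _ (plusQ_nondeg _) hab _
        (fun k hk _ _ => by
          obtain rfl : k = m := by omega
          exact ⟨LinearMap.id, fun v => by rw [LinearMap.id_apply, plusQ_coe]⟩)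
        (fun k hk hA hB => by
          obtain rfl : k = m := by omega
          exact (not_dvd_both hr hr2 _ hA hB).elim))]
  have hdiv : ((r : ℤ) ∣ (Fintype.card F : ℤ) ^ (m + 1) - 1) ↔ i ∣ m + 1 := by
    rw [pow_eq_one_iff_dvd hr u hu, hio]
  rw [show 2 * m + 1 + 1 = 2 * (m + 1) by ring, show 2 * m + 1 = 2 * (m + 1) - 1 by omega]
  generalize m + 1 = M at hdiv hm ⊢
  by_cases hio' : Odd i
  · rw [if_pos hio']
    obtain ⟨e1, e2, -⟩ := ho hio'
    rw [e1, e2]
    split_ifs with hA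
    · rw [Nat.mul_div_mul_left _ _ two_pos]
    · rw [pred_div_of_not_dvd (by omega) fun hd => hA (hdiv.2 ((Nat.mul_dvd_mul_iff_left two_pos).1 hd)),
        Nat.mul_div_mul_left _ _ two_pos]
  · rw [if_neg hio']
    obtain ⟨e1, e2⟩ := he hio'
    rw [e1, e2]
    by_cases hA : (r : ℤ) ∣ (Fintype.card F : ℤ) ^ M - 1
    · rw [if_pos hA, if_neg, Nat.sub_zero]
      rintro ⟨-, hodd⟩
      obtain ⟨c, hc⟩ := hdiv.1 hA
      rw [hc, ← mul_assoc, mul_comm 2 i, mul_assoc, Nat.mul_div_cancel_left _ hipos] at hodd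
      exact Nat.not_odd_iff_even.2 (even_two_mul c) hodd
    · rw [if_neg hA]
      by_cases hd : i ∣ 2 * M
      · have hK : 1 ≤ 2 * M / i := by
          obtain ⟨c, hc⟩ := hd
          rw [hc, Nat.mul_div_cancel_left _ hipos]
          rcases Nat.eq_zero_or_pos c with h | h
          · rw [h, mul_zero] at hc; omega
          · exact h
        have hodd : Odd (2 * M / i) := by
          rw [← Nat.not_even_iff_odd]
          rintro ⟨c, hc⟩
          refine hA (hdiv.2 ⟨c, ?_⟩)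
          have := Nat.div_mul_cancel hd
          rw [hc] at this
          linarith
        rw [if_pos ⟨hd, hodd⟩, ← choose_pred hK ht1, show (2 * M - 1) / i = 2 * M / i - 1 by
          rw [← pred_div_of_dvd (by omega) hd, Nat.add_sub_cancel]]
      · rw [if_neg fun h => hd h.1, pred_div_of_not_dvd (by omega) hd, Nat.sub_zero]

theorem minus_orth_class_count {p q : ℕ} [Fact p.Prime] [CharP F p] (hF : Fintype.card F = q)
    (m i t : ℕ) (hm : 1 ≤ m) (a b : F)
    (hab : ∀ z₁ z₂ : F, z₁ ^ 2 + a * z₁ * z₂ + b * z₂ ^ 2 = 0 → z₁ = 0 ∧ z₂ = 0)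
    (hr : r.Prime) (hr2 : r ≠ 2) (hrp : r ≠ p) (hi : i = orderOf (q : ZMod r)) (ht : t * i = r - 1) :
    Nat.card {C : ConjClasses ↥(Cfsg.isometryGroup F (Cfsg.quadFormMinus (m - 1) F a b)) //
        ∃ g : ↥(Cfsg.isometryGroup F (Cfsg.quadFormMinus (m - 1) F a b)),
          ConjClasses.mk g = C ∧ orderOf g = r} =
      if Odd i then Nat.choose (m / i + t / 2) (t / 2) - 1 -
        (if i ∣ m then Nat.choose (m / i + t / 2 - 1) (t / 2 - 1) else 0)
      else Nat.choose (2 * m / i + t) t - 1 -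
        (if i ∣ 2 * m ∧ Even (2 * m / i) then Nat.choose (2 * m / i + t - 1) (t - 1) else 0) := by
  classical
  obtain ⟨u, hu, hio, hipos, ht1, ho, he⟩ := orth_setup hF hr hr2 hrp hi ht
  obtain ⟨m, rfl⟩ : ∃ k, m = k + 1 := ⟨m - 1, by omega⟩
  rw [Nat.add_sub_cancel]
  have hcard : Fintype.card ((Fin m ⊕ Fin m) ⊕ Fin 2) = (2 * m + 1) + 1 := by
    simp only [Fintype.card_sum, Fintype.card_fin]; omega
  rw [← minusQ_coe, card_classes_orderOf hr,
    orth_card_classes_pow (p := p) hr hr2 hrp hcard u hu (minusQ m F a b) (minusQ_nondeg hab m)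
      ((r : ℤ) ∣ (Fintype.card F : ℤ) ^ (m + 1) + 1)
      (fun g hg hgr hfix => minus_dvd hr hr2 (not_dvd_card (p := p) hr hrp) hab hg hgr hfix)
      (blockEmbeds_of_full hr hr2 (not_dvd_card (p := p) hr hrp) _ (minusQ_nondeg hab m) hab _
        (fun k hk hA hB => by
          obtain rfl : k = m := by omega
          exact (not_dvd_both hr hr2 _ hB hA).elim)
        (fun k hk _ _ => by
          obtain rfl : k = m := by omega
          exact ⟨LinearMap.id, fun v => by rw [LinearMap.id_apply, minusQ_coe]⟩))]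
  have hdiv : ((r : ℤ) ∣ (Fintype.card F : ℤ) ^ (m + 1) + 1) ↔ ¬ i ∣ m + 1 ∧ i ∣ 2 * (m + 1) := by
    rw [pow_eq_neg_one_iff_dvd hr hr2 u hu, hio]
  rw [show 2 * m + 1 + 1 = 2 * (m + 1) by ring, show 2 * m + 1 = 2 * (m + 1) - 1 by omega]
  generalize m + 1 = M at hdiv hm ⊢
  by_cases hio' : Odd i
  · rw [if_pos hio']
    obtain ⟨e1, e2, ht2⟩ := ho hio'
    rw [e1, e2, if_neg fun hA => (hdiv.1 hA).1 ((Nat.coprime_two_right.2 hio').dvd_of_dvd_mul_left (hdiv.1 hA).2)]
    by_cases hd : i ∣ M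
    · have hK : 1 ≤ M / i := (Nat.one_le_div_iff hipos).2 (Nat.le_of_dvd (by omega) hd)
      rw [if_pos hd, ← choose_pred hK ht2]
      have hd2 : 2 * i ∣ 2 * M := mul_dvd_mul_left 2 hd
      rw [show (2 * M - 1) / (2 * i) = M / i - 1 by
        rw [← Nat.mul_div_mul_left M i two_pos, ← pred_div_of_dvd (by omega) hd2, Nat.add_sub_cancel]]
    · rw [if_neg hd, Nat.sub_zero, pred_div_of_not_dvd (by omega) fun h => hd ((Nat.mul_dvd_mul_iff_left two_pos).1 h),
        Nat.mul_div_mul_left _ _ two_pos]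
  · rw [if_neg hio']
    obtain ⟨e1, e2⟩ := he hio'
    rw [e1, e2]
    by_cases hd : i ∣ 2 * M
    · by_cases hM : i ∣ M
      · obtain ⟨c, hc⟩ := hM
        have hKe : 2 * M / i = 2 * c := by
          rw [hc, ← mul_assoc, mul_comm 2 i, mul_assoc, Nat.mul_div_cancel_left _ hipos]
        have hK : 1 ≤ 2 * M / i := (Nat.one_le_div_iff hipos).2 (Nat.le_of_dvd (by omega) hd)
        rw [if_neg fun hA => (hdiv.1 hA).1 ⟨c, hc⟩, if_pos ⟨hd, by rw [hKe]; exact even_two_mul c⟩,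
          ← choose_pred hK ht1, show (2 * M - 1) / i = 2 * M / i - 1 by
            rw [← pred_div_of_dvd (by omega) hd, Nat.add_sub_cancel]]
      · rw [if_pos (hdiv.2 ⟨hM, hd⟩), if_neg, Nat.sub_zero]
        rintro ⟨-, ⟨c, hc⟩⟩
        refine hM ⟨c, ?_⟩
        have := Nat.div_mul_cancel hd
        rw [hc] at this
        linarith
    · rw [if_neg fun hA => hd (hdiv.1 hA).2, if_neg fun h => hd h.1, Nat.sub_zero,
        pred_div_of_not_dvd (by omega) hd]

end CfsgLib.IsometryConj
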